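import Cfsg.Agent.Lib.Helper19.Aff

/-!
# The groups `M_{n×k}(F) ⋊ G` for a subgroup `G` of `SL(n,F)`
-/

set_option autoImplicit false
set_option linter.style.haveILetI false
set_option linter.unusedSectionVars false

namespace Cfsg.Agent.Lib.Helper19

/-- the group `(Fⁿ)^k ⋊ G`. -/
@[ext] structure AffG {F : Type*} [Field F] {n : ℕ}
    (G : Subgroup (Matrix.SpecialLinearGroup (Fin n) F)) (k : ℕ) where
  /-- linear part -/
  lin : G
  /-- translation part -/
  tr : Matrix (Fin n) (Fin k) F

namespace AffG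

variable {F : Type*} [Field F] {n : ℕ} {G : Subgroup (Matrix.SpecialLinearGroup (Fin n) F)} {k : ℕ}

/-- the underlying matrix -/
def cm (g : G) : Matrix (Fin n) (Fin n) F := ((g : Matrix.SpecialLinearGroup (Fin n) F) :
  Matrix (Fin n) (Fin n) F)

@[simp] theorem cm_mul (g h : G) : cm (g * h) = cm g * cm h := rfl
@[simp] theorem cm_one : cm (1 : G) = 1 := rfl
@[simp] theorem cm_inv_mul (g : G) : cm g⁻¹ * cm g = 1 := by
  rw [← cm_mul, inv_mul_cancel, cm_one]

instance instMul : Mul (AffG G k) :=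
  ⟨fun x y => ⟨x.lin * y.lin, x.tr + cm x.lin * y.tr⟩⟩

instance instOne : One (AffG G k) := ⟨⟨1, 0⟩⟩

instance instInv : Inv (AffG G k) :=
  ⟨fun x => ⟨x.lin⁻¹, -(cm x.lin⁻¹ * x.tr)⟩⟩

@[simp] theorem mul_lin (x y : AffG G k) : (x * y).lin = x.lin * y.lin := rfl
@[simp] theorem mul_tr (x y : AffG G k) : (x * y).tr = x.tr + cm x.lin * y.tr := rfl
@[simp] theorem one_lin : (1 : AffG G k).lin = 1 := rfl
@[simp] theorem one_tr : (1 : AffG G k).tr = 0 := rfl
@[simp] theorem inv_lin (x : AffG G k) : (x⁻¹).lin = x.lin⁻¹ := rfl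
@[simp] theorem inv_tr (x : AffG G k) : (x⁻¹).tr = -(cm x.lin⁻¹ * x.tr) := rfl

instance instGroup : Group (AffG G k) :=
  Group.ofLeftAxioms
    (fun a b c => by
      ext1
      · simp [mul_assoc]
      · simp [Matrix.mul_add, Matrix.mul_assoc, add_assoc])
    (fun a => by
      ext1
      · simp
      · simp)
    (fun a => by
      ext1
      · simp
      · simp)

/-- projection to the linear part. -/
def linHom : AffG G k →* G where
  toFun := lin
  map_one' := rfl
  map_mul' _ _ := rfl

@[simp] theorem linHom_apply (x : AffG G k) : linHom x = x.lin := rfl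

/-- the complement. -/
def inl : G →* AffG G k where
  toFun A := ⟨A, 0⟩
  map_one' := rfl
  map_mul' A B := by
    ext1
    · rfl
    · simp

theorem inl_injective : Function.Injective (inl : G →* AffG G k) := by
  intro A B h
  exact congrArg lin h

theorem pow_lin (x : AffG G k) (j : ℕ) : (x ^ j).lin = x.lin ^ j := map_pow linHom x j

instance instFinite [Finite F] : Finite (AffG G k) :=
  Finite.of_injective (fun x : AffG G k => (x.lin, x.tr)) (by
    intro x y h
    simp only [Prod.mk.injEq] at h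
    exact AffG.ext h.1 h.2)

theorem lt_card [Finite F] (hn : 0 < n) : k < Nat.card (AffG G k) := by
  classical
  have h1 : Nat.card (Fin k → F) ≤ Nat.card (AffG G k) :=
    Nat.card_le_card_of_injective (fun w : Fin k → F => (⟨1, fun _ j => w j⟩ : AffG G k)) (by
      intro w w' h
      have := congrArg AffG.tr h
      funext j
      exact congrFun (congrFun this ⟨0, hn⟩) j)
  have h2 : Nat.card (Fin k → F) = Nat.card F ^ k := by
    rw [Nat.card_fun, Nat.card_fin]
  have h3 : 2 ≤ Nat.card F := Finite.one_lt_card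
  calc k < 2 ^ k := Nat.lt_two_pow_self
    _ ≤ Nat.card F ^ k := Nat.pow_le_pow_left h3 k
    _ = Nat.card (Fin k → F) := h2.symm
    _ ≤ _ := h1

theorem pow_eq_one_of_det_ne (x : AffG G k) (ht : (cm x.lin - 1).det ≠ 0) (j : ℕ)
    (hn : x.lin ^ j = 1) : x ^ j = 1 := by
  have hl : (x ^ j).lin = 1 := by rw [pow_lin, hn]
  have hc : x * x ^ j = x ^ j * x := (Commute.self_pow x j).eq
  have h2 := congrArg AffG.tr hc
  simp only [mul_tr, hl, cm_one, Matrix.one_mul] at h2
  have h3 : (cm x.lin - 1) * (x ^ j).tr = 0 := by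
    rw [Matrix.sub_mul, Matrix.one_mul, sub_eq_zero]
    rw [add_comm] at h2
    exact add_right_cancel h2
  have hu : IsUnit (cm x.lin - 1) :=
    (Matrix.isUnit_iff_isUnit_det _).mpr (isUnit_iff_ne_zero.mpr ht)
  obtain ⟨B, hB⟩ := hu.exists_left_inv
  have h4 : (x ^ j).tr = 0 := by
    have := congrArg (fun M => B * M) h3
    simpa [← Matrix.mul_assoc, hB] using this
  exact AffG.ext hl h4

theorem orderOf_eq_of_det_ne (x : AffG G k) (ht : (cm x.lin - 1).det ≠ 0) :
    orderOf x = orderOf x.lin := by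
  apply Nat.dvd_antisymm
  · exact orderOf_dvd_of_pow_eq_one (pow_eq_one_of_det_ne x ht _ (pow_orderOf_eq_one _))
  · exact orderOf_map_dvd linHom x

theorem pow_eight [CharP F 2] (x : AffG G k) (h : x.lin ^ 4 = 1) : x ^ 8 = 1 := by
  have h1 : (x ^ 4).lin = 1 := by rw [pow_lin, h]
  have h2 : x ^ 8 = x ^ 4 * x ^ 4 := by rw [← pow_add]
  rw [h2]
  apply AffG.ext
  · simp [h1]
  · simp only [mul_tr, h1, cm_one, Matrix.one_mul, one_tr]
    rw [← two_smul F, two_eq_zero_F, zero_smul]

theorem samePG [CharP F 2] [Finite F] (h2 : 2 ∣ Nat.card G)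
    (hG : ∀ g : G, g ^ 4 = 1 ∨ (cm g - 1).det ≠ 0) : SamePG G (AffG G k) := by
  have key : ∀ x : AffG G k, x ^ 8 = 1 ∨ orderOf x = orderOf x.lin := by
    intro x
    rcases hG x.lin with h | h
    · exact Or.inl (pow_eight x h)
    · exact Or.inr (orderOf_eq_of_det_ne x h)
  constructor
  · intro p hp
    constructor
    · intro h
      exact h.trans (Subgroup.card_dvd_of_injective inl inl_injective)
    · intro h
      haveI := Fact.mk hp
      obtain ⟨x, hx⟩ := exists_prime_orderOf_dvd_card' p h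
      rcases key x with h4 | h4
      · have h5 : p ∣ 2 ^ 3 := hx ▸ orderOf_dvd_of_pow_eq_one h4
        have hp2 : p = 2 := (Nat.prime_dvd_prime_iff_eq hp Nat.prime_two).mp (hp.dvd_of_dvd_pow h5)
        rw [hp2]
        exact h2
      · rw [← hx, h4]
        exact orderOf_dvd_natCard _
  · intro p q hp hq hpq
    constructor
    · rintro ⟨g, hg⟩
      exact ⟨inl g, by rw [orderOf_injective _ inl_injective, hg]⟩
    · rintro ⟨x, hx⟩
      rcases key x with h4 | h4
      · exfalso
        have h5 : p * q ∣ 2 ^ 3 := hx ▸ orderOf_dvd_of_pow_eq_one h4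
        have hp2 : p = 2 := (Nat.prime_dvd_prime_iff_eq hp Nat.prime_two).mp
          (hp.dvd_of_dvd_pow ((dvd_mul_right p q).trans h5))
        have hq2 : q = 2 := (Nat.prime_dvd_prime_iff_eq hq Nat.prime_two).mp
          (hq.dvd_of_dvd_pow ((dvd_mul_left q p).trans h5))
        exact hpq (hp2.trans hq2.symm)
      · exact ⟨x.lin, by rw [← h4, hx]⟩

end AffG

end Cfsg.Agent.Lib.Helper19
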