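import Mathlib
import Cfsg.Agent.Lib.Helper19.ESB

set_option autoImplicit false

namespace Cfsg.Agent.Lib.Helper19.ES

open Classical

/-- a group in which squares and commutators lie in `{1, z}`, `z` a central involution -/
structure Q2 (G : Type*) [Group G] (z : G) : Prop where
  z1 : z ≠ 1
  zz : z * z = 1
  zc : ∀ g : G, Commute z g
  sq : ∀ a : G, a * a = 1 ∨ a * a = z
  cm : ∀ a b : G, a * b = b * a ∨ a * b = b * a * z

noncomputable def eps {G : Type*} [Group G] (a : G) : ℤ := if a * a = 1 then 1 else -1

noncomputable def chi {G : Type*} [Group G] (a b : G) : ℤ := if a * b = b * a then 1 else -1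

theorem sum_hom {H : Type*} [Group H] [Fintype H] (f : H → ℤ) (hm : ∀ a b, f (a * b) = f a * f b)
    (h1 : ∀ a, f a = 1 ∨ f a = -1) : ∑ a, f a = if ∀ a, f a = 1 then (Fintype.card H : ℤ) else 0 := by
  split_ifs with h
  · simp [h]
  · push Not at h
    obtain ⟨a0, ha0⟩ := h
    have ha : f a0 = -1 := (h1 a0).resolve_left ha0
    have e : ∑ a, f a = ∑ a, f (a0 * a) := (Equiv.sum_comp (Equiv.mulLeft a0) f).symm
    have e2 : ∑ a, f (a0 * a) = - ∑ a, f a := by
      rw [← Finset.sum_neg_distrib]
      refine Finset.sum_congr rfl fun a _ => ?_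
      rw [hm, ha]; ring
    linarith

variable {G : Type*} [Group G] {z : G}

theorem eps_sq (a : G) : eps a * eps a = 1 := by unfold eps; split_ifs <;> norm_num

theorem eps_one : eps (1 : G) = 1 := by simp [eps]

theorem eps_cases (a : G) : eps a = 1 ∨ eps a = -1 := by unfold eps; split_ifs <;> simp

theorem chi_cases (a b : G) : chi a b = 1 ∨ chi a b = -1 := by unfold chi; split_ifs <;> simp

theorem chi_of_comm {a b : G} (h : a * b = b * a) : chi a b = 1 := by simp [chi, h]

namespace Q2

theorem ne_of_z (h : Q2 G z) {a b : G} (e : a = b * z) : a ≠ b := by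
  intro hab
  rw [hab] at e
  exact h.z1 (mul_left_cancel (a := b) (by rw [mul_one]; exact e.symm))

theorem eps_mul (h : Q2 G z) (u y : G) : eps (u * y) = eps u * eps y * chi u y := by
  by_cases hc : u * y = y * u
  · have e : u * y * (u * y) = (u * u) * (y * y) := by
      calc u * y * (u * y) = u * (y * u) * y := by simp only [mul_assoc]
        _ = u * (u * y) * y := by rw [hc]
        _ = _ := by simp only [mul_assoc]
    have h1 : chi u y = 1 := chi_of_comm hc
    have h2 : eps (u * y) = if (u * u) * (y * y) = 1 then 1 else -1 := by unfold eps; rw [e]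
    rw [h1, h2]
    rcases h.sq u with hu | hu <;> rcases h.sq y with hy | hy <;>
      simp [eps, hu, hy, h.z1, h.zz]
  · have hc' : u * y = y * u * z := (h.cm u y).resolve_left hc
    have hyu : y * u = u * y * z := by rw [hc', mul_assoc, h.zz, mul_one]
    have e : u * y * (u * y) = (u * u) * (y * y) * z := by
      calc u * y * (u * y) = u * (y * u) * y := by simp only [mul_assoc]
        _ = u * (u * y * z) * y := by rw [hyu]
        _ = u * u * y * (z * y) := by simp only [mul_assoc]
        _ = u * u * y * (y * z) := by rw [(h.zc y).eq]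
        _ = _ := by simp only [mul_assoc]
    have h1 : chi u y = -1 := by simp [chi, hc]
    have h2 : eps (u * y) = if (u * u) * (y * y) * z = 1 then 1 else -1 := by unfold eps; rw [e]
    rw [h1, h2]
    rcases h.sq u with hu | hu <;> rcases h.sq y with hy | hy <;>
      simp [eps, hu, hy, h.z1, h.zz]

theorem chi_mul (h : Q2 G z) (u y y' : G) : chi u (y * y') = chi u y * chi u y' := by
  rcases h.cm u y with h1 | h1 <;> rcases h.cm u y' with h2 | h2
  · have e : u * (y * y') = y * y' * u := by
      rw [← mul_assoc, h1, mul_assoc, h2, mul_assoc]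
    simp [chi, h1, h2, e]
  · have e : u * (y * y') = y * y' * u * z := by
      rw [← mul_assoc, h1, mul_assoc, h2]; simp only [mul_assoc]
    simp [chi, h1, h.ne_of_z h2, h.ne_of_z e]
  · have e : u * (y * y') = y * y' * u * z := by
      calc u * (y * y') = (u * y) * y' := by rw [mul_assoc]
        _ = y * u * (z * y') := by rw [h1]; simp only [mul_assoc]
        _ = y * (u * y') * z := by rw [(h.zc y').eq]; simp only [mul_assoc]
        _ = _ := by rw [h2]; simp only [mul_assoc]
    simp [chi, h2, h.ne_of_z h1, h.ne_of_z e]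
  · have e : u * (y * y') = y * y' * u := by
      calc u * (y * y') = (u * y) * y' := by rw [mul_assoc]
        _ = y * u * (z * y') := by rw [h1]; simp only [mul_assoc]
        _ = y * (u * y') * z := by rw [(h.zc y').eq]; simp only [mul_assoc]
        _ = y * y' * u * (z * z) := by rw [h2]; simp only [mul_assoc]
        _ = _ := by rw [h.zz, mul_one]
    simp [chi, e, h.ne_of_z h1, h.ne_of_z h2]

theorem chi_eq_one_iff (u y : G) : chi u y = 1 ↔ u * y = y * u := by
  unfold chi; split_ifs with h <;> simp [h]

/-- averaging over a subgroup -/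
theorem sum_sub [Fintype G] (h : Q2 G z) (A : Subgroup G) (hA : ∀ a ∈ A, a * a = 1) :
    (Nat.card A : ℤ) * ∑ g : G, eps g =
      (Nat.card A : ℤ) * ∑ g : G, (if ∀ a ∈ A, g * a = a * g then eps g else 0) := by
  have : Fintype A := Fintype.ofFinite A
  have h1 : ∀ a : A, ∑ g : G, eps g = ∑ g : G, eps g * chi g a := by
    intro a
    rw [← Equiv.sum_comp (Equiv.mulRight (a : G)) eps]
    refine Finset.sum_congr rfl fun g _ => ?_
    have : eps (a : G) = 1 := by simp [eps, hA a a.2]
    simp only [Equiv.coe_mulRight]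
    rw [h.eps_mul, this, mul_one]
  have h2 : (Nat.card A : ℤ) * ∑ g : G, eps g = ∑ a : A, ∑ g : G, eps g * chi g a := by
    rw [← Finset.sum_congr rfl (fun a _ => h1 a), Finset.sum_const, Finset.card_univ, nsmul_eq_mul,
      Nat.card_eq_fintype_card]
  rw [h2, Finset.sum_comm, Finset.mul_sum]
  refine Finset.sum_congr rfl fun g _ => ?_
  rw [← Finset.mul_sum, sum_hom (fun a : A => chi g a) (fun a b => by simp [h.chi_mul])
    (fun a => chi_cases _ _)]
  have hiff : (∀ a : A, chi g a = 1) ↔ ∀ a ∈ A, g * a = a * g := by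
    simp only [chi_eq_one_iff]
    exact ⟨fun hh a ha => hh ⟨a, ha⟩, fun hh a => hh a a.2⟩
  by_cases hc : ∀ a ∈ A, g * a = a * g
  · rw [if_pos (hiff.2 hc), if_pos hc, Nat.card_eq_fintype_card]; ring
  · rw [if_neg (fun hh => hc (hiff.1 hh)), if_neg hc]; ring

theorem gauss [Fintype G] (h : Q2 G z) :
    (∑ x : G, eps x) ^ 2 = (Fintype.card G : ℤ) * ∑ u : G, (if ∀ y, u * y = y * u then eps u else 0) := by
  calc (∑ x : G, eps x) ^ 2 = ∑ y : G, ∑ x : G, eps x * eps y := by
        rw [pow_two, Finset.sum_mul_sum]; exact Finset.sum_comm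
    _ = ∑ y : G, ∑ u : G, eps (u * y) * eps y := by
        refine Finset.sum_congr rfl fun y _ => ?_
        exact (Equiv.sum_comp (Equiv.mulRight y) (fun x => eps x * eps y)).symm
    _ = ∑ y : G, ∑ u : G, eps u * chi u y := by
        refine Finset.sum_congr rfl fun y _ => Finset.sum_congr rfl fun u _ => ?_
        rw [h.eps_mul]
        calc eps u * eps y * chi u y * eps y = eps u * chi u y * (eps y * eps y) := by ring
          _ = _ := by rw [eps_sq, mul_one]
    _ = ∑ u : G, eps u * ∑ y : G, chi u y := by
        rw [Finset.sum_comm]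
        refine Finset.sum_congr rfl fun u _ => ?_
        rw [Finset.mul_sum]
    _ = _ := by
        rw [Finset.mul_sum]
        refine Finset.sum_congr rfl fun u _ => ?_
        rw [sum_hom (fun y => chi u y) (fun a b => h.chi_mul u a b) (fun a => chi_cases _ _)]
        simp only [chi_eq_one_iff]
        split_ifs <;> ring

end Q2

/-- the sum of `eps` in terms of the number of solutions of `x ^ 2 = 1` -/
theorem sum_eps [Fintype G] : ∑ x : G, eps x = 2 * (Nat.card {x : G // x ^ 2 = 1} : ℤ) - Nat.card G := by
  have h1 : Nat.card {x : G // x ^ 2 = 1} = (Finset.univ.filter fun x : G => x * x = 1).card := by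
    rw [Nat.card_eq_fintype_card, Fintype.card_subtype]
    congr 1; ext x; simp [sq]
  have h2 := Finset.card_filter_add_card_filter_not (s := (Finset.univ : Finset G)) (fun x : G => x * x = 1)
  rw [Finset.card_univ, ← Nat.card_eq_fintype_card] at h2
  unfold eps
  rw [Finset.sum_ite, Finset.sum_const, Finset.sum_const, h1, ← h2]
  push_cast
  simp only [nsmul_eq_mul]
  ring

end Cfsg.Agent.Lib.Helper19.ES
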