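import Mathlib
import Cfsg.Agent.Lib.Helper19.ESC

set_option autoImplicit false

namespace Cfsg.Agent.Lib.Helper19.ES

open Classical

universe u v

/-- the signed count `#{x² = 1} - #{x² ≠ 1}` -/
noncomputable def SS (E : Type*) [Group E] : ℤ := 2 * (Nat.card {x : E // x ^ 2 = 1} : ℤ) - Nat.card E

theorem sum_eps' {E : Type*} [Group E] [Fintype E] : ∑ x : E, eps x = SS E := sum_eps

theorem eps_coe {E : Type*} [Group E] {C : Subgroup E} (c : C) : eps c = eps (c : E) := by
  unfold eps
  have : c * c = 1 ↔ (c : E) * (c : E) = 1 := by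
    rw [Subtype.ext_iff]; simp
  simp only [this]

namespace IsES

variable {E : Type*} [Group E] {z : E}

theorem mem2 [Finite E] (h : IsES 2 E z) (g : E) : g ∈ Subgroup.zpowers z ↔ g = 1 ∨ g = z := by
  constructor
  · intro hg
    obtain ⟨n, rfl⟩ := exists_pow hg
    rw [← pow_mod_orderOf, h.ord]
    rcases Nat.mod_two_eq_zero_or_one n with h1 | h1 <;> simp [h1]
  · rintro (rfl | rfl)
    · exact Subgroup.one_mem _
    · exact Subgroup.mem_zpowers _

theorem toQ2 [Finite E] (h : IsES 2 E z) : Q2 E z where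
  z1 := by
    intro h1
    have := h.ord
    rw [h1, orderOf_one] at this
    omega
  zz := by rw [← sq]; exact h.zp
  zc := h.zc
  sq := by
    intro a
    rw [← sq]; exact (h.mem2 _).1 (h.pw a)
  cm := by
    intro a b
    obtain ⟨m, hm⟩ := h.comm_exp a b
    rcases (h.mem2 (z ^ m)).1 (Subgroup.pow_mem _ (Subgroup.mem_zpowers z) m) with h1 | h1
    · left; rw [hm, h1, mul_one]
    · right; rw [hm, h1]

theorem central_iff [Finite E] (h : IsES 2 E z) (u : E) : (∀ y, u * y = y * u) ↔ u = 1 ∨ u = z := by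
  rw [← h.mem2, ← h.cen]
  exact Iff.rfl

theorem SS_sq [Finite E] (h : IsES 2 E z) : (SS E) ^ 2 = 2 * (Nat.card E : ℤ) := by
  have : Fintype E := Fintype.ofFinite E
  have hq := h.toQ2
  rw [← sum_eps', hq.gauss, Nat.card_eq_fintype_card]
  have h1 : ∑ u : E, (if ∀ y, u * y = y * u then eps u else 0) = 2 := by
    simp only [h.central_iff]
    rw [← Finset.sum_filter]
    have : (Finset.univ.filter fun u : E => u = 1 ∨ u = z) = {1, z} := by
      ext u; simp
    rw [this, Finset.sum_pair (Ne.symm hq.z1), eps_one]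
    simp [eps, hq.zz]
  rw [h1]; ring

end IsES

theorem Peel.SS_eq {E : Type*} [Group E] [Finite E] {z x y : E} {C : Subgroup E} {a b : ℕ} (hq : Q2 E z)
    (hP : Peel 2 z x y C a b) : SS E = (1 + eps x + eps y - eps x * eps y) * SS C := by
  have : Fintype E := Fintype.ofFinite E
  have : Fintype C := Fintype.ofFinite C
  rw [← sum_eps', ← sum_eps']
  have key : ∀ u : E, (∀ c ∈ C, Commute c u) → ∑ c : C, eps (u * (c : E)) = eps u * ∑ c : C, eps c := by
    intro u hu
    rw [Finset.mul_sum]
    refine Finset.sum_congr rfl fun c _ => ?_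
    rw [hq.eps_mul, chi_of_comm (hu c c.2).eq.symm, mul_one, eps_coe]
  have k1 : ∑ c : C, eps (c : E) = ∑ c : C, eps c := Finset.sum_congr rfl fun c _ => (eps_coe c).symm
  have k2 := key x hP.xC
  have k3 := key y hP.yC
  have k4 := key (x * y) (fun c hc => (hP.xC c hc).mul_right (hP.yC c hc))
  have hxy : eps (x * y) = - (eps x * eps y) := by
    have hne : x * y ≠ y * x := by
      intro he
      exact hq.ne_of_z hP.yx he.symm
    rw [hq.eps_mul]
    simp [chi, hne]
  rw [← Equiv.sum_comp (Equiv.ofBijective _ (hP.bij two_pos))]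
  simp only [Equiv.ofBijective_apply, Fintype.sum_prod_type, Fin.sum_univ_two, Fin.val_zero, Fin.val_one,
    pow_zero, pow_one, one_mul, mul_one]
  rw [k1, k2, k3, k4, hxy]
  ring

section count

variable {E : Type*} [Group E] [Finite E] {z : E}

theorem s_ge (hz1 : z ≠ 1) (hzz : z * z = 1) {x : E} (hx : x * x = 1) (hx1 : x ≠ 1) (hxz : x ≠ z) :
    3 ≤ Nat.card {x : E // x ^ 2 = 1} := by
  have : Fintype E := Fintype.ofFinite E
  rw [Nat.card_eq_fintype_card, Fintype.card_subtype]
  have hsub : ({1, z, x} : Finset E) ⊆ Finset.univ.filter fun x : E => x ^ 2 = 1 := by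
    intro w hw
    simp only [Finset.mem_insert, Finset.mem_singleton] at hw
    simp only [Finset.mem_filter, Finset.mem_univ, true_and, sq]
    rcases hw with rfl | rfl | rfl
    · simp
    · exact hzz
    · exact hx
  have hc : ({1, z, x} : Finset E).card = 3 := by
    rw [Finset.card_insert_of_notMem, Finset.card_insert_of_notMem, Finset.card_singleton]
    · simp [Ne.symm hxz]
    · simp [Ne.symm hz1, Ne.symm hx1]
  calc 3 = _ := hc.symm
    _ ≤ _ := Finset.card_le_card hsub

theorem s_le (hall : ∀ x : E, x * x = 1 → x = 1 ∨ x = z) : Nat.card {x : E // x ^ 2 = 1} ≤ 2 := by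
  have : Fintype E := Fintype.ofFinite E
  rw [Nat.card_eq_fintype_card, Fintype.card_subtype]
  have hsub : (Finset.univ.filter fun x : E => x ^ 2 = 1) ⊆ ({1, z} : Finset E) := by
    intro w hw
    simp only [Finset.mem_filter, Finset.mem_univ, true_and, sq] at hw
    simp only [Finset.mem_insert, Finset.mem_singleton]
    exact hall w hw
  exact (Finset.card_le_card hsub).trans Finset.card_le_two

end count

namespace IsES

variable {E : Type*} [Group E] [Finite E] {z : E}

theorem exists_noncomm (h : IsES 2 E z) {x : E} (hx1 : x ≠ 1) (hxz : x ≠ z) : ∃ y, y * x = x * y * z := by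
  have h1 : ¬ ∀ k : E, Commute x k := by
    rw [h.cen, h.mem2]; push Not; exact ⟨hx1, hxz⟩
  push Not at h1
  obtain ⟨y, hy⟩ := h1
  refine ⟨y, (h.toQ2.cm y x).resolve_left ?_⟩
  intro he; exact hy he.symm

/-- standard peel of a non-cyclic group of extraspecial type -/
theorem std_peel (h : IsES 2 E z) (hg : ∃ g : E, g ≠ 1 ∧ g ≠ z) :
    ∃ x y : E, (Peel 2 z x y (Subgroup.centralizer {x, y}) 0 0 ∧ eps x = 1 ∧ eps y = 1 ∧
        3 ≤ Nat.card {x : E // x ^ 2 = 1}) ∨
      (Peel 2 z x y (Subgroup.centralizer {x, y}) 1 1 ∧ eps x = -1 ∧ eps y = -1 ∧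
        Nat.card {x : E // x ^ 2 = 1} ≤ 2) := by
  have hq := h.toQ2
  by_cases hA : ∃ x : E, x * x = 1 ∧ x ≠ 1 ∧ x ≠ z
  · obtain ⟨x, hx, hx1, hxz⟩ := hA
    obtain ⟨y0, hy0⟩ := h.exists_noncomm hx1 hxz
    obtain ⟨y, hy, hyx⟩ : ∃ y, y * y = 1 ∧ y * x = x * y * z := by
      rcases hq.sq y0 with h0 | h0
      · exact ⟨y0, h0, hy0⟩
      · refine ⟨x * y0, ?_, ?_⟩
        · calc x * y0 * (x * y0) = x * (y0 * x) * y0 := by simp only [mul_assoc]
            _ = x * (x * y0 * z) * y0 := by rw [hy0]
            _ = (x * x) * y0 * (z * y0) := by simp only [mul_assoc]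
            _ = (x * x) * (y0 * y0) * z := by rw [(hq.zc y0).eq]; simp only [mul_assoc]
            _ = 1 := by rw [hx, h0, one_mul, hq.zz]
        · rw [mul_assoc, hy0]; simp only [mul_assoc]
    obtain ⟨a, b, hP⟩ := h.peel hyx
    refine ⟨x, y, Or.inl ⟨{ hP with xp := by rw [sq, hx, pow_zero], yp := by rw [sq, hy, pow_zero] }, ?_, ?_,
      s_ge hq.z1 hq.zz hx hx1 hxz⟩⟩
    · simp [eps, hx]
    · simp [eps, hy]
  · push Not at hA
    have hall : ∀ x : E, x * x = 1 → x = 1 ∨ x = z := by
      intro x hx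
      by_contra hc
      push Not at hc
      exact hc.2 (hA x hx hc.1)
    obtain ⟨x, hx1, hxz⟩ := hg
    obtain ⟨y, hyx⟩ := h.exists_noncomm hx1 hxz
    have hxx : x * x = z := by
      rcases hq.sq x with h0 | h0
      · rcases hall x h0 with h1 | h1
        · exact absurd h1 hx1
        · exact absurd h1 hxz
      · exact h0
    have hyy : y * y = z := by
      rcases hq.sq y with h0 | h0
      · exfalso
        rcases hall y h0 with h1 | h1
        · rw [h1] at hyx
          simp only [one_mul, mul_one] at hyx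
          exact hq.ne_of_z hyx rfl
        · rw [h1] at hyx
          rw [(hq.zc x).eq] at hyx
          exact hq.ne_of_z hyx rfl
      · exact h0
    obtain ⟨a, b, hP⟩ := h.peel hyx
    refine ⟨x, y, Or.inr ⟨{ hP with xp := by rw [sq, hxx, pow_one], yp := by rw [sq, hyy, pow_one] }, ?_, ?_,
      s_le hall⟩⟩
    · simp [eps, hxx, hq.z1]
    · simp [eps, hyy, hq.z1]

theorem eq_top_of_card (h : IsES 2 E z) (hc : Nat.card E = 2) : ∀ g : E, g ∈ Subgroup.zpowers z := by
  have : Subgroup.zpowers z = ⊤ := Subgroup.eq_top_of_card_eq _ (by rw [Nat.card_zpowers, h.ord, hc])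
  intro g; rw [this]; exact Subgroup.mem_top g

end IsES

/-- classification: order and signed count determine the group -/
theorem cls2 (n : ℕ) : ∀ (E : Type u) [Group E] [Finite E] (E' : Type v) [Group E'] [Finite E'] (z : E) (z' : E'),
    IsES 2 E z → IsES 2 E' z' → Nat.card E = n → Nat.card E' = n → SS E = SS E' →
    ∃ Φ : E ≃* E', Φ z = z' := by
  induction n using Nat.strong_induction_on with
  | _ n ih =>
    intro E _ _ E' _ _ z z' h h' hc hc' hS
    have hs : Nat.card {x : E // x ^ 2 = 1} = Nat.card {x : E' // x ^ 2 = 1} := by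
      unfold SS at hS
      rw [hc, hc'] at hS
      omega
    by_cases hg : ∃ g : E, g ≠ 1 ∧ g ≠ z
    · have hg' : ∃ g : E', g ≠ 1 ∧ g ≠ z' := by
        by_contra hcon
        push Not at hcon
        have htop : Subgroup.zpowers z' = ⊤ := by
          rw [eq_top_iff]; intro g _
          rw [h'.mem2]
          by_cases h1 : g = 1
          · exact Or.inl h1
          · exact Or.inr (hcon g h1)
        have h2 : Nat.card E' = 2 := by
          rw [← Subgroup.card_top, ← htop, Nat.card_zpowers, h'.ord]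
        obtain ⟨g, hg1, hgz⟩ := hg
        rcases (h.mem2 g).1 (h.eq_top_of_card (by rw [hc, ← hc', h2]) g) with h3 | h3
        · exact hg1 h3
        · exact hgz h3
      obtain ⟨x, y, hP⟩ := h.std_peel hg
      obtain ⟨x', y', hP'⟩ := h'.std_peel hg'
      have fin : ∀ (e : ℕ) (k : ℤ), k ≠ 0 → (hP : Peel 2 z x y (Subgroup.centralizer {x, y}) e e) →
          (hP' : Peel 2 z' x' y' (Subgroup.centralizer {x', y'}) e e) →
          SS E = k * SS (Subgroup.centralizer ({x, y} : Set E)) →
          SS E' = k * SS (Subgroup.centralizer ({x', y'} : Set E')) → ∃ Φ : E ≃* E', Φ z = z' := by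
        intro e k hk hP hP' e1 e2
        have c1 := hP.card two_pos
        have c2 := hP'.card two_pos
        have hSC : SS (Subgroup.centralizer ({x, y} : Set E)) = SS (Subgroup.centralizer ({x', y'} : Set E')) := by
          apply mul_left_cancel₀ hk
          rw [← e1, ← e2, hS]
        have hpos : 0 < Nat.card (Subgroup.centralizer ({x, y} : Set E)) := Nat.card_pos
        obtain ⟨φ, hφ⟩ := ih (Nat.card (Subgroup.centralizer ({x, y} : Set E))) (by omega)
          (Subgroup.centralizer ({x, y} : Set E)) (Subgroup.centralizer ({x', y'} : Set E'))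
          ⟨z, hP.zC⟩ ⟨z', hP'.zC⟩ (h.sub hP) (h'.sub hP') rfl (by omega) hSC
        exact hP.iso hP' φ (by rw [hφ])
      rcases hP with ⟨hP, ex, ey, hs3⟩ | ⟨hP, ex, ey, hs3⟩ <;>
        rcases hP' with ⟨hP', ex', ey', hs3'⟩ | ⟨hP', ex', ey', hs3'⟩
      · refine fin 0 2 (by norm_num) hP hP' ?_ ?_
        · rw [hP.SS_eq h.toQ2, ex, ey]; norm_num
        · rw [hP'.SS_eq h'.toQ2, ex', ey']; norm_num
      · omega
      · omega
      · refine fin 1 (-2) (by norm_num) hP hP' ?_ ?_
        · rw [hP.SS_eq h.toQ2, ex, ey]; norm_num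
        · rw [hP'.SS_eq h'.toQ2, ex', ey']; norm_num
    · push Not at hg
      have htop : ∀ g : E, g ∈ Subgroup.zpowers z := by
        intro g
        rw [h.mem2]
        by_cases h1 : g = 1
        · exact Or.inl h1
        · exact Or.inr (hg g h1)
      have h2 : Nat.card E = 2 := by
        have : Subgroup.zpowers z = ⊤ := by rw [eq_top_iff]; intro g _; exact htop g
        rw [← Subgroup.card_top, ← this, Nat.card_zpowers, h.ord]
      have htop' := h'.eq_top_of_card (by rw [hc', ← hc, h2])
      exact ⟨mulEquivOfOrderOfEq htop htop' (by rw [h.ord, h'.ord]), mulEquivOfOrderOfEq_apply_gen _ _ _⟩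

end Cfsg.Agent.Lib.Helper19.ES
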