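import Mathlib
import Cfsg.Agent.Lib.Helper19.ESD
import Cfsg.Agent.Lib.Helper20.MaxAbelian
import Cfsg.Agent.Lib.Helper20.SylowExtra
import Cfsg.Agent.S3741

set_option autoImplicit false

namespace Cfsg.Agent.Lib.Helper19.ES

open Classical

variable {E : Type*} [Group E]

/-- adjoining a commuting involution to an elementary abelian 2-subgroup -/
theorem elab_sup (A : Subgroup E) (hA : Cfsg.IsElementaryAbelian 2 A) {g : E}
    (hg : g ∈ Subgroup.centralizer (A : Set E)) (hg2 : g * g = 1) :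
    Cfsg.IsElementaryAbelian 2 (A ⊔ Subgroup.zpowers g) := by
  have hB := Cfsg.Agent.Lib.Helper20.isMulCommutative_sup_zpowers A hA.1 g hg
  refine ⟨hB, ?_⟩
  let K : Subgroup E :=
    { carrier := {b | b ∈ A ⊔ Subgroup.zpowers g ∧ b * b = 1}
      one_mem' := ⟨Subgroup.one_mem _, by simp⟩
      mul_mem' := by
        rintro b c ⟨hb, hb2⟩ ⟨hc, hc2⟩
        refine ⟨Subgroup.mul_mem _ hb hc, ?_⟩
        have hbc : b * c = c * b := by
          have := hB.is_comm.comm ⟨b, hb⟩ ⟨c, hc⟩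
          exact congrArg Subtype.val this
        calc b * c * (b * c) = b * (c * b) * c := by simp only [mul_assoc]
          _ = (b * b) * (c * c) := by rw [← hbc]; simp only [mul_assoc]
          _ = 1 := by rw [hb2, hc2, one_mul]
      inv_mem' := by
        rintro b ⟨hb, hb2⟩
        refine ⟨Subgroup.inv_mem _ hb, ?_⟩
        rw [← mul_inv_rev, hb2, inv_one] }
  have h1 : A ≤ K := fun a ha => ⟨le_sup_left (a := A) ha, by rw [← sq]; exact hA.2 a ha⟩
  have h2 : Subgroup.zpowers g ≤ K :=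
    Subgroup.zpowers_le.2 ⟨le_sup_right (a := A) (Subgroup.mem_zpowers g), hg2⟩
  intro b hb
  rw [sq]
  exact ((sup_le h1 h2) hb).2

theorem sum_ind [Fintype E] (A : Subgroup E) : ∑ g : E, (if g ∈ A then (1 : ℤ) else 0) = Nat.card A := by
  rw [Finset.sum_boole, Nat.card_eq_fintype_card, Fintype.card_subtype]

/-- every maximal elementary abelian subgroup of an extraspecial 2-group has order `2^(m+1)` or `2^m`,
according to the sign of `SS`. -/
theorem rank2 [Finite E] (hE : Cfsg.IsExtraspecial 2 E) (m : ℕ) (hcard : Nat.card E = 2 ^ (2 * m + 1))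
    (A : Subgroup E) (hA : Cfsg.IsElementaryAbelian 2 A)
    (hmax : ∀ B : Subgroup E, Cfsg.IsElementaryAbelian 2 B → A ≤ B → B = A) :
    (SS E = 2 ^ (m + 1) ∧ Nat.card A = 2 ^ (m + 1)) ∨ (SS E = -2 ^ (m + 1) ∧ Nat.card A = 2 ^ m) := by
  haveI : Fact (Nat.Prime 2) := ⟨Nat.prime_two⟩
  have : Fintype E := Fintype.ofFinite E
  obtain ⟨z, h⟩ := IsES.of_extraspecial hE
  have hq := h.toQ2
  -- elements of the centraliser outside `A` are not involutions
  have hin : ∀ g ∈ Subgroup.centralizer (A : Set E), g * g = 1 → g ∈ A := by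
    intro g hg hg2
    have := hmax _ (elab_sup A hA hg hg2) le_sup_left
    rw [← this]
    exact le_sup_right (a := A) (Subgroup.mem_zpowers g)
  have hzA : z ∈ A := hin z (by
    rw [Subgroup.mem_centralizer_iff]; intro a _; exact (h.zc a).eq.symm) hq.zz
  have hZA : Subgroup.center E ≤ A := by
    rw [h.center_eq]; exact Subgroup.zpowers_le.2 hzA
  have hAC : A ≤ Subgroup.centralizer (A : Set E) := by
    intro a ha
    rw [Subgroup.mem_centralizer_iff]
    intro b hb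
    exact congrArg Subtype.val (hA.1.is_comm.comm ⟨b, hb⟩ ⟨a, ha⟩)
  -- the sum formula
  have hApos : (Nat.card A : ℤ) ≠ 0 := by
    have : 0 < Nat.card A := Nat.card_pos
    exact_mod_cast this.ne'
  have hS : SS E = 2 * (Nat.card A : ℤ) - Nat.card (Subgroup.centralizer (A : Set E)) := by
    have h1 := hq.sum_sub A (fun a ha => by rw [← sq]; exact hA.2 a ha)
    have h2 := mul_left_cancel₀ hApos h1
    rw [← sum_eps', h2, ← sum_ind A, ← sum_ind (Subgroup.centralizer (A : Set E)), Finset.mul_sum,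
      ← Finset.sum_sub_distrib]
    refine Finset.sum_congr rfl fun g _ => ?_
    have hiff : (∀ a ∈ A, g * a = a * g) ↔ g ∈ Subgroup.centralizer (A : Set E) := by
      rw [Subgroup.mem_centralizer_iff]
      exact ⟨fun hh a ha => (hh a ha).symm, fun hh a ha => (hh a ha).symm⟩
    by_cases hg : g ∈ Subgroup.centralizer (A : Set E)
    · rw [if_pos (hiff.2 hg), if_pos hg]
      by_cases hgA : g ∈ A
      · rw [if_pos hgA]
        have : g * g = 1 := by rw [← sq]; exact hA.2 g hgA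
        simp [eps, this]
      · rw [if_neg hgA]
        have : g * g ≠ 1 := fun h2 => hgA (hin g hg h2)
        simp [eps, this]
    · rw [if_neg (fun hh => hg (hiff.1 hh)), if_neg hg, if_neg (fun hh => hg (hAC hh))]
      norm_num
  -- the index formula
  have hidx : Nat.card (Subgroup.centralizer (A : Set E)) * Nat.card A = 2 * Nat.card E := by
    have hcomm : ⁅(⊤ : Subgroup E), A⁆ ≤ Subgroup.center E := by
      rw [← hE.1.2.2]
      exact Subgroup.commutator_mono le_rfl le_top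
    have h1 := Cfsg.Agent.S3741.result hE.1.1 ⊤ A (le_inf le_top (hcomm.trans hZA))
      (by rw [← hE.2]; exact Subgroup.card_le_of_le hcomm)
    rw [top_inf_eq, Subgroup.relIndex_top_right, Subgroup.coe_top, Subgroup.centralizer_univ,
      inf_eq_right.2 hZA] at h1
    have h2 := Cfsg.Agent.Lib.Helper20.card_mul_relIndex_of_le hZA
    have h3 := Subgroup.card_mul_index (Subgroup.centralizer (A : Set E))
    rw [hE.2, ← h1] at h2
    rw [← h3, ← h2]; ring
  have hsq := h.SS_sq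
  set α : ℤ := (Nat.card A : ℤ) with hα
  set c : ℤ := (Nat.card (Subgroup.centralizer (A : Set E)) : ℤ) with hc
  have hidx' : c * α = 2 * (Nat.card E : ℤ) := by rw [hα, hc]; exact_mod_cast hidx
  have hfac : (4 * α - c) * (α - c) = 0 := by
    have : (2 * α - c) ^ 2 = c * α := by rw [← hS, hsq, hidx']
    nlinarith
  have hαpos : 0 < α := by
    have : 0 < Nat.card A := Nat.card_pos
    rw [hα]; exact_mod_cast this
  have hE2 : (Nat.card E : ℤ) = 2 ^ (2 * m + 1) := by rw [hcard]; norm_cast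
  rcases mul_eq_zero.1 hfac with h1 | h1
  · right
    have hc4 : c = 4 * α := by linarith
    have h2 : α ^ 2 = (2 ^ m) ^ 2 := by
      have : 4 * α * α = 2 * 2 ^ (2 * m + 1) := by rw [← hc4, hidx', hE2]
      have e : (2 : ℤ) * 2 ^ (2 * m + 1) = 4 * (2 ^ m) ^ 2 := by ring
      nlinarith
    have h3 : α = 2 ^ m := by
      rcases sq_eq_sq_iff_eq_or_eq_neg.1 h2 with h4 | h4
      · exact h4
      · have : (0 : ℤ) < 2 ^ m := by positivity
        linarith
    refine ⟨by rw [hS, hc4, h3]; ring, ?_⟩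
    have : (Nat.card A : ℤ) = ((2 ^ m : ℕ) : ℤ) := by rw [← hα, h3]; norm_cast
    exact_mod_cast this
  · left
    have hc1 : c = α := by linarith
    have h2 : α ^ 2 = (2 ^ (m + 1)) ^ 2 := by
      have : α * α = 2 * 2 ^ (2 * m + 1) := by
        have := hidx'
        rw [hc1, hE2] at this
        exact this
      have e : (2 : ℤ) * 2 ^ (2 * m + 1) = (2 ^ (m + 1)) ^ 2 := by ring
      nlinarith
    have h3 : α = 2 ^ (m + 1) := by
      rcases sq_eq_sq_iff_eq_or_eq_neg.1 h2 with h4 | h4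
      · exact h4
      · have : (0 : ℤ) < 2 ^ (m + 1) := by positivity
        linarith
    refine ⟨by rw [hS, hc1, h3]; ring, ?_⟩
    have : (Nat.card A : ℤ) = ((2 ^ (m + 1) : ℕ) : ℤ) := by rw [← hα, h3]; norm_cast
    exact_mod_cast this

/-- every elementary abelian subgroup lies in a maximal one -/
theorem exists_max_elab [Finite E] (B : Subgroup E) (hB : Cfsg.IsElementaryAbelian 2 B) :
    ∃ A : Subgroup E, Cfsg.IsElementaryAbelian 2 A ∧ B ≤ A ∧
      ∀ D : Subgroup E, Cfsg.IsElementaryAbelian 2 D → A ≤ D → D = A := by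
  have hfin : Set.Finite {A : Subgroup E | Cfsg.IsElementaryAbelian 2 A ∧ B ≤ A} := Set.toFinite _
  obtain ⟨A, ⟨hA, hBA⟩, hmax⟩ := hfin.exists_maximal ⟨B, hB, le_rfl⟩
  refine ⟨A, hA, hBA, fun D hD hAD => ?_⟩
  exact le_antisymm (hmax (y := D) ⟨hD, hBA.trans hAD⟩ hAD) hAD

theorem elab_bot : Cfsg.IsElementaryAbelian 2 (⊥ : Subgroup E) :=
  ⟨inferInstance, fun a ha => by rw [Subgroup.mem_bot.1 ha, one_pow]⟩

/-- the "rank exponent": `m + 1` for plus type, `m` for minus type -/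
theorem rank_summary [Finite E] (hE : Cfsg.IsExtraspecial 2 E) (m : ℕ) (hcard : Nat.card E = 2 ^ (2 * m + 1)) :
    ∃ ρ : ℕ, ((SS E = 2 ^ (m + 1) ∧ ρ = m + 1) ∨ (SS E = -2 ^ (m + 1) ∧ ρ = m)) ∧
      (∃ A : Subgroup E, Cfsg.IsElementaryAbelian 2 A ∧ Nat.card A = 2 ^ ρ) ∧
      ∀ B : Subgroup E, Cfsg.IsElementaryAbelian 2 B → Nat.card B ≤ 2 ^ ρ := by
  obtain ⟨A, hA, -, hmax⟩ := exists_max_elab (⊥ : Subgroup E) elab_bot
  have hpos : (0 : ℤ) < 2 ^ (m + 1) := by positivity
  rcases rank2 hE m hcard A hA hmax with ⟨h1, h2⟩ | ⟨h1, h2⟩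
  · refine ⟨m + 1, Or.inl ⟨h1, rfl⟩, ⟨A, hA, h2⟩, fun B hB => ?_⟩
    obtain ⟨A', hA', hBA', hmax'⟩ := exists_max_elab B hB
    rcases rank2 hE m hcard A' hA' hmax' with ⟨h3, h4⟩ | ⟨h3, h4⟩
    · rw [← h4]; exact Subgroup.card_le_of_le hBA'
    · rw [h1] at h3; linarith
  · refine ⟨m, Or.inr ⟨h1, rfl⟩, ⟨A, hA, h2⟩, fun B hB => ?_⟩
    obtain ⟨A', hA', hBA', hmax'⟩ := exists_max_elab B hB
    rcases rank2 hE m hcard A' hA' hmax' with ⟨h3, h4⟩ | ⟨h3, h4⟩
    · rw [h1] at h3; linarith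
    · rw [← h4]; exact Subgroup.card_le_of_le hBA'

/-- isomorphism theorem for extraspecial 2-groups -/
theorem iso_of_SS {E' : Type*} [Group E'] [Finite E] [Finite E'] (hE : Cfsg.IsExtraspecial 2 E)
    (hE' : Cfsg.IsExtraspecial 2 E') (hc : Nat.card E = Nat.card E') (hS : SS E = SS E') : Nonempty (E ≃* E') := by
  haveI : Fact (Nat.Prime 2) := ⟨Nat.prime_two⟩
  obtain ⟨z, h⟩ := IsES.of_extraspecial hE
  obtain ⟨z', h'⟩ := IsES.of_extraspecial hE'
  obtain ⟨Φ, -⟩ := cls2 _ E E' z z' h h' rfl hc.symm hS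
  exact ⟨Φ⟩

theorem card_form [Finite E] (hE : Cfsg.IsExtraspecial 2 E) : ∃ m : ℕ, 1 ≤ m ∧ Nat.card E = 2 ^ (2 * m + 1) := by
  haveI : Fact (Nat.Prime 2) := ⟨Nat.prime_two⟩
  obtain ⟨n, hn, hc, -⟩ := Cfsg.Agent.Lib.Helper20.extraspecial_card hE
  exact ⟨n, hn, by rw [hc, add_comm]⟩

theorem SS_cases [Finite E] (hE : Cfsg.IsExtraspecial 2 E) (m : ℕ) (hcard : Nat.card E = 2 ^ (2 * m + 1)) :
    SS E = 2 ^ (m + 1) ∨ SS E = -2 ^ (m + 1) := by
  obtain ⟨ρ, h1 | h1, -⟩ := rank_summary hE m hcard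
  · exact Or.inl h1.1
  · exact Or.inr h1.1

end Cfsg.Agent.Lib.Helper19.ES
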