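import Cfsg.Agent.Lib.Helper19.ESE

set_option autoImplicit false

namespace Cfsg.Agent.Lib.Helper19.ES

variable {E : Type*} [Group E]

theorem SS_plus [Finite E] (hE : Cfsg.IsExtraspecial 2 E) (m : ℕ) (hcard : Nat.card E = 2 ^ (2 * m + 1))
    (hplus : ∃ A : Subgroup E, Cfsg.IsElementaryAbelian 2 A ∧ Nat.card A = 2 ^ (m + 1)) :
    SS E = 2 ^ (m + 1) := by
  obtain ⟨ρ, h1 | h1, -, h3⟩ := rank_summary hE m hcard
  · exact h1.1
  · exfalso
    obtain ⟨A, hA, hc⟩ := hplus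
    have := h3 A hA
    rw [hc, h1.2] at this
    have h4 : 2 ^ (m + 1) = 2 * 2 ^ m := by ring
    have h5 : 0 < 2 ^ m := by positivity
    omega

theorem orderOf_four_iff [Finite E] (hE : Cfsg.IsExtraspecial 2 E) (x : E) : orderOf x = 4 ↔ ¬ x ^ 2 = 1 := by
  haveI : Fact (Nat.Prime 2) := ⟨Nat.prime_two⟩
  obtain ⟨z, h⟩ := IsES.of_extraspecial hE
  constructor
  · intro h4 h2
    have := orderOf_dvd_of_pow_eq_one h2
    rw [h4] at this
    omega
  · intro h2
    have h4 : x ^ 2 ^ (1 + 1) = 1 := by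
      have h5 := (h.mem2 _).1 (h.pw x)
      rcases h5 with h5 | h5
      · exact absurd h5 h2
      · have : x ^ 2 ^ (1 + 1) = (x ^ 2) ^ 2 := by rw [← pow_mul]; norm_num
        rw [this, h5, ← h.ord, pow_orderOf_eq_one]
    have := orderOf_eq_prime_pow (p := 2) (n := 1) (by simpa using h2) h4
    simpa using this

theorem order4_count [Finite E] (hE : Cfsg.IsExtraspecial 2 E) (m : ℕ) (hcard : Nat.card E = 2 ^ (2 * m + 1))
    (hplus : ∃ A : Subgroup E, Cfsg.IsElementaryAbelian 2 A ∧ Nat.card A = 2 ^ (m + 1)) :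
    Nat.card {x : E // orderOf x = 4} = 2 ^ (2 * m) - 2 ^ m := by
  have h1 := SS_plus hE m hcard hplus
  have h2 : Nat.card {x : E // orderOf x = 4} = Nat.card {x : E // ¬ x ^ 2 = 1} :=
    Nat.card_congr (Equiv.subtypeEquivRight (orderOf_four_iff hE))
  have h3 : Nat.card {x : E // x ^ 2 = 1} + Nat.card {x : E // ¬ x ^ 2 = 1} = Nat.card E := by
    classical
    haveI := Fintype.ofFinite E
    simp only [Nat.card_eq_fintype_card]
    rw [Fintype.card_subtype_compl]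
    have := Fintype.card_subtype_le (fun x : E => x ^ 2 = 1)
    omega
  unfold SS at h1
  rw [hcard] at h1 h3
  have e1 : ((2 ^ (2 * m + 1) : ℕ) : ℤ) = 2 * ((2 ^ (2 * m) : ℕ) : ℤ) := by push_cast; ring
  have e2 : (2 : ℤ) ^ (m + 1) = 2 * ((2 ^ m : ℕ) : ℤ) := by push_cast; ring
  have e3 : 2 ^ (2 * m + 1) = 2 * 2 ^ (2 * m) := by ring
  rw [e1, e2] at h1
  rw [h2]
  omega

end Cfsg.Agent.Lib.Helper19.ES
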