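import Mathlib
import Cfsg.Agent.S3683

set_option autoImplicit false
set_option linter.style.haveILetI false
set_option linter.unusedSectionVars false
set_option linter.unusedVariables false

/-! Manning's theorem on extremely primitive groups. -/

namespace Cfsg.Agent.Lib.Helper19.Manning

open MulAction

variable {G : Type*} [Group G] [Finite G] {Ω : Type*} [Fintype Ω] [MulAction G Ω]

theorem mem_orb {x z w : Ω} :
    w ∈ orbit (stabilizer G x) z ↔ ∃ h : G, h • x = x ∧ h • z = w := by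
  constructor
  · rintro ⟨h, rfl⟩
    exact ⟨h.1, h.2, rfl⟩
  · rintro ⟨h, hx, rfl⟩
    exact ⟨⟨h, hx⟩, rfl⟩

theorem ncard_orb (x z : Ω) :
    (orbit (stabilizer G x) z).ncard = (stabilizer G z).relIndex (stabilizer G x) := by
  have key : (stabilizer G z).subgroupOf (stabilizer G x) = stabilizer (stabilizer G x) z := by
    ext; rfl
  rw [Subgroup.relIndex, key, index_stabilizer]

theorem ncard_orb_smul (g : G) (x z : Ω) :
    (orbit (stabilizer G (g • x)) (g • z)).ncard = (orbit (stabilizer G x) z).ncard := by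
  have : orbit (stabilizer G (g • x)) (g • z) = (fun w => g • w) '' orbit (stabilizer G x) z := by
    ext w
    simp only [mem_orb, Set.mem_image]
    constructor
    · rintro ⟨h, h1, rfl⟩
      refine ⟨(g⁻¹ * h * g) • z, ⟨g⁻¹ * h * g, ?_, rfl⟩, ?_⟩
      · simp [mul_smul, h1]
      · simp [mul_smul]
    · rintro ⟨_, ⟨h, h1, rfl⟩, rfl⟩
      refine ⟨g * h * g⁻¹, ?_, ?_⟩
      · simp [mul_smul, h1]
      · simp [mul_smul]
  rw [this, Set.ncard_image_of_injective _ (MulAction.injective g)]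

theorem relIndex_mul_card_inf (H K : Subgroup G) :
    Nat.card (H ⊓ K : Subgroup G) * H.relIndex K = Nat.card K := by
  have h := Subgroup.relIndex_mul_relIndex ⊥ (H ⊓ K) K bot_le inf_le_right
  rwa [Subgroup.relIndex_bot_left, Subgroup.relIndex_bot_left, Subgroup.inf_relIndex_right] at h

theorem ncard_orb_symm [IsPretransitive G Ω] (x y : Ω) :
    (orbit (stabilizer G x) y).ncard = (orbit (stabilizer G y) x).ncard := by
  obtain ⟨g, hg⟩ := exists_smul_eq G x y
  have hc : Nat.card (stabilizer G x) = Nat.card (stabilizer G y) :=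
    Nat.card_congr (stabilizerEquivStabilizer hg.symm).toEquiv
  have e1 := relIndex_mul_card_inf (stabilizer G y) (stabilizer G x)
  have e2 := relIndex_mul_card_inf (stabilizer G x) (stabilizer G y)
  rw [ncard_orb, ncard_orb]
  rw [inf_comm, ← hc, ← e1] at e2
  exact (Nat.eq_of_mul_eq_mul_left Nat.card_pos e2).symm

theorem orb_eq_of_mem {x z w : Ω} (h : w ∈ orbit (stabilizer G x) z) :
    orbit (stabilizer G x) w = orbit (stabilizer G x) z :=
  orbit_eq_iff.mpr h

/-- a normal subgroup of the point stabilizer is trivial or transitive on each suborbit. -/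
theorem dichotomy
    (hep : ∀ (α : Ω) (ω : Ω), IsPreprimitive (stabilizer G α) (orbit (stabilizer G α) ω))
    (α : Ω) (K : Subgroup G) (hK : K ≤ stabilizer G α)
    (hKn : stabilizer G α ≤ Subgroup.normalizer (K : Set G)) (z : Ω) :
    (∀ w ∈ orbit (stabilizer G α) z, ∀ k ∈ K, k • w = w) ∨
      (∀ w ∈ orbit (stabilizer G α) z, ∃ k ∈ K, k • z = w) := by
  haveI := hep α z
  haveI : (K.subgroupOf (stabilizer G α)).Normal :=
    (Subgroup.normal_subgroupOf_iff_le_normalizer hK).mpr hKn
  by_cases hfix : fixedPoints (K.subgroupOf (stabilizer G α)) (orbit (stabilizer G α) z) = Set.univ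
  · left
    intro w hw k hk
    have h1 : (⟨w, hw⟩ : orbit (stabilizer G α) z) ∈
        fixedPoints (K.subgroupOf (stabilizer G α)) (orbit (stabilizer G α) z) := by
      rw [hfix]; trivial
    have h2 := h1 ⟨⟨k, hK hk⟩, hk⟩
    exact congrArg Subtype.val h2
  · right
    intro w hw
    haveI := IsQuasiPreprimitive.isPretransitive_of_normal (G := stabilizer G α)
      (X := orbit (stabilizer G α) z) hfix
    obtain ⟨n, hn⟩ := exists_smul_eq (K.subgroupOf (stabilizer G α))
      (⟨z, mem_orbit_self z⟩ : orbit (stabilizer G α) z) ⟨w, hw⟩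
    exact ⟨n.1.1, n.2, congrArg Subtype.val hn⟩

section Main

variable [FaithfulSMul G Ω] (hprim : IsPreprimitive G Ω) (hH : ∀ α : Ω, stabilizer G α ≠ ⊥)

include hprim hH

theorem sup_stabilizer_eq_top {x y : Ω} (hxy : x ≠ y) : stabilizer G x ⊔ stabilizer G y = ⊤ := by
  haveI : Nontrivial Ω := ⟨⟨x, y, hxy⟩⟩
  have hco : IsCoatom (stabilizer G x) := IsPreprimitive.isCoatom_stabilizer_of_isPreprimitive G x
  rcases hco.le_iff.mp (le_sup_left : stabilizer G x ≤ stabilizer G x ⊔ stabilizer G y) with h | h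
  · exact h
  · exfalso
    have hle : stabilizer G y ≤ stabilizer G x := h ▸ le_sup_right
    exact hH y (Cfsg.Agent.S3683.result hprim y x hxy.symm (fun g hg => hle hg)).1

theorem no_common_orbit {x y z : Ω} (hxy : x ≠ y)
    (h : orbit (stabilizer G x) z = orbit (stabilizer G y) z) : False := by
  haveI := hprim.toIsPretransitive
  -- every element of `G` preserves the orbit
  have hinv : ∀ g : G, ∀ w ∈ orbit (stabilizer G x) z, g • w ∈ orbit (stabilizer G x) z := by
    intro g
    have hg : g ∈ stabilizer G x ⊔ stabilizer G y := by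
      rw [sup_stabilizer_eq_top hprim hH hxy]; trivial
    rw [Subgroup.sup_eq_closure] at hg
    induction hg using Subgroup.closure_induction with
    | mem a ha =>
      intro w hw
      rcases ha with ha | ha
      · obtain ⟨b, rfl⟩ := hw
        exact ⟨⟨a, ha⟩ * b, by simp [mul_smul]⟩
      · rw [h] at hw ⊢
        obtain ⟨b, rfl⟩ := hw
        exact ⟨⟨a, ha⟩ * b, by simp [mul_smul]⟩
    | one => intro w hw; simpa using hw
    | mul a b _ _ iha ihb => intro w hw; rw [mul_smul]; exact iha _ (ihb _ hw)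
    | inv a _ iha =>
      intro w hw
      -- finite order
      obtain ⟨n, hn⟩ : ∃ n : ℕ, a⁻¹ = a ^ n := ⟨orderOf a - 1, by
        rw [eq_comm, ← mul_eq_one_iff_eq_inv, ← pow_succ,
          Nat.sub_add_cancel (orderOf_pos a), pow_orderOf_eq_one]⟩
      rw [hn]
      clear hn
      induction n with
      | zero => simpa using hw
      | succ n ih => rw [pow_succ', mul_smul]; exact iha _ ih
  have huniv : ∀ w : Ω, w ∈ orbit (stabilizer G x) z := by
    intro w
    obtain ⟨g, rfl⟩ := exists_smul_eq G z w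
    exact hinv g z (mem_orbit_self z)
  have h1 : z = x := by
    obtain ⟨a, ha, ha'⟩ := mem_orb.mp (huniv x)
    rw [← ha] at ha'
    exact MulAction.injective a ha'
  have h2 : z = y := by
    have := huniv y
    rw [h] at this
    obtain ⟨a, ha, ha'⟩ := mem_orb.mp this
    rw [← ha] at ha'
    exact MulAction.injective a ha'
  exact hxy (h1.symm.trans h2)

variable (hep : ∀ (α : Ω) (ω : Ω), IsPreprimitive (stabilizer G α) (orbit (stabilizer G α) ω))

include hep

/-- normal subgroups of the stabilizer with a further fixed point fix the largest suborbits. -/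
theorem lemmaA (α : Ω) (K : Subgroup G) (hK : K ≤ stabilizer G α)
    (hKn : stabilizer G α ≤ Subgroup.normalizer (K : Set G)) (y : Ω) (hy : y ≠ α)
    (hKy : ∀ k ∈ K, k • y = y) (z : Ω)
    (hz : ∀ x' z' : Ω, (orbit (stabilizer G x') z').ncard ≤ (orbit (stabilizer G α) z).ncard) :
    ∀ w ∈ orbit (stabilizer G α) z, ∀ k ∈ K, k • w = w := by
  rcases dichotomy hep α K hK hKn z with h | h
  · exact h
  · exfalso
    have hsub : orbit (stabilizer G α) z ⊆ orbit (stabilizer G y) z := by
      intro w hw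
      obtain ⟨k, hk, rfl⟩ := h w hw
      exact mem_orb.mpr ⟨k, hKy k hk, rfl⟩
    have heq := Set.eq_of_subset_of_ncard_le hsub (hz y z) (Set.toFinite _)
    exact no_common_orbit hprim hH hy.symm heq

end Main

/-- the kernel of the stabilizer of `x` on the suborbit of `z`. -/
def ker (G : Type*) [Group G] {Ω : Type*} [MulAction G Ω] (x z : Ω) : Subgroup G where
  carrier := {k | k • x = x ∧ ∀ w ∈ orbit (stabilizer G x) z, k • w = w}
  one_mem' := ⟨one_smul _ _, fun _ _ => one_smul _ _⟩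
  mul_mem' := by
    rintro a b ⟨ha, ha'⟩ ⟨hb, hb'⟩
    exact ⟨by rw [mul_smul, hb, ha], fun w hw => by rw [mul_smul, hb' w hw, ha' w hw]⟩
  inv_mem' := by
    rintro a ⟨ha, ha'⟩
    exact ⟨by rw [inv_smul_eq_iff, ha], fun w hw => by rw [inv_smul_eq_iff, ha' w hw]⟩

theorem mem_ker {x z : Ω} {k : G} :
    k ∈ ker G x z ↔ k • x = x ∧ ∀ w ∈ orbit (stabilizer G x) z, k • w = w := Iff.rfl

theorem ker_le (x z : Ω) : ker G x z ≤ stabilizer G x := fun _ hk => hk.1

theorem conj_mem_ker {x z : Ω} {k : G} (hk : k ∈ ker G x z) (g : G) :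
    g * k * g⁻¹ ∈ ker G (g • x) (g • z) := by
  refine ⟨by simp [mul_smul, hk.1], fun w hw => ?_⟩
  obtain ⟨h, h1, rfl⟩ := mem_orb.mp hw
  have h2 : (g⁻¹ * h * g) • z ∈ orbit (stabilizer G x) z :=
    mem_orb.mpr ⟨g⁻¹ * h * g, by simp [mul_smul, h1], rfl⟩
  have h3 := hk.2 _ h2
  calc (g * k * g⁻¹) • h • g • z = g • (k • ((g⁻¹ * h * g) • z)) := by simp [mul_smul]
    _ = g • ((g⁻¹ * h * g) • z) := by rw [h3]
    _ = h • g • z := by simp [mul_smul]

theorem le_normalizer_ker (x z : Ω) :
    stabilizer G x ≤ Subgroup.normalizer (ker G x z : Set G) := by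
  intro g hg
  have hgx : g • x = x := hg
  have key : ∀ (a : G), a • x = x → ∀ k ∈ ker G x z, a * k * a⁻¹ ∈ ker G x z := by
    intro a ha k hk
    have h1 := conj_mem_ker hk a
    rw [ha] at h1
    have h2 : orbit (stabilizer G x) (a • z) = orbit (stabilizer G x) z :=
      orb_eq_of_mem (mem_orb.mpr ⟨a, ha, rfl⟩)
    refine ⟨h1.1, fun w hw => h1.2 w (by rw [h2]; exact hw)⟩
  rw [Subgroup.mem_normalizer_iff]
  intro k
  constructor
  · exact key g hgx k
  · intro hk
    have := key g⁻¹ (by rw [inv_smul_eq_iff, hgx]) _ hk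
    simpa [mul_assoc] using this

theorem le_normalizer_of_conj_mem (S K : Subgroup G) (h : ∀ a ∈ S, ∀ k ∈ K, a * k * a⁻¹ ∈ K) :
    S ≤ Subgroup.normalizer (K : Set G) := by
  intro g hg
  rw [Subgroup.mem_normalizer_iff]
  intro k
  constructor
  · exact h g hg k
  · intro hk
    have := h g⁻¹ (S.inv_mem hg) _ hk
    simpa [mul_assoc] using this

/-- the elements of the stabilizer of `α` fixing every point moved by `K`. -/
def cofix (K : Subgroup G) (α : Ω) : Subgroup G where
  carrier := {k | k • α = α ∧ ∀ w : Ω, (∃ k' ∈ K, k' • w ≠ w) → k • w = w}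
  one_mem' := ⟨one_smul _ _, fun _ _ => one_smul _ _⟩
  mul_mem' := by
    rintro a b ⟨ha, ha'⟩ ⟨hb, hb'⟩
    exact ⟨by rw [mul_smul, hb, ha], fun w hw => by rw [mul_smul, hb' w hw, ha' w hw]⟩
  inv_mem' := by
    rintro a ⟨ha, ha'⟩
    exact ⟨by rw [inv_smul_eq_iff, ha], fun w hw => by rw [inv_smul_eq_iff, ha' w hw]⟩

theorem le_normalizer_cofix (K : Subgroup G) (α : Ω)
    (hKn : stabilizer G α ≤ Subgroup.normalizer (K : Set G)) :
    stabilizer G α ≤ Subgroup.normalizer (cofix K α : Set G) := by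
  apply le_normalizer_of_conj_mem
  intro a ha k hk
  have haα : a • α = α := ha
  refine ⟨by simp [mul_smul, hk.1, haα, inv_smul_eq_iff.mpr haα.symm], ?_⟩
  rintro w ⟨k', hk', hk'w⟩
  have h1 : a⁻¹ * k' * a ∈ K := (Subgroup.mem_normalizer_iff''.mp (hKn ha) k').mp hk'
  have h2 : (a⁻¹ * k' * a) • (a⁻¹ • w) ≠ a⁻¹ • w := by
    intro h
    apply hk'w
    have := congrArg (fun v => a • v) h
    simpa [mul_smul] using this
  have h3 := hk.2 (a⁻¹ • w) ⟨_, h1, h2⟩
  calc (a * k * a⁻¹) • w = a • (k • (a⁻¹ • w)) := by simp [mul_smul]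
    _ = w := by rw [h3]; simp

theorem manning [FaithfulSMul G Ω] (hprim : IsPreprimitive G Ω) (hH : ∀ α : Ω, stabilizer G α ≠ ⊥)
    (hep : ∀ (α : Ω) (ω : Ω), IsPreprimitive (stabilizer G α) (orbit (stabilizer G α) ω))
    (α ω : Ω) (hω : ω ≠ α) (h : G) (hα : h • α = α)
    (hfix : ∀ x ∈ orbit (stabilizer G α) ω, h • x = x) : h = 1 := by
  classical
  by_contra h1
  haveI := hprim.toIsPretransitive
  haveI : Nonempty (Ω × Ω) := ⟨(α, α)⟩
  obtain ⟨⟨x0, z0⟩, hmax⟩ :=
    Finite.exists_max (fun q : Ω × Ω => (orbit (stabilizer G q.1) q.2).ncard)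
  obtain ⟨g0, hg0⟩ := exists_smul_eq G x0 α
  obtain ⟨z1, hz1⟩ : ∃ z1, z1 = g0 • z0 := ⟨_, rfl⟩
  have hz : ∀ x' z' : Ω,
      (orbit (stabilizer G x') z').ncard ≤ (orbit (stabilizer G α) z1).ncard := by
    intro x' z'
    rw [← hg0, hz1, ncard_orb_smul]
    exact hmax (x', z')
  have hz1α : z1 ≠ α := by
    intro hc
    have h2 : (orbit (stabilizer G α) z1).ncard = 1 := by
      have : orbit (stabilizer G α) z1 = {α} := by
        ext w
        rw [hc, mem_orb]
        constructor
        · rintro ⟨a, ha, rfl⟩; exact ha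
        · intro hw; exact ⟨1, one_smul _ _, by rw [one_smul]; exact hw.symm⟩
      rw [this, Set.ncard_singleton]
    apply hH α
    rw [Subgroup.eq_bot_iff_forall]
    intro s hs
    apply FaithfulSMul.eq_of_smul_eq_smul (α := Ω)
    intro w
    rw [one_smul]
    have h3 := hz α w
    rw [h2] at h3
    exact (Set.ncard_le_one_iff (Set.toFinite _)).mp h3 (mem_orb.mpr ⟨s, hs, rfl⟩) (mem_orbit_self w)
  have hhK : h ∈ ker G α z1 := by
    refine ⟨hα, fun w hw => ?_⟩
    exact lemmaA hprim hH hep α (ker G α ω) (ker_le _ _) (le_normalizer_ker _ _) ω hω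
      (fun k hk => hk.2 ω (mem_orbit_self ω)) z1 hz w hw h ⟨hα, hfix⟩
  obtain ⟨g, hg⟩ := exists_smul_eq G α z1
  have hmem : g * h * g⁻¹ ∈ ker G z1 (g • z1) := by
    have := conj_mem_ker hhK g
    rwa [hg] at this
  have hne : g • z1 ≠ z1 := by
    intro hc
    rw [← hg] at hc
    exact hz1α ((MulAction.injective g hc).symm ▸ hg ▸ rfl)
  have hS : ∀ k ∈ ker G z1 (g • z1), k • α = α := by
    have hz' : ∀ x' z' : Ω,
        (orbit (stabilizer G x') z').ncard ≤ (orbit (stabilizer G z1) α).ncard := by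
      intro x' z'
      rw [ncard_orb_symm z1 α]
      exact hz x' z'
    have := lemmaA hprim hH hep z1 (ker G z1 (g • z1)) (ker_le _ _) (le_normalizer_ker _ _)
      (g • z1) hne (fun k hk => hk.2 _ (mem_orbit_self _)) α hz'
    exact fun k hk => this α (mem_orbit_self α) k hk
  have hC : ∀ w : Ω, (∃ k' ∈ ker G α z1, k' • w ≠ w) → ∀ k ∈ ker G z1 (g • z1), k • w = w := by
    rintro w ⟨k', hk', hk'w⟩
    by_contra hcon
    push Not at hcon
    obtain ⟨k, hk, hkw⟩ := hcon
    rcases dichotomy hep α (ker G α z1) (ker_le _ _) (le_normalizer_ker _ _) w with d1 | d1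
    · exact hk'w (d1 w (mem_orbit_self w) k' hk')
    rcases dichotomy hep z1 (ker G z1 (g • z1)) (ker_le _ _) (le_normalizer_ker _ _) w with d2 | d2
    · exact hkw (d2 w (mem_orbit_self w) k hk)
    apply no_common_orbit hprim hH hz1α.symm (z := w)
    apply Set.Subset.antisymm
    · intro v hv
      obtain ⟨a, ha, rfl⟩ := d1 v hv
      exact mem_orb.mpr ⟨a, ha.2 z1 (mem_orbit_self z1), rfl⟩
    · intro v hv
      obtain ⟨a, ha, rfl⟩ := d2 v hv
      exact mem_orb.mpr ⟨a, hS a ha, rfl⟩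
  obtain ⟨w0, hw0⟩ : ∃ w : Ω, h • w ≠ w := by
    by_contra hc
    push Not at hc
    apply h1
    apply FaithfulSMul.eq_of_smul_eq_smul (α := Ω)
    intro w
    rw [one_smul, hc w]
  have hw0α : w0 ≠ α := by
    rintro rfl
    exact hw0 hα
  have hMfix := lemmaA hprim hH hep α (cofix (ker G α z1) α) (fun k hk => hk.1)
    (le_normalizer_cofix _ _ (le_normalizer_ker _ _)) w0 hw0α
    (fun k hk => hk.2 w0 ⟨h, hhK, hw0⟩) z1 hz
  have hMbot : ∀ k ∈ cofix (ker G α z1) α, k = 1 := by
    intro k hk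
    apply FaithfulSMul.eq_of_smul_eq_smul (α := Ω)
    intro w
    rw [one_smul]
    by_cases hw : ∃ k' ∈ ker G α z1, k' • w ≠ w
    · exact hk.2 w hw
    · push Not at hw
      exact hw k ⟨hk.1, fun v hv => hMfix v hv k hk⟩
  have hfin : g * h * g⁻¹ ∈ cofix (ker G α z1) α := ⟨hS _ hmem, fun w hw => hC w hw _ hmem⟩
  exact h1 (conj_eq_one_iff.mp (hMbot _ hfin))

end Cfsg.Agent.Lib.Helper19.Manning
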