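import Cfsg.Agent.Lib.Helper19.SuzC
import Cfsg.Prelude.Def_Sz

/-!
# Suzuki groups, part L: the fixed points of the exceptional isogeny of `Sp₄` are the ovoid stabiliser
-/

set_option autoImplicit false
set_option linter.style.haveILetI false
set_option linter.unusedSimpArgs false
set_option linter.unusedSectionVars false
open scoped Pointwise
open Matrix

namespace Cfsg.Agent.Lib.Helper19.Suz

variable {F : Type*} [Field F] [CharP F 2]

theorem cb (a0 a1 a2 a3 b0 b1 b2 b3 c0 c1 c2 c3 d0 d1 d2 d3 : F)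
    (hA : a0 * b3 + a1 * b2 + a2 * b1 + a3 * b0 = 0)
    (hB : c0 * d3 + c1 * d2 + c2 * d1 + c3 * d0 = 0) :
    (a0 * c0 + a1 * c1 + a2 * c2 + a3 * c3) * (b0 * d0 + b1 * d1 + b2 * d2 + b3 * d3)
      - (b0 * c0 + b1 * c1 + b2 * c2 + b3 * c3) * (a0 * d0 + a1 * d1 + a2 * d2 + a3 * d3) =
    (a0 * b1 - b0 * a1) * (c0 * d1 - c1 * d0) + (a0 * b2 - b0 * a2) * (c0 * d2 - c2 * d0)
      + (a1 * b3 - b1 * a3) * (c1 * d3 - c3 * d1) + (a2 * b3 - b2 * a3) * (c2 * d3 - c3 * d2) := by
  grind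

/-- symplectic matrices for the antidiagonal form -/
def IsSp (M : Matrix (Fin 4) (Fin 4) F) : Prop := M.transpose * Wm * M = Wm

omit [CharP F 2] in
theorem Wm_mul_Wm : (Wm : Matrix (Fin 4) (Fin 4) F) * Wm = 1 := by
  ext i j
  fin_cases i <;> fin_cases j <;> simp [Wm, Matrix.mul_apply, Fin.sum_univ_succ]

omit [CharP F 2] in
theorem IsSp.mul {A B : Matrix (Fin 4) (Fin 4) F} (hA : IsSp A) (hB : IsSp B) : IsSp (A * B) := by
  unfold IsSp at *
  rw [Matrix.transpose_mul]
  calc B.transpose * A.transpose * Wm * (A * B) = B.transpose * (A.transpose * Wm * A) * B := by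
        simp only [Matrix.mul_assoc]
    _ = Wm := by rw [hA, hB]

omit [CharP F 2] in
theorem IsSp.row {A : Matrix (Fin 4) (Fin 4) F} (hA : IsSp A) : A * Wm * A.transpose = Wm := by
  unfold IsSp at hA
  have h1 : (Wm * A.transpose * Wm) * A = 1 := by
    calc (Wm * A.transpose * Wm) * A = Wm * (A.transpose * Wm * A) := by simp only [Matrix.mul_assoc]
      _ = 1 := by rw [hA, Wm_mul_Wm]
  have h2 : A * (Wm * A.transpose * Wm) = 1 := _root_.mul_eq_one_comm.mp h1
  calc A * Wm * A.transpose = (A * (Wm * A.transpose * Wm)) * Wm := by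
        simp only [Matrix.mul_assoc, Wm_mul_Wm, Matrix.mul_one]
    _ = Wm := by rw [h2, Matrix.one_mul]

omit [CharP F 2] in
theorem IsSp.col_rel {B : Matrix (Fin 4) (Fin 4) F} (hB : IsSp B) (i j : Fin 4) :
    B 0 i * B 3 j + B 1 i * B 2 j + B 2 i * B 1 j + B 3 i * B 0 j = Wm i j := by
  have := congrFun (congrFun hB i) j
  rw [← this]
  simp [Matrix.mul_apply, Fin.sum_univ_succ, Wm]
  ring

omit [CharP F 2] in
theorem IsSp.row_rel {A : Matrix (Fin 4) (Fin 4) F} (hA : IsSp A) (k l : Fin 4) :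
    A k 0 * A l 3 + A k 1 * A l 2 + A k 2 * A l 1 + A k 3 * A l 0 = Wm k l := by
  have := congrFun (congrFun hA.row k) l
  rw [← this]
  simp [Matrix.mul_apply, Fin.sum_univ_succ, Wm]
  ring

omit [CharP F 2] in
theorem Wm_pair (p : Fin 4) : (Wm : Matrix (Fin 4) (Fin 4) F) (Cfsg.Lie.pairOf p).1 (Cfsg.Lie.pairOf p).2 = 0 := by
  fin_cases p <;> simp [Wm, Cfsg.Lie.pairOf]

theorem star4_mul {A B : Matrix (Fin 4) (Fin 4) F} (hA : IsSp A) (hB : IsSp B) :
    Cfsg.Lie.star4 (A * B) = Cfsg.Lie.star4 A * Cfsg.Lie.star4 B := by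
  ext p r
  have h1 := hA.row_rel (Cfsg.Lie.pairOf p).1 (Cfsg.Lie.pairOf p).2
  have h2 := hB.col_rel (Cfsg.Lie.pairOf r).1 (Cfsg.Lie.pairOf r).2
  rw [Wm_pair] at h1 h2
  have := cb _ _ _ _ _ _ _ _ _ _ _ _ _ _ _ _ h1 h2
  simp only [Cfsg.Lie.star4, Matrix.of_apply, Matrix.mul_apply, Fin.sum_univ_four]
  simp only [Cfsg.Lie.pairOf, Matrix.cons_val_zero, Matrix.cons_val_one, Matrix.cons_val] at this ⊢
  linear_combination this

/-- membership condition of the defining set -/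
def InS (s : F →+* F) (M : Matrix (Fin 4) (Fin 4) F) : Prop :=
  IsSp M ∧ Cfsg.Lie.star4 M = M.map s

theorem InS.mul {s : F →+* F} {A B : Matrix (Fin 4) (Fin 4) F} (hA : InS s A) (hB : InS s B) :
    InS s (A * B) :=
  ⟨hA.1.mul hB.1, by rw [star4_mul hA.1 hB.1, hA.2, hB.2, Matrix.map_mul]⟩

theorem inS_Tm (s : F →+* F) (hs : ∀ x, s (s x) = x ^ 2) (a b : F) : InS s (Tm s a b) := by
  constructor
  · unfold IsSp
    ext i j
    fin_cases i <;> fin_cases j <;>
      simp [Tm, Wm, Matrix.mul_apply, Fin.sum_univ_succ] <;> grind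
  · ext i j
    fin_cases i <;> fin_cases j <;>
      simp [Tm, Cfsg.Lie.star4, Cfsg.Lie.pairOf, hs] <;> grind

omit [CharP F 2] in
theorem inS_Dm (s : F →+* F) (hs : ∀ x, s (s x) = x ^ 2) (u : Fˣ) : InS s (Dm s u) := by
  have h1 : (u:F) ≠ 0 := u.ne_zero
  have h2 : s (u:F) ≠ 0 := by simp
  constructor
  · unfold IsSp
    ext i j
    fin_cases i <;> fin_cases j <;>
      simp [Dm, Wm, Matrix.mul_apply, Fin.sum_univ_succ] <;> field_simp
  · ext i j
    fin_cases i <;> fin_cases j <;>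
      simp [Dm, Cfsg.Lie.star4, Cfsg.Lie.pairOf, hs] <;> field_simp

theorem inS_Wm (s : F →+* F) : InS s (Wm : Matrix (Fin 4) (Fin 4) F) := by
  constructor
  · unfold IsSp
    ext i j
    fin_cases i <;> fin_cases j <;>
      simp [Wm, Matrix.mul_apply, Fin.sum_univ_succ]
  · ext i j
    fin_cases i <;> fin_cases j <;>
      simp [Wm, Cfsg.Lie.star4, Cfsg.Lie.pairOf] <;> grind

theorem InS.col0 {s : F →+* F} {M : Matrix (Fin 4) (Fin 4) F}
    (h : InS s M) : (∃ c : F, M *ᵥ einf = c • einf) ∨ ∃ c x y : F, M *ᵥ einf = c • pt s x y := by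
  have E1 := congrFun (congrFun h.2 0) 0
  have E2 := congrFun (congrFun h.2 1) 0
  have E3 := congrFun (congrFun h.2 2) 0
  have E4 := congrFun (congrFun h.2 3) 0
  have E5 := h.1.col_rel 0 1
  simp [Cfsg.Lie.star4, Cfsg.Lie.pairOf, Wm] at E1 E2 E3 E4 E5
  have hcol : M *ᵥ einf = fun i => M i 0 := by
    ext i
    simp [einf, Matrix.mulVec, dotProduct, Fin.sum_univ_succ]
  rw [hcol]
  by_cases hc : M 3 0 = 0
  · left
    rw [hc] at E3 E4 E5
    simp only [map_zero, zero_mul, sub_zero, add_zero] at E3 E4 E5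
    have m2 : M 2 0 = 0 := by
      by_contra hne
      have h3 : M 3 1 = 0 := by
        rcases mul_eq_zero.mp E4 with h | h
        · exact absurd h hne
        · exact h
      rw [h3, mul_zero] at E3
      exact hne (by simpa using E3.symm)
    rw [m2] at E2 E3 E5
    simp only [map_zero, zero_mul, sub_zero, add_zero] at E2 E3 E5
    have m1 : M 1 0 = 0 := by
      by_contra hne
      have h3 : M 3 1 = 0 := by
        rcases mul_eq_zero.mp E3 with h | h
        · exact absurd h hne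
        · exact h
      rw [h3, mul_zero, zero_add] at E5
      have h2 : M 2 1 = 0 := by
        rcases mul_eq_zero.mp E5 with h | h
        · exact absurd h hne
        · exact h
      rw [h2, mul_zero] at E2
      exact hne (by simpa using E2.symm)
    refine ⟨M 0 0, ?_⟩
    ext i
    fin_cases i <;> simp [einf, m1, m2, hc]
  · right
    have hsc : s (M 3 0) ≠ 0 := by simpa using hc
    refine ⟨M 3 0, M 2 0 / M 3 0, M 1 0 / M 3 0, ?_⟩
    have key : M 0 0 * M 3 0 * s (M 3 0) = M 1 0 * M 2 0 * s (M 3 0) + M 2 0 ^ 2 * s (M 2 0)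
        + M 3 0 ^ 2 * s (M 1 0) := by
      have hmul : M 3 0 ^ 2 * (M 0 0 * M 3 0 * s (M 3 0)) = M 3 0 ^ 2 * (M 1 0 * M 2 0 * s (M 3 0)
          + M 2 0 ^ 2 * s (M 2 0) + M 3 0 ^ 2 * s (M 1 0)) := by
        grind
      exact mul_left_cancel₀ (pow_ne_zero 2 hc) hmul
    ext i
    fin_cases i
    · simp only [pt, ff, map_div₀, Pi.smul_apply, smul_eq_mul]
      simp
      field_simp
      linear_combination key
    · simp [pt]; field_simp
    · simp [pt]; field_simp
    · simp [pt]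

omit [CharP F 2] in
theorem altForm4_eq (u v : Fin 4 → F) : Cfsg.Lie.altForm4 u v = u ⬝ᵥ (Wm *ᵥ v) := by
  simp [Cfsg.Lie.altForm4, dotProduct, Matrix.mulVec, Fin.sum_univ_succ, Wm]
  ring

omit [CharP F 2] in
theorem mem_Sp4_iff (g : GL (Fin 4) F) :
    g ∈ Cfsg.Lie.Sp4 F ↔ IsSp (g : Matrix (Fin 4) (Fin 4) F) := by
  constructor
  · intro h
    unfold IsSp
    ext i j
    have := h (Pi.single i 1) (Pi.single j 1)
    rw [altForm4_eq, altForm4_eq] at this
    simp only [Units.coeHom_apply, Matrix.mulVec_single_one] at this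
    rw [Matrix.mul_apply]
    simp only [Matrix.mul_apply, Matrix.transpose_apply]
    simp only [dotProduct, Matrix.mulVec, Matrix.col_apply, Pi.single_apply] at this
    simp only [Fin.sum_univ_four] at this ⊢
    fin_cases i <;> fin_cases j <;> simp [Wm] at this ⊢ <;> linear_combination this
  · intro h u v
    rw [altForm4_eq, altForm4_eq]
    simp only [Units.coeHom_apply]
    unfold IsSp at h
    rw [← Matrix.vecMul_transpose, ← Matrix.dotProduct_mulVec, Matrix.mulVec_mulVec,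
      Matrix.mulVec_mulVec, h]

theorem IsSp.det {M : Matrix (Fin 4) (Fin 4) F} (h : IsSp M) : M.det = 1 := by
  have := congrArg Matrix.det h
  rw [Matrix.det_mul, Matrix.det_mul, Matrix.det_transpose, det_Wm] at this
  apply sq_inj
  rw [one_pow]
  linear_combination this

variable [Fintype F] (m : ℕ) [Hyp F m]

theorem InS.mk_mem {M : Matrix (Fin 4) (Fin 4) F} (h : InS (sg F m) M) (hv : M *ᵥ einf ≠ 0) :
    Projectivization.mk F (M *ᵥ einf) hv ∈ Cfsg.suzukiOvoid F m := by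
  rw [mem_ovoid_iff]
  rcases h.col0 with ⟨c, hc⟩ | ⟨c, x, y, hc⟩
  · left
    unfold Pinf
    rw [Projectivization.mk_eq_mk_iff']
    exact ⟨c, hc.symm⟩
  · right
    refine ⟨x, y, ?_⟩
    unfold P
    rw [Projectivization.mk_eq_mk_iff']
    exact ⟨c, hc.symm⟩

/-- a symplectic matrix as an element of `SL₄` -/
def IsSp.toSL {M : Matrix (Fin 4) (Fin 4) F} (h : IsSp M) : SL4 F := ⟨M, h.det⟩

theorem InS.mem_Sz {M : Matrix (Fin 4) (Fin 4) F} (h : InS (sg F m) M) :
    h.1.toSL ∈ Cfsg.Sz F m := by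
  rw [MulAction.mem_stabilizer_set' (Set.toFinite _)]
  intro p hp
  rw [mem_ovoid_iff] at hp
  rcases hp with rfl | ⟨x, y, rfl⟩
  · unfold Pinf
    rw [Projectivization.smul_mk]
    exact h.mk_mem m _
  · have e : pt (sg F m) x y = (Tm (sg F m) x y * Wm) *ᵥ einf := by
      have h1 : T (sg F m) x y • (W : SL4 F) • (einf : Fin 4 → F) = pt (sg F m) x y := by
        rw [W_smul_einf (sg F m), T_smul_pt _ sg_sg]; simp
      rw [← h1, ← Matrix.mulVec_mulVec]
      rfl
    have h2 : InS (sg F m) (M * (Tm (sg F m) x y * Wm)) :=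
      h.mul ((inS_Tm _ sg_sg x y).mul (inS_Wm _))
    unfold P
    rw [Projectivization.smul_mk]
    have e2 : h.1.toSL • pt (sg F m) x y = (M * (Tm (sg F m) x y * Wm)) *ᵥ einf := by
      rw [e]
      exact Matrix.mulVec_mulVec _ M _
    have := h2.mk_mem m (by rw [← e2]; exact (smul_ne_zero_iff_ne _).mpr (pt_ne_zero _ _ _))
    convert this using 2

theorem pow_fun_eq : (fun x : F => x ^ 2 ^ (m + 1)) = ⇑(sg F m) := by
  funext x
  exact (sg_apply m x).symm

theorem lieSz_eq : Cfsg.Lie.Sz F (2 ^ (m + 1)) =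
    (Cfsg.Sz F m).map Matrix.SpecialLinearGroup.toGL := by
  apply le_antisymm
  · unfold Cfsg.Lie.Sz
    rw [Subgroup.closure_le]
    rintro g ⟨hg1, hg2⟩
    rw [pow_fun_eq] at hg2
    have h : InS (sg F m) (g : Matrix (Fin 4) (Fin 4) F) := ⟨(mem_Sp4_iff g).mp hg1, hg2⟩
    exact ⟨_, h.mem_Sz m, Units.ext rfl⟩
  · have hgen : ∀ (x : SL4 F), InS (sg F m) (x : Matrix (Fin 4) (Fin 4) F) →
        Matrix.SpecialLinearGroup.toGL x ∈ Cfsg.Lie.Sz F (2 ^ (m + 1)) := by
      intro x hx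
      apply Subgroup.subset_closure
      refine ⟨(mem_Sp4_iff _).mpr hx.1, ?_⟩
      rw [pow_fun_eq]
      exact hx.2
    rintro _ ⟨g, hg, rfl⟩
    apply hgen
    by_cases h : (⟨g, hg⟩ : Cfsg.Sz F m) • (Pinf : PP F) = Pinf
    · obtain ⟨a, b, u, hh⟩ := nf_inf m ⟨g, hg⟩ h
      have : g = T (sg F m) a b * D (sg F m) u := congrArg Subtype.val hh
      rw [this]
      exact (inS_Tm _ sg_sg a b).mul (inS_Dm _ sg_sg u)
    · obtain ⟨a, b, c, d, u, hh⟩ := nf_ninf m ⟨g, hg⟩ h
      have : g = T (sg F m) a b * W * (T (sg F m) c d * D (sg F m) u) := congrArg Subtype.val hh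
      rw [this]
      exact ((inS_Tm _ sg_sg a b).mul (inS_Wm _)).mul ((inS_Tm _ sg_sg c d).mul (inS_Dm _ sg_sg u))

/-- the two realisations of the Suzuki group are isomorphic -/
noncomputable def lieEquiv : Cfsg.Sz F m ≃* Cfsg.Lie.Sz F (2 ^ (m + 1)) :=
  ((Cfsg.Sz F m).equivMapOfInjective _ Matrix.SpecialLinearGroup.toGL_injective).trans
    (MulEquiv.subgroupCongr (lieSz_eq m).symm)

end Cfsg.Agent.Lib.Helper19.Suz
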