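import Cfsg.Agent.Lib.Helper19.SubB
import Cfsg.Agent.Lib.Helper19.SuzL

/-!
# Complex representations of Suzuki groups, part A: additive characters of the field
-/

set_option autoImplicit false
set_option linter.style.haveILetI false
set_option linter.unusedSimpArgs false
set_option linter.unusedSectionVars false
open scoped Pointwise
open Matrix Polynomial

namespace Cfsg.Agent.Lib.Helper19.Suz

variable {F : Type*} [Field F] [Fintype F] [CharP F 2] (m : ℕ) [Hyp F m]

theorem chi_sq (ψ : AddChar F ℂ) (x : F) : ψ x * ψ x = 1 := by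
  rw [← AddChar.map_add_eq_mul, CharTwo.add_self_eq_zero, AddChar.map_zero_eq_one]

theorem chi_eq_of_add (ψ : AddChar F ℂ) {x y : F} (h : ψ (x + y) = 1) : ψ x = ψ y := by
  have := chi_sq ψ y
  calc ψ x = ψ x * (ψ y * ψ y) := by rw [this, mul_one]
    _ = ψ (x + y) * ψ y := by rw [AddChar.map_add_eq_mul, mul_assoc]
    _ = ψ y := by rw [h, one_mul]

theorem chi_sum_mul (ψ : AddChar F ℂ) (hψ : ψ ≠ 1) (c : F) [Decidable (c = 0)] :
    ∑ b, ψ (c * b) = if c = 0 then (Fintype.card F : ℂ) else 0 := by
  split_ifs with hc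
  · subst hc; simp
  · rw [← AddChar.sum_eq_zero_of_ne_one hψ]
    exact Fintype.sum_equiv (Equiv.mulLeft₀ c hc) _ _ (fun b => rfl)

/-- the radical of the commutator form twisted by `ψ` -/
def BadA (ψ : AddChar F ℂ) (a : F) : Prop := ∀ c, ψ (sg F m a * c + sg F m c * a) = 1

theorem sg_fix {t : F} (h : sg F m t = t) : t = 0 ∨ t = 1 := by
  have h2 : t ^ 2 = t := by
    rw [← sg_sg (m := m), h, h]
  have h3 : t * (t - 1) = 0 := by rw [mul_sub, mul_one, ← sq, h2, sub_self]
  rcases mul_eq_zero.1 h3 with h4 | h4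
  · exact Or.inl h4
  · exact Or.inr (sub_eq_zero.1 h4)

theorem bad_unique (ψ : AddChar F ℂ) (hψ : ψ ≠ 1) {a a' : F} (ha : a ≠ 0) (ha' : a' ≠ 0)
    (h : BadA m ψ a) (h' : BadA m ψ a') : a = a' := by
  have B : ∀ a, BadA m ψ a → ∀ s, ψ (a * sg F m a * s) = ψ (a * sg F m a * sg F m s) := by
    intro a h s
    apply chi_eq_of_add
    have := h (a * s)
    rw [map_mul] at this
    rw [← this]
    congr 1
    ring
  have he : a * sg F m a ≠ 0 := mul_ne_zero ha (by simpa using ha)
  have he' : a' * sg F m a' ≠ 0 := mul_ne_zero ha' (by simpa using ha')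
  obtain ⟨t, ht⟩ := sg_surjective m ((a' * sg F m a') / (a * sg F m a))
  have he'e : a' * sg F m a' = a * sg F m a * sg F m t := by
    rw [ht, mul_div_cancel₀ _ he]
  have key : ∀ s, ψ (a * sg F m a * (sg F m t + t) * s) = 1 := by
    intro s
    have h1 := B a' h' s
    have h2 := B a h (t * s)
    rw [he'e] at h1
    have e : a * sg F m a * (sg F m t + t) * s
        = a * sg F m a * sg F m t * s + a * sg F m a * (t * s) := by ring
    have e2 : a * sg F m a * sg F m t * sg F m s = a * sg F m a * sg F m (t * s) := by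
      rw [map_mul, mul_assoc]
    rw [e, AddChar.map_add_eq_mul, h1, h2, e2, chi_sq]
  have hz : a * sg F m a * (sg F m t + t) = 0 := by
    by_contra hne
    apply hψ
    ext x
    have := key (x / (a * sg F m a * (sg F m t + t)))
    rw [mul_div_cancel₀ _ hne] at this
    simpa using this
  have h3 : sg F m t + t = 0 := (mul_eq_zero.1 hz).resolve_left he
  have hst : sg F m t = t := CharTwo.add_eq_zero.1 h3
  rcases sg_fix m hst with rfl | rfl
  · rw [map_zero, mul_zero] at he'e
    exact absurd he'e he'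
  · rw [map_one, mul_one] at he'e
    exact ((mul_sg_bijective (F := F) m).1 he'e).symm

theorem exists_family (ψ : AddChar F ℂ) (hψ : ψ ≠ 1) : ∃ S : Finset F, 2 ^ (2 * m) ≤ S.card ∧
    ∀ a ∈ S, ∀ a' ∈ S, a ≠ a' → ¬ BadA m ψ (a + a') := by
  classical
  obtain ⟨a0, ha0, hbad⟩ : ∃ a0 : F, a0 ≠ 0 ∧ ∀ a, BadA m ψ a → a = 0 ∨ a = a0 := by
    by_cases hex : ∃ a0 : F, a0 ≠ 0 ∧ BadA m ψ a0
    · obtain ⟨a0, ha0, hb⟩ := hex
      refine ⟨a0, ha0, fun a ha => ?_⟩
      by_cases h0 : a = 0
      · exact Or.inl h0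
      · exact Or.inr (bad_unique m ψ hψ h0 ha0 ha hb)
    · push Not at hex
      refine ⟨1, one_ne_zero, fun a ha => ?_⟩
      left
      by_contra h0
      exact hex a h0 ha
  refine ⟨Finset.univ.image (fun s : F => a0 * (s + sg F m s)), ?_, ?_⟩
  · have h1 := Finset.card_le_mul_card_image (f := fun s : F => a0 * (s + sg F m s))
      (Finset.univ : Finset F) 2 (by
        intro y hy
        obtain ⟨x0, -, rfl⟩ := Finset.mem_image.1 hy
        refine le_trans (Finset.card_le_card (t := {x0, x0 + 1}) ?_) Finset.card_le_two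
        intro x hx
        have hx' : a0 * (x + sg F m x) = a0 * (x0 + sg F m x0) := (Finset.mem_filter.1 hx).2
        have h2 := mul_left_cancel₀ ha0 hx'
        have h3 : sg F m (x + x0) = x + x0 := by
          rw [map_add]
          grind
        rw [Finset.mem_insert, Finset.mem_singleton]
        rcases sg_fix m h3 with h4 | h4
        · left; exact CharTwo.add_eq_zero.1 h4
        · right; grind)
    rw [Finset.card_univ, Hyp.hF (F := F) (m := m), pow_succ, mul_comm] at h1
    omega
  · intro a ha a' ha' hne hb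
    obtain ⟨s, -, rfl⟩ := Finset.mem_image.1 ha
    obtain ⟨s', -, rfl⟩ := Finset.mem_image.1 ha'
    rcases hbad _ hb with h0 | h0
    · exact hne (CharTwo.add_eq_zero.1 h0)
    · apply no_sol m (s + s')
      have h1 : a0 * (sg F m (s + s') + (s + s')) = a0 * 1 := by
        rw [mul_one, map_add]
        conv_rhs => rw [← h0]
        ring
      exact mul_left_cancel₀ ha0 h1

end Cfsg.Agent.Lib.Helper19.Suz
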