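import Cfsg.Agent.Lib.Helper19.TorE

/-!
# Subgroups of Suzuki groups, part A: the soluble cases
-/

set_option autoImplicit false
set_option linter.style.haveILetI false
set_option linter.unusedSimpArgs false
set_option linter.unusedSectionVars false
open scoped Pointwise
open Matrix Polynomial

namespace Cfsg.Agent.Lib.Helper19.Suz

/-- the dihedral lemma -/
theorem dihedral {G : Type*} [Group G] {z z' : G} (hz : z * z = 1) (hz' : z' * z' = 1) {N : ℕ}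
    (hN : ¬ 2 ∣ N) (hy : (z' * z) ^ N = 1) :
    ∃ j : ℕ, ((z' * z) ^ j * z) * ((z' * z) ^ j * z) = 1 ∧
      ((z' * z) ^ j * z) * z * ((z' * z) ^ j * z)⁻¹ = z' := by
  obtain ⟨j, hj⟩ : ∃ j, N + 1 = 2 * j := ⟨(N + 1) / 2, by omega⟩
  set y := z' * z with hyd
  have hzi : z⁻¹ = z := inv_eq_of_mul_eq_one_left hz
  have hzi' : z'⁻¹ = z' := inv_eq_of_mul_eq_one_left hz'
  have hinv : z * y * z = y⁻¹ := by
    rw [hyd, _root_.mul_inv_rev, hzi, hzi']
    calc z * (z' * z) * z = z * z' * (z * z) := by group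
      _ = z * z' := by rw [hz, mul_one]
  have hpow : ∀ n : ℕ, z * y ^ n * z = (y ^ n)⁻¹ := by
    intro n
    induction n with
    | zero => simpa using hz
    | succ n ih =>
      calc z * y ^ (n + 1) * z = (z * y ^ n * z) * (z * y * z) := by
            rw [pow_succ]
            calc z * (y ^ n * y) * z = z * y ^ n * 1 * y * z := by group
              _ = z * y ^ n * (z * z) * y * z := by rw [hz]
              _ = _ := by group
        _ = (y ^ n)⁻¹ * y⁻¹ := by rw [ih, hinv]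
        _ = (y ^ (n + 1))⁻¹ := by group
  refine ⟨j, ?_, ?_⟩
  · calc y ^ j * z * (y ^ j * z) = y ^ j * (z * y ^ j * z) := by group
      _ = 1 := by rw [hpow, mul_inv_cancel]
  · have e1 : (y ^ j * z)⁻¹ = z * (y ^ j)⁻¹ := by rw [_root_.mul_inv_rev, hzi]
    rw [e1]
    calc y ^ j * z * z * (z * (y ^ j)⁻¹) = y ^ j * (z * z) * (z * (y ^ j)⁻¹) := by group
      _ = y ^ j * (z * (y ^ j)⁻¹) := by rw [hz, mul_one]
      _ = y ^ j * (z * (z * y ^ j * z)) := by rw [hpow]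
      _ = y ^ j * ((z * z) * y ^ j * z) := by group
      _ = y ^ (2 * j) * z := by rw [hz, one_mul, two_mul, pow_add]; group
      _ = y * z := by rw [← hj, pow_succ, hy, one_mul]
      _ = z' := by rw [hyd, mul_assoc, hz, mul_one]

variable {F : Type*} [Field F] [Fintype F] [CharP F 2] (m : ℕ) [Hyp F m]

/-- a non-trivial 2-element has a unique fixed point -/
theorem t_unique_fix {x : Cfsg.Sz F m} (hx1 : x ≠ 1) (hx4 : x ^ 4 = 1) {p p' : PP F}
    (hp : p ∈ Cfsg.suzukiOvoid F m) (hp' : p' ∈ Cfsg.suzukiOvoid F m) (h : x • p = p)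
    (h' : x • p' = p') : p = p' := by
  by_contra hne
  obtain ⟨k, k1, k2⟩ := exists_pair m hp hp' hne
  obtain ⟨u, hu⟩ := nf_two m (k * x * k⁻¹) (by
    rw [mul_smul, mul_smul, ← k1, inv_smul_smul, h]) (by
    rw [mul_smul, mul_smul, ← k2, inv_smul_smul, h'])
  have h4 : x ^ (2 ^ 2) = 1 := hx4
  exact hx1 (eq_one_of_coprime_pow (cop_of_odd (odd_pred (F := F) m) 2) h4 (pow_of_conj_d m hu))

theorem t_type {x : Cfsg.Sz F m} (hx1 : x ≠ 1) (hx4 : x ^ 4 = 1) :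
    ∃ k a b, k * x * k⁻¹ = tG m a b := by
  have h4 : x ^ (2 ^ 2) = 1 := hx4
  by_cases hFF : FF m x
  · exact absurd (eq_one_of_coprime_pow (cop_of_odd (not_two_dvd (F := F) m) 2) h4 hFF.pow) hx1
  · unfold FF at hFF
    push Not at hFF
    obtain ⟨p, hp, hfix⟩ := hFF
    rcases classify_fixed m hp hfix with h2 | ⟨k, u, hu, e⟩
    · exact h2
    · exact absurd (eq_one_of_coprime_pow (cop_of_odd (odd_pred (F := F) m) 2) h4
        (pow_of_conj_d m e)) hx1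

theorem t_exists_fix {x : Cfsg.Sz F m} (hx1 : x ≠ 1) (hx4 : x ^ 4 = 1) :
    ∃ p ∈ Cfsg.suzukiOvoid F m, x • p = p := by
  obtain ⟨k, a, b, e⟩ := t_type m hx1 hx4
  refine ⟨k⁻¹ • Pinf, smul_mem_ovoid m _ (Pinf_mem m), ?_⟩
  have e3 : x = k⁻¹ * (k * x * k⁻¹) * k := by group
  rw [e3, e, mul_smul, mul_smul, smul_inv_smul, tG_smul_Pinf]

theorem ss_cases {y : Cfsg.Sz F m} (h4 : y ^ 4 ≠ 1) :
    (∃ (k : Cfsg.Sz F m) (u : Fˣ), u ≠ 1 ∧ k * y * k⁻¹ = dG m u) ∨ FF m y := by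
  by_cases hFF : FF m y
  · exact Or.inr hFF
  · left
    unfold FF at hFF
    push Not at hFF
    obtain ⟨p, hp, hfix⟩ := hFF
    rcases classify_fixed m hp hfix with ⟨k, a, b, e⟩ | h2
    · exact absurd (pow_of_conj_t m e) h4
    · exact h2

/-- an odd exponent for semisimple elements -/
theorem ss_odd {y : Cfsg.Sz F m} (h4 : y ^ 4 ≠ 1) : ∃ N : ℕ, ¬ 2 ∣ N ∧ y ^ N = 1 := by
  rcases ss_cases m h4 with ⟨k, u, -, e⟩ | hFF
  · exact ⟨_, odd_pred (F := F) m, pow_of_conj_d m e⟩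
  · exact ⟨_, not_two_dvd (F := F) m, hFF.pow⟩

theorem ss_props {y : Cfsg.Sz F m} (h4 : y ^ 4 ≠ 1) :
    IsCyclic (Cen m y) ∧
    Nat.card (Cen m y) ∈ ({Fintype.card F - 1, Fintype.card F + 2 ^ (m + 1) + 1,
        Fintype.card F - 2 ^ (m + 1) + 1} : Set ℕ) ∧
    ∀ c ∈ Cen m y, c ≠ 1 → Cen m c = Cen m y := by
  rcases ss_cases m h4 with ⟨k, u, hu, e⟩ | hFF
  · obtain ⟨h1, h2⟩ := type_d m hu e
    refine ⟨h1, Or.inl h2, ?_⟩
    intro c hc hc1
    have h3 : k * c * k⁻¹ ∈ Cen m (dG m u) := by rw [← e]; exact conj_mem_Cen.2 hc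
    rw [cen_d m hu] at h3
    obtain ⟨v, hv⟩ := h3
    have hv' : dG m v = k * c * k⁻¹ := hv
    have hv1 : v ≠ 1 := by
      rintro rfl
      rw [dG_one] at hv'
      exact hc1 (eq_one_of_conj hv'.symm)
    have h5 : (Cen m c).map (MulAut.conj k).toMonoidHom = (Cen m y).map (MulAut.conj k).toMonoidHom := by
      rw [← Cen_conj, ← Cen_conj, e, ← hv', cen_d m hu, cen_d m hv1]
    exact Subgroup.map_injective (MulAut.conj k).injective h5
  · refine ⟨hFF.cyclic, ?_, fun c hc hc1 => hFF.cen_eq hc hc1⟩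
    rcases ((tori_main (F := F) m).1 y hFF).1 with e | e
    · right; left; exact e
    · right; right; exact e

theorem ss_ti {y : Cfsg.Sz F m} (h4 : y ^ 4 ≠ 1) (h : Cfsg.Sz F m) (hh : h * y * h⁻¹ ∈ Cen m y) :
    h ∈ Nor y := by
  have hy1 : y ≠ 1 := by rintro rfl; simp at h4
  have h1 : h * y * h⁻¹ ≠ 1 := fun h0 => hy1 (eq_one_of_conj h0)
  have e2 := (ss_props m h4).2.2 _ hh h1
  rw [Subgroup.mem_normalizer_iff]
  intro c
  show c ∈ Cen m y ↔ h * c * h⁻¹ ∈ Cen m y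
  constructor
  · intro hc
    rw [← e2, conj_mem_Cen]; exact hc
  · intro hc
    rw [← e2, conj_mem_Cen] at hc; exact hc

/-- the first two alternatives of the subgroup theorem -/
def Loc (M : Subgroup (Cfsg.Sz F m)) : Prop :=
  (∃ P : Sylow 2 ↥(Cfsg.Sz F m),
    M ≤ Subgroup.normalizer ((P : Subgroup ↥(Cfsg.Sz F m)) : Set ↥(Cfsg.Sz F m))) ∨
  (∃ U : Subgroup ↥(Cfsg.Sz F m), IsCyclic ↥U ∧ Nat.card ↥U ∈ ({Fintype.card F - 1,
      Fintype.card F + 2 ^ (m + 1) + 1, Fintype.card F - 2 ^ (m + 1) + 1} : Set ℕ) ∧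
      M ≤ Subgroup.normalizer (U : Set ↥(Cfsg.Sz F m)))

theorem loc_of_fix {M : Subgroup (Cfsg.Sz F m)} {p : PP F} (hp : p ∈ Cfsg.suzukiOvoid F m)
    (h : ∀ g ∈ M, g • p = p) : Loc m M := by
  haveI : Fact (Nat.Prime 2) := ⟨Nat.prime_two⟩
  left
  obtain ⟨k, hk⟩ := exists_smul_eq_Pinf m hp
  refine ⟨k⁻¹ • QS m, ?_⟩
  have e : ((k⁻¹ • QS m : Sylow 2 (Cfsg.Sz F m)) : Subgroup (Cfsg.Sz F m)) =
      (Q (F := F) m).map (MulAut.conj k⁻¹).toMonoidHom := rfl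
  rw [e, ← Subgroup.map_equiv_normalizer_eq, normalizer_Q]
  intro g hg
  refine Subgroup.mem_map.2 ⟨k * g * k⁻¹, ?_, ?_⟩
  · rw [MulAction.mem_stabilizer_iff, mul_smul, mul_smul, ← hk, inv_smul_smul, h g hg]
  · show k⁻¹ * (k * g * k⁻¹) * k⁻¹⁻¹ = g
    group

theorem loc_of_abelian_normal {M X : Subgroup (Cfsg.Sz F m)}
    (hnorm : ∀ g ∈ M, ∀ x ∈ X, g * x * g⁻¹ ∈ X) (hab : ∀ x ∈ X, ∀ y ∈ X, Commute x y)
    {y : Cfsg.Sz F m} (hy : y ∈ X) (hy1 : y ≠ 1) : Loc m M := by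
  by_cases h4 : y ^ 4 = 1
  · obtain ⟨p, hp, hfix⟩ := t_exists_fix m hy1 h4
    apply loc_of_fix m hp
    intro g hg
    have hc : Commute (g * y * g⁻¹) y := hab _ (hnorm g hg y hy) _ hy
    -- `g y g⁻¹` fixes `p`
    have h1 : (g * y * g⁻¹) ≠ 1 := fun h0 => hy1 (eq_one_of_conj h0)
    have h2 : (g * y * g⁻¹) ^ 4 = 1 := by rw [conj_pow, h4]; group
    have h3 : y • ((g * y * g⁻¹) • p) = (g * y * g⁻¹) • p := by
      rw [← mul_smul, ← hc.eq, mul_smul, hfix]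
    have h5 : (g * y * g⁻¹) • p = p :=
      t_unique_fix m hy1 h4 (smul_mem_ovoid m _ hp) hp h3 hfix
    have h6 : (g * y * g⁻¹) • (g • p) = g • p := by
      rw [mul_smul, mul_smul, inv_smul_smul, hfix]
    exact t_unique_fix m h1 h2 (smul_mem_ovoid m _ hp) hp h6 h5
  · right
    obtain ⟨a, b, -⟩ := ss_props m h4
    refine ⟨Cen m y, a, b, ?_⟩
    intro g hg
    exact ss_ti m h4 g (mem_Cen.2 (hab _ (hnorm g hg y hy) _ hy))

theorem loc_of_zgroup (M : Subgroup (Cfsg.Sz F m)) [IsZGroup M] : Loc m M := by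
  by_cases hM : M = ⊥
  · subst hM
    exact loc_of_fix m (Pinf_mem m) (by
      intro g hg
      rw [Subgroup.mem_bot.1 hg, one_smul])
  by_cases hc : commutator M = ⊥
  · obtain ⟨y, hy1⟩ := (Subgroup.ne_bot_iff_exists_ne_one).1 hM
    apply loc_of_abelian_normal m (M := M) (X := M) _ _ y.2 (fun h0 => hy1 (Subtype.ext h0))
    · intro g hg x hx
      exact mul_mem (mul_mem hg hx) (inv_mem hg)
    · intro x hx y hy
      rw [commutator_def, Subgroup.commutator_eq_bot_iff_le_centralizer] at hc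
      have h1 := Subgroup.mem_centralizer_iff.1 (hc (Subgroup.mem_top (⟨x, hx⟩ : M))) ⟨y, hy⟩
        (Subgroup.mem_top _)
      exact (congrArg Subtype.val h1).symm
  · haveI := IsZGroup.isCyclic_commutator (G := M)
    letI : CommGroup (commutator M) := IsCyclic.commGroup
    obtain ⟨y, hy1⟩ := (Subgroup.ne_bot_iff_exists_ne_one).1 hc
    have hyX : y.1.1 ∈ (commutator M).map M.subtype := ⟨y.1, y.2, rfl⟩
    have hy1' : y.1.1 ≠ 1 := fun h0 => hy1 (Subtype.ext (Subtype.ext h0))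
    refine loc_of_abelian_normal m (M := M) (X := (commutator M).map M.subtype) ?_ ?_ hyX hy1'
    · rintro g hg _ ⟨x, hx, rfl⟩
      have h1 : (⟨g, hg⟩ : M) * x * (⟨g, hg⟩ : M)⁻¹ ∈ commutator M :=
        (inferInstance : (commutator M).Normal).conj_mem x hx _
      exact Subgroup.mem_map.2 ⟨_, h1, rfl⟩
    · rintro _ ⟨x, hx, rfl⟩ _ ⟨x', hx', rfl⟩
      have := mul_comm (⟨x, hx⟩ : commutator M) ⟨x', hx'⟩
      exact congrArg (fun c : commutator M => c.1.1) this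

end Cfsg.Agent.Lib.Helper19.Suz
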