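import Cfsg.Agent.Lib.Helper19.SuzG

/-!
# Suzuki groups, part H: two generators
-/

set_option autoImplicit false
set_option linter.style.haveILetI false
set_option linter.unusedSimpArgs false
set_option linter.unusedSectionVars false
open scoped Pointwise
open Matrix

namespace Cfsg.Agent.Lib.Helper19.Suz

variable {F : Type*} [Field F] [Fintype F] [CharP F 2] (m : ℕ) [Hyp F m]

theorem sg_surjective : Function.Surjective (sg F m) :=
  Finite.surjective_of_injective (sg F m).injective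

/-- a subgroup containing the torus and one translation outside the centre contains `Q` -/
theorem Q_le_of_torus {M : Subgroup (Cfsg.Sz F m)} (hd : ∀ u : Fˣ, dG m u ∈ M) {a b : F} (ha : a ≠ 0)
    (hab : tG m a b ∈ M) : Q (F := F) m ≤ M := by
  have h1 : ∀ a' : F, ∃ b', tG m a' b' ∈ M := by
    intro a'
    by_cases ha' : a' = 0
    · subst ha'
      exact ⟨0, by rw [tG_zero]; exact M.one_mem⟩
    · obtain ⟨v, hv⟩ := sg_surjective (F := F) m (a' / a)
      have hv0 : v ≠ 0 := by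
        rintro rfl
        rw [map_zero] at hv
        exact (div_ne_zero ha' ha) hv.symm
      refine ⟨((Units.mk0 v hv0 : Fˣ) : F) ^ 2 * sg F m (Units.mk0 v hv0 : Fˣ) * b, ?_⟩
      have e := dG_mul_tG m (Units.mk0 v hv0) a b
      have e2 : sg F m ((Units.mk0 v hv0 : Fˣ) : F) * a = a' := by
        rw [Units.val_mk0, hv]; field_simp
      rw [e2] at e
      have : tG m a' (((Units.mk0 v hv0 : Fˣ) : F) ^ 2 * sg F m (Units.mk0 v hv0 : Fˣ) * b) =
          dG m (Units.mk0 v hv0) * tG m a b * (dG m (Units.mk0 v hv0))⁻¹ := by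
        rw [e]; group
      rw [this]
      exact M.mul_mem (M.mul_mem (hd _) hab) (M.inv_mem (hd _))
  have h2 : ∀ b' : F, tG m 0 b' ∈ M := by
    intro b'
    obtain ⟨a1, a2, h12⟩ := exists_comm m b'
    obtain ⟨b1, hb1⟩ := h1 a1
    obtain ⟨b2, hb2⟩ := h1 a2
    have := congrArg Subtype.val (qQ_comm m a1 b1 a2 b2)
    have e : tG m a1 b1 * tG m a2 b2 * (tG m a1 b1)⁻¹ * (tG m a2 b2)⁻¹ =
        tG m 0 (sg F m a1 * a2 + sg F m a2 * a1) := this
    rw [h12] at e
    rw [← e]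
    exact M.mul_mem (M.mul_mem (M.mul_mem hb1 hb2) (M.inv_mem hb1)) (M.inv_mem hb2)
  rintro _ ⟨a', b', rfl⟩
  obtain ⟨b1, hb1⟩ := h1 a'
  have : tG m a' b' = tG m a' b1 * tG m 0 (b' + b1) := by
    rw [tG_mul]
    congr 1
    · ring
    · grind
  rw [this]
  exact M.mul_mem hb1 (h2 _)

theorem two_generated : ∃ a b : Cfsg.Sz F m, Subgroup.closure ({a, b} : Set (Cfsg.Sz F m)) = ⊤ := by
  obtain ⟨u0, hu0⟩ := IsCyclic.exists_generator (α := Fˣ)
  refine ⟨dG m u0, tG m 1 0 * wG m, ?_⟩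
  set M := Subgroup.closure ({dG m u0, tG m 1 0 * wG m} : Set (Cfsg.Sz F m)) with hM
  have ha : dG m u0 ∈ M := Subgroup.subset_closure (by simp)
  have hb : tG m 1 0 * wG m ∈ M := Subgroup.subset_closure (by simp)
  have hd : ∀ u : Fˣ, dG m u ∈ M := by
    intro u
    obtain ⟨k, rfl⟩ := Subgroup.mem_zpowers_iff.mp (hu0 u)
    have : dG m (u0 ^ k) = (dG m u0) ^ k := map_zpow (dHom (F := F) m) u0 k
    rw [this]
    exact M.zpow_mem ha k
  obtain ⟨u, hu⟩ := exists_unit_ne_one (F := F) m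
  have hx : tG m 1 0 * dG m u * (tG m 1 0)⁻¹ ∈ M := by
    have e : tG m 1 0 * dG m u * (tG m 1 0)⁻¹ =
        (tG m 1 0 * wG m) * dG m u⁻¹ * (tG m 1 0 * wG m)⁻¹ := by
      have e1 : wG m * dG m u⁻¹ * (wG m)⁻¹ = dG m u := by
        rw [wG_mul_dG, inv_inv, mul_assoc, mul_inv_cancel, mul_one]
      calc tG m 1 0 * dG m u * (tG m 1 0)⁻¹
          = tG m 1 0 * (wG m * dG m u⁻¹ * (wG m)⁻¹) * (tG m 1 0)⁻¹ := by rw [e1]
        _ = _ := by group
    rw [e]
    exact M.mul_mem (M.mul_mem hb (hd _)) (M.inv_mem hb)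
  have hy : dG m u * tG m 1 0 * (dG m u)⁻¹ * (tG m 1 0)⁻¹ ∈ M := by
    have e : dG m u * tG m 1 0 * (dG m u)⁻¹ * (tG m 1 0)⁻¹ =
        dG m u * (tG m 1 0 * dG m u * (tG m 1 0)⁻¹)⁻¹ := by group
    rw [e]
    exact M.mul_mem (hd _) (M.inv_mem hx)
  have key := comm_formula m 0 0 1 0 u
  rw [tG_zero, one_mul] at key
  rw [key] at hy
  have hne : (sg F m u + 1) * 1 ≠ 0 := by
    rw [mul_one]
    intro h
    apply hu
    apply Units.ext
    apply sg_eq_one m
    grind
  have hQ := Q_le_of_torus m hd hne hy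
  apply eq_top_of_Q_le m hQ
  intro hle
  have := hle hb
  rw [MulAction.mem_stabilizer_iff, mul_smul, wG_smul_Pinf, tG_smul_P] at this
  exact P_ne_Pinf _ _ _ this

end Cfsg.Agent.Lib.Helper19.Suz
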