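import Cfsg.Agent.Lib.Helper19.SubA
import Cfsg.Agent.Lib.Helper19.SuzH

/-!
# Subgroups of Suzuki groups, part B: recognising the subfield subgroups
-/

set_option autoImplicit false
set_option linter.style.haveILetI false
set_option linter.unusedSimpArgs false
set_option linter.unusedSectionVars false
open scoped Pointwise
open Matrix Polynomial

namespace Cfsg.Agent.Lib.Helper19.Suz

variable {F : Type*} [Field F] [Fintype F] [CharP F 2] (m : ℕ) [Hyp F m]

theorem exists_swap {M : Subgroup (Cfsg.Sz F m)} {z z' : Cfsg.Sz F m} (hz : z ∈ M) (hz' : z' ∈ M)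
    (hz1 : z ≠ 1) (hz'1 : z' ≠ 1) (hzz : z * z = 1) (hzz' : z' * z' = 1) {p p' : PP F}
    (hp : p ∈ Cfsg.suzukiOvoid F m) (hp' : p' ∈ Cfsg.suzukiOvoid F m) (hfix : z • p = p)
    (hfix' : z' • p' = p') (hne : p ≠ p') :
    ∃ r ∈ M, r * z * r⁻¹ = z' ∧ r • p = p' ∧ r • p' = p := by
  have hz4 : z ^ 4 = 1 := by
    have : z ^ 4 = (z * z) * (z * z) := by
      rw [← pow_two z, ← pow_add]
    rw [this, hzz, one_mul]
  have hz'4 : z' ^ 4 = 1 := by
    have : z' ^ 4 = (z' * z') * (z' * z') := by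
      rw [← pow_two z', ← pow_add]
    rw [this, hzz', one_mul]
  have hzi : z⁻¹ = z := inv_eq_of_mul_eq_one_left hzz
  have hzi' : z'⁻¹ = z' := inv_eq_of_mul_eq_one_left hzz'
  obtain ⟨N, hN, hy⟩ : ∃ N : ℕ, ¬ 2 ∣ N ∧ (z' * z) ^ N = 1 := by
    by_cases h4 : (z' * z) ^ 4 = 1
    · exfalso
      by_cases h1 : z' * z = 1
      · have e : z' = z := by rw [← hzi]; exact eq_inv_of_mul_eq_one_left h1
        rw [e] at hfix'
        exact hne (t_unique_fix m hz1 hz4 hp hp' hfix hfix')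
      · obtain ⟨p0, hp0, hf0⟩ := t_exists_fix m h1 h4
        have a1 : (z' * z) • (z • p0) = z • p0 := by
          have e : z' * z * z = z * (z' * z)⁻¹ * 1 := by
            rw [_root_.mul_inv_rev, hzi, hzi', mul_assoc z', hzz]
            calc z' * 1 = (z * z) * z' * 1 := by rw [hzz]; group
              _ = _ := by group
          rw [← mul_smul, e, mul_one, mul_smul, inv_smul_eq_iff.2 hf0.symm]
        have a2 : z • p0 = p0 := t_unique_fix m h1 h4 (smul_mem_ovoid m _ hp0) hp0 a1 hf0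
        have a3 : z' • p0 = p0 := by
          have := hf0
          rw [mul_smul, a2] at this
          exact this
        exact hne ((t_unique_fix m hz1 hz4 hp hp0 hfix a2).trans
          (t_unique_fix m hz'1 hz'4 hp0 hp' a3 hfix'))
    · exact ss_odd m h4
  obtain ⟨j, h1, h2⟩ := dihedral hzz hzz' hN hy
  set r := (z' * z) ^ j * z with hr
  have hrp : r • p = p' := by
    apply t_unique_fix m hz'1 hz'4 (smul_mem_ovoid m _ hp) hp' _ hfix'
    rw [← h2, mul_smul, mul_smul, inv_smul_smul, hfix]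
  refine ⟨r, mul_mem (pow_mem (mul_mem hz' hz) j) hz, h2, hrp, ?_⟩
  rw [← hrp, ← mul_smul, h1, one_smul]

theorem lam_inj : Function.Injective (fun a : F => a ^ 2 * sg F m a) := by
  intro a a' h
  simp only at h
  by_cases ha' : a' = 0
  · subst ha'
    simp only [map_zero, mul_zero, mul_eq_zero, map_eq_zero, ne_eq, OfNat.ofNat_ne_zero,
      not_false_eq_true, pow_eq_zero_iff, or_self] at h
    exact h
  · have hs : sg F m a' ≠ 0 := by simpa using ha'
    have : a / a' = 1 := by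
      apply sq_sg_eq_one m
      rw [map_div₀]
      field_simp
      exact h
    field_simp at this
    exact this

theorem tG0_ne_one {b : F} (hb : b ≠ 0) : tG m 0 b ≠ 1 := by
  rw [tG_ne_one_iff]
  rintro ⟨-, h0⟩
  exact hb h0

theorem tG0_sq (b : F) : tG m 0 b * tG m 0 b = 1 := by
  rw [tG_zero_mul, CharTwo.add_self_eq_zero, tG_zero]

theorem conj_d_t0 (u : Fˣ) (b : F) :
    dG m u * tG m 0 b * (dG m u)⁻¹ = tG m 0 ((u : F) ^ 2 * sg F m u * b) := by
  have := conj_td_zero m 0 0 b u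
  rwa [tG_zero, one_mul] at this

/-- normalised position -/
structure Nrm (M : Subgroup (Cfsg.Sz F m)) : Prop where
  one : tG m 0 1 ∈ M
  two : ∃ b1 : F, b1 ≠ 0 ∧ b1 ≠ 1 ∧ tG m 0 b1 ∈ M
  opp : ∃ z' ∈ M, z' ≠ 1 ∧ z' * z' = 1 ∧ z' • P (sg F m) 0 0 = P (sg F m) 0 0

variable {m} {M : Subgroup (Cfsg.Sz F m)}

theorem Nrm.d_of_lam (hN : Nrm m M) {u : Fˣ} (h : tG m 0 ((u : F) ^ 2 * sg F m u) ∈ M) :
    dG m u ∈ M := by
  obtain ⟨z', hz', hz'1, hzz', hfix'⟩ := hN.opp
  have hb : (u : F) ^ 2 * sg F m u ≠ 0 := by simp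
  obtain ⟨r1, hr1, e1, f1, g1⟩ := exists_swap m hN.one hz' (tG0_ne_one m one_ne_zero) hz'1
    (tG0_sq m 1) hzz' (Pinf_mem m) (P_mem m 0 0) (tG_smul_Pinf m 0 1) hfix' (P_ne_Pinf _ _ _).symm
  obtain ⟨rb, hrb, eb, fb, gb⟩ := exists_swap m h hz' (tG0_ne_one m hb) hz'1
    (tG0_sq m _) hzz' (Pinf_mem m) (P_mem m 0 0) (tG_smul_Pinf m 0 _) hfix' (P_ne_Pinf _ _ _).symm
  obtain ⟨v, hv⟩ := nf_two m (rb⁻¹ * r1) (by rw [mul_smul, f1, inv_smul_eq_iff, fb])
    (by rw [mul_smul, g1, inv_smul_eq_iff, gb])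
  have e2 : (rb⁻¹ * r1) * tG m 0 1 * (rb⁻¹ * r1)⁻¹ = tG m 0 ((u : F) ^ 2 * sg F m u) := by
    calc (rb⁻¹ * r1) * tG m 0 1 * (rb⁻¹ * r1)⁻¹ = rb⁻¹ * (r1 * tG m 0 1 * r1⁻¹) * rb := by group
      _ = rb⁻¹ * (rb * tG m 0 ((u : F) ^ 2 * sg F m u) * rb⁻¹) * rb := by rw [e1, eb]
      _ = _ := by group
  rw [hv, conj_d_t0, mul_one] at e2
  have e3 : (v : F) = u := lam_inj m (tG_inj m e2).2
  have e4 : v = u := Units.ext e3
  rw [← e4, ← hv]
  exact mul_mem (inv_mem hrb) hr1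

/-- the subfield attached to `M` -/
def Nrm.KF (hN : Nrm m M) : Subfield F where
  carrier := {b | tG m 0 b ∈ M}
  mul_mem' := by
    intro a b ha hb
    have ha' : tG m 0 a ∈ M := ha
    have hb' : tG m 0 b ∈ M := hb
    show tG m 0 (a * b) ∈ M
    by_cases ha0 : a = 0
    · subst ha0
      simpa using ha'
    · obtain ⟨u, hu⟩ := exists_lam m ha0
      have hd : dG m u ∈ M := hN.d_of_lam (by rw [hu]; exact ha')
      have := mul_mem (mul_mem hd hb') (inv_mem hd)
      rw [conj_d_t0, hu] at this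
      exact this
  one_mem' := hN.one
  add_mem' := by
    intro a b ha hb
    have ha' : tG m 0 a ∈ M := ha
    have hb' : tG m 0 b ∈ M := hb
    show tG m 0 (a + b) ∈ M
    have := mul_mem ha' hb'
    rwa [tG_zero_mul] at this
  zero_mem' := by
    show tG m 0 0 ∈ M
    rw [tG_zero]; exact M.one_mem
  neg_mem' := by
    intro a ha
    rwa [CharTwo.neg_eq]
  inv_mem' := by
    intro a ha
    have ha' : tG m 0 a ∈ M := ha
    show tG m 0 a⁻¹ ∈ M
    by_cases ha0 : a = 0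
    · subst ha0
      simpa using ha'
    · obtain ⟨u, hu⟩ := exists_lam m ha0
      have hd : dG m u ∈ M := hN.d_of_lam (by rw [hu]; exact ha')
      have := mul_mem (mul_mem (inv_mem hd) hN.one) (inv_mem (inv_mem hd))
      rw [dG_inv, conj_d_t0, mul_one] at this
      have e : ((u⁻¹ : Fˣ) : F) ^ 2 * sg F m ((u⁻¹ : Fˣ) : F) = a⁻¹ := by
        rw [← hu, Units.val_inv_eq_inv_val, map_inv₀, _root_.mul_inv, inv_pow]
      rw [e] at this
      exact this

theorem Nrm.mem_KF (hN : Nrm m M) {b : F} : b ∈ hN.KF ↔ tG m 0 b ∈ M := Iff.rfl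

theorem mem_of_map_mem (K : Subfield F) (f : F → F) (hf : Function.Injective f)
    (hK : ∀ x ∈ K, f x ∈ K) {x : F} (hx : f x ∈ K) : x ∈ K := by
  let g : K → K := fun k => ⟨f k.1, hK k.1 k.2⟩
  have hg : Function.Injective g := by
    intro a b hab
    exact Subtype.ext (hf (congrArg Subtype.val hab))
  obtain ⟨k, hk⟩ := Finite.surjective_of_injective hg ⟨f x, hx⟩
  have : f k.1 = f x := congrArg Subtype.val hk
  rw [← hf this]
  exact k.2

variable (m) in
theorem sg_mem (K : Subfield F) {x : F} (hx : x ∈ K) : sg F m x ∈ K := by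
  rw [sg_apply]; exact pow_mem hx _

variable (m) in
theorem sg_mem_iff (K : Subfield F) {x : F} : sg F m x ∈ K ↔ x ∈ K :=
  ⟨mem_of_map_mem K _ (sg F m).injective (fun _ h => sg_mem m K h), sg_mem m K⟩

variable (m) in
theorem lam_mem_iff (K : Subfield F) {x : F} : x ^ 2 * sg F m x ∈ K ↔ x ∈ K :=
  ⟨mem_of_map_mem K _ (lam_inj m) (fun _ h => mul_mem (pow_mem h 2) (sg_mem m K h)),
    fun h => mul_mem (pow_mem h 2) (sg_mem m K h)⟩

variable (m) in
theorem mu_mem_iff (K : Subfield F) {x : F} : x * sg F m x ∈ K ↔ x ∈ K :=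
  ⟨mem_of_map_mem K _ (mul_sg_bijective (F := F) m).1 (fun _ h => mul_mem h (sg_mem m K h)),
    fun h => mul_mem h (sg_mem m K h)⟩

theorem Nrm.d_mem_iff (hN : Nrm m M) (u : Fˣ) : dG m u ∈ M ↔ (u : F) ∈ hN.KF := by
  rw [← lam_mem_iff m]
  constructor
  · intro hd
    have := mul_mem (mul_mem hd hN.one) (inv_mem hd)
    rw [conj_d_t0, mul_one] at this
    exact this
  · intro h
    exact hN.d_of_lam h

theorem Nrm.td_mem (hN : Nrm m M) {a b : F} {u : Fˣ} (h : tG m a b * dG m u ∈ M) :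
    dG m u ∈ M ∧ tG m a b ∈ M := by
  have h1 := mul_mem (mul_mem h hN.one) (inv_mem h)
  rw [conj_td_zero, mul_one] at h1
  have hd := hN.d_of_lam h1
  refine ⟨hd, ?_⟩
  have := mul_mem h (inv_mem hd)
  rwa [mul_assoc, mul_inv_cancel, mul_one] at this

end Cfsg.Agent.Lib.Helper19.Suz
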