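import Cfsg.Agent.Lib.Helper19.SuzV

/-!
# Suzuki groups, part W: embeddings of Suzuki groups over subfields
-/

set_option autoImplicit false
set_option linter.style.haveILetI false
set_option linter.unusedSimpArgs false
set_option linter.unusedSectionVars false
open scoped Pointwise
open Matrix

namespace Cfsg.Agent.Lib.Helper19.Suz

variable {K : Type*} [Field K] [Fintype K] [CharP K 2] (k : ℕ) [Hyp K k]
variable {F : Type*} [Field F] [Fintype F] [CharP F 2] (m : ℕ) [Hyp F m]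

/-- compatibility of the two Tits endomorphisms -/
def Cpt (K : Type*) [Field K] [CharP K 2] (k : ℕ) (F : Type*) [Field F] [CharP F 2] (m : ℕ) : Prop :=
  ∀ (τ : K →+* F) (x : K), τ (sg K k x) = sg F m (τ x)

theorem cpt_of_dvd (hdiv : 2 * k + 1 ∣ 2 * m + 1) : Cpt K k F m := by
  intro τ x
  obtain ⟨c, hc⟩ := hdiv
  obtain ⟨j, rfl⟩ : ∃ j, c = 2 * j + 1 := by
    rcases Nat.even_or_odd' c with ⟨j, rfl | rfl⟩
    · exfalso
      have : 2 * m + 1 = 2 * ((2 * k + 1) * j) := by rw [hc]; ring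
      omega
    · exact ⟨j, rfl⟩
  have hm : m + 1 = (2 * k + 1) * j + (k + 1) := by
    have : 2 * m + 1 = 2 * ((2 * k + 1) * j) + (2 * k + 1) := by rw [hc]; ring
    omega
  have hy : (τ x) ^ 2 ^ (2 * k + 1) = τ x := by
    rw [← map_pow, ← Hyp.hF (F := K) (m := k), FiniteField.pow_card]
  have hj : ∀ j : ℕ, (τ x) ^ 2 ^ ((2 * k + 1) * j) = τ x := by
    intro j
    induction j with
    | zero => simp
    | succ j ih => rw [mul_add, mul_one, pow_add, pow_mul, ih, hy]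
  rw [sg_apply, sg_apply, hm, pow_add 2 ((2 * k + 1) * j), pow_mul, hj, map_pow]

variable {k m}

theorem mapE_T (hc : Cpt K k F m) (τ : K →+* F) (a b : K) :
    Matrix.SpecialLinearGroup.map τ (T (sg K k) a b) = T (sg F m) (τ a) (τ b) := by
  apply Subtype.ext
  ext i j
  show τ (Tm (sg K k) a b i j) = Tm (sg F m) (τ a) (τ b) i j
  fin_cases i <;> fin_cases j <;> simp [Tm, hc τ]

theorem mapE_D (hc : Cpt K k F m) (τ : K →+* F) (u : Kˣ) :
    Matrix.SpecialLinearGroup.map τ (D (sg K k) u) = D (sg F m) (Units.map (τ : K →* F) u) := by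
  apply Subtype.ext
  ext i j
  show τ (Dm (sg K k) u i j) = Dm (sg F m) (Units.map (τ : K →* F) u) i j
  fin_cases i <;> fin_cases j <;> simp [Dm, hc τ]

theorem mapE_W (τ : K →+* F) : Matrix.SpecialLinearGroup.map τ (W : SL4 K) = W := by
  apply Subtype.ext
  ext i j
  show τ (Wm i j) = Wm i j
  fin_cases i <;> fin_cases j <;> simp [Wm]

theorem mapE_mem (hc : Cpt K k F m) (τ : K →+* F) (g : Cfsg.Sz K k) :
    Matrix.SpecialLinearGroup.map τ (g : SL4 K) ∈ Cfsg.Sz F m := by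
  by_cases h : g • (Pinf : PP K) = Pinf
  · obtain ⟨a, b, u, rfl⟩ := nf_inf k g h
    have : ((tG k a b * dG k u : Cfsg.Sz K k) : SL4 K) = T (sg K k) a b * D (sg K k) u := rfl
    rw [this, map_mul, mapE_T hc, mapE_D hc]
    exact mul_mem (T_mem _ _) (D_mem _)
  · obtain ⟨a, b, c, d, u, rfl⟩ := nf_ninf k g h
    have : ((tG k a b * wG k * (tG k c d * dG k u) : Cfsg.Sz K k) : SL4 K) =
        T (sg K k) a b * W * (T (sg K k) c d * D (sg K k) u) := rfl
    rw [this, map_mul, map_mul, map_mul, mapE_T hc, mapE_T hc, mapE_D hc, mapE_W]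
    exact mul_mem (mul_mem (T_mem _ _) W_mem) (mul_mem (T_mem _ _) (D_mem _))

/-- the embedding induced by a field embedding -/
def eHom (hc : Cpt K k F m) (τ : K →+* F) : Cfsg.Sz K k →* Cfsg.Sz F m where
  toFun g := ⟨Matrix.SpecialLinearGroup.map τ (g : SL4 K), mapE_mem hc τ g⟩
  map_one' := Subtype.ext (map_one _)
  map_mul' _ _ := Subtype.ext (map_mul _ _ _)

theorem eHom_t (hc : Cpt K k F m) (τ : K →+* F) (a b : K) :
    eHom hc τ (tG k a b) = tG m (τ a) (τ b) := Subtype.ext (mapE_T hc τ a b)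

theorem eHom_d (hc : Cpt K k F m) (τ : K →+* F) (u : Kˣ) :
    eHom hc τ (dG k u) = dG m (Units.map (τ : K →* F) u) := Subtype.ext (mapE_D hc τ u)

theorem eHom_w (hc : Cpt K k F m) (τ : K →+* F) : eHom hc τ (wG k) = wG m := Subtype.ext (mapE_W τ)

theorem eHom_injective (hc : Cpt K k F m) (τ : K →+* F) : Function.Injective (eHom hc τ) := by
  intro g h hgh
  have h1 : Matrix.SpecialLinearGroup.map τ (g : SL4 K) = Matrix.SpecialLinearGroup.map τ (h : SL4 K) :=
    congrArg Subtype.val hgh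
  apply Subtype.ext
  apply Subtype.ext
  ext i j
  have h2 : τ ((g : SL4 K).1 i j) = τ ((h : SL4 K).1 i j) :=
    congrArg (fun M : SL4 F => M.1 i j) h1
  exact τ.injective h2

/-- conjugate of a homomorphism -/
def cj (c : Cfsg.Sz F m) (φ : Cfsg.Sz K k →* Cfsg.Sz F m) : Cfsg.Sz K k →* Cfsg.Sz F m :=
  (MulAut.conj c).toMonoidHom.comp φ

theorem cj_apply (c : Cfsg.Sz F m) (φ : Cfsg.Sz K k →* Cfsg.Sz F m) (x : Cfsg.Sz K k) :
    cj c φ x = c * φ x * c⁻¹ := rfl

theorem cj_injective (c : Cfsg.Sz F m) {φ : Cfsg.Sz K k →* Cfsg.Sz F m} (h : Function.Injective φ) :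
    Function.Injective (cj c φ) := (MulAut.conj c).injective.comp h

/-- the homomorphism maps the standard Sylow subgroup into the standard one -/
def PQ' (φ : Cfsg.Sz K k →* Cfsg.Sz F m) : Prop := ∀ a b, φ (tG k a b) ∈ Q (F := F) m

theorem PQ'.bor {φ : Cfsg.Sz K k →* Cfsg.Sz F m} (h : PQ' φ) (hi : Function.Injective φ)
    {g : Cfsg.Sz K k} (hg : g ∈ Bor (F := K) k) : φ g ∈ Bor (F := F) m := by
  have h1 : φ (tG k 1 0) ∈ Q (F := F) m := h 1 0
  have h2 : φ (tG k 1 0) ≠ 1 := by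
    intro h3
    exact tG_one_ne k (hi (h3.trans (map_one φ).symm))
  rw [mem_Bor_iff_conj m h1 h2, ← map_inv, ← map_mul, ← map_mul]
  obtain ⟨a, b, e⟩ := (mem_Bor_iff_conj k ⟨1, 0, rfl⟩ (tG_one_ne k) g).mp hg
  rw [e]
  exact h a b

theorem PQ'.conj {φ : Cfsg.Sz K k →* Cfsg.Sz F m} (h : PQ' φ) {b : Cfsg.Sz F m}
    (hb : b ∈ Bor (F := F) m) : PQ' (cj b φ) := by
  intro x y
  rw [← normalizer_Q, Subgroup.mem_normalizer_iff] at hb
  rw [cj_apply, ← hb]
  exact h x y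

theorem eq_eHom_of (hc : Cpt K k F m) (φ : Cfsg.Sz K k →* Cfsg.Sz F m) (τ : K →+* F)
    (hT : ∀ a b, φ (tG k a b) = tG m (τ a) (τ b))
    (hD : ∀ u, φ (dG k u) = dG m (Units.map (τ : K →* F) u))
    (hw : φ (wG k) • (Pinf : PP F) = P (sg F m) 0 0) : φ = eHom hc τ := by
  have key : ∀ g, φ g • (Pinf : PP F) = eHom hc τ g • Pinf := by
    intro g
    by_cases h : g • (Pinf : PP K) = Pinf
    · obtain ⟨a, b, u, rfl⟩ := nf_inf k g h
      rw [map_mul, map_mul, hT, hD, eHom_t, eHom_d]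
    · obtain ⟨a, b, c, d, u, rfl⟩ := nf_ninf k g h
      simp only [map_mul, hT, hD, eHom_t, eHom_d, eHom_w, mul_smul, dG_smul_Pinf, tG_smul_Pinf, hw,
        wG_smul_Pinf]
  have key2 : ∀ g x, ((eHom hc τ g)⁻¹ * φ g) • (φ x • (Pinf : PP F)) = φ x • (Pinf : PP F) := by
    intro g x
    rw [mul_smul, inv_smul_eq_iff, ← mul_smul, ← map_mul, key, map_mul, mul_smul, key]
  apply MonoidHom.ext
  intro g
  have h1 := key2 g 1
  have h2 := key2 g (wG k)
  have h3 := key2 g (tG k 1 0 * wG k)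
  rw [map_one, one_smul] at h1
  rw [hw] at h2
  rw [map_mul, mul_smul (φ (tG k 1 0)), hw, hT, tG_smul_P] at h3
  have := three_fix m _ (Pinf_mem m) (P_mem m 0 0) (P_mem m _ _) (P_ne_Pinf _ _ _).symm
    (fun h => by have := (P_inj _ h).1; simp at this) (P_ne_Pinf _ _ _).symm h1 h2 h3
  exact (inv_mul_eq_one.mp this).symm

theorem eq_eHom (hc : Cpt K k F m) (φ : Cfsg.Sz K k →* Cfsg.Sz F m) (hi : Function.Injective φ)
    (hQ : PQ' φ) (hw : φ (wG k) • (Pinf : PP F) = P (sg F m) 0 0)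
    (h1 : ∃ c, φ (tG k 1 0) = tG m 1 c) : ∃ τ : K →+* F, φ = eHom hc τ := by
  have hf : ∀ a : K, ∃ a' b', φ (tG k a 0) = tG m a' b' := fun a => hQ a 0
  choose f κ hfk using hf
  have hg : ∀ b : K, ∃ b', φ (tG k 0 b) = tG m 0 b' := by
    intro b
    obtain ⟨a, ha⟩ := (mul_sg_bijective (F := K) k).2 b
    simp only at ha
    refine ⟨sg F m (f a) * f a, ?_⟩
    rw [← ha, mul_comm a, ← tG_sq k a 0, map_mul, hfk, tG_sq]
  choose g hg using hg
  have hρ : ∀ u : Kˣ, ∃ v, φ (dG k u) = dG m v := by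
    intro u
    have hb : ∀ v : Kˣ, φ (dG k v) • (Pinf : PP F) = Pinf := fun v =>
      hQ.bor hi (g := dG k v) (dG_smul_Pinf k v)
    apply nf_two m _ (hb u)
    rw [← hw, ← mul_smul, ← map_mul]
    have : dG k u * wG k = wG k * dG k u⁻¹ := by rw [wG_mul_dG, inv_inv]
    rw [this, map_mul, mul_smul, hb]
  choose ρ hρ using hρ
  have E1 : ∀ a c, f (a + c) = f a + f c ∧
      κ (a + c) + g (sg K k a * c) = κ a + κ c + sg F m (f a) * f c := by
    intro a c
    have h : tG k a 0 * tG k c 0 = tG k (a + c) 0 * tG k 0 (sg K k a * c) := by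
      rw [tG_mul, tG_mul]; congr 1 <;> simp
    have h2 := congrArg φ h
    rw [map_mul, map_mul, hfk, hfk, hfk, hg, tG_mul, tG_mul] at h2
    obtain ⟨e1, e2⟩ := tG_inj m h2
    simp only [add_zero, mul_zero] at e1 e2
    exact ⟨e1.symm, e2.symm⟩
  have E2 : ∀ b c, g (b + c) = g b + g c := by
    intro b c
    have h2 := congrArg φ (tG_zero_mul k b c)
    rw [map_mul, hg, hg, hg, tG_zero_mul] at h2
    exact (tG_inj m h2).2.symm
  have E3 : ∀ (u : Kˣ) a, f (sg K k u * a) = sg F m (ρ u) * f a ∧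
      κ (sg K k u * a) = (ρ u : F) ^ 2 * sg F m (ρ u) * κ a := by
    intro u a
    have h2 := congrArg φ (dG_mul_tG k u a 0)
    rw [mul_zero, map_mul, map_mul, hρ, hfk, hfk, dG_mul_tG] at h2
    obtain ⟨e1, e2⟩ := tG_inj m (mul_right_cancel h2)
    exact ⟨e1.symm, e2.symm⟩
  have E4 : ∀ (u : Kˣ) b, g ((u : K) ^ 2 * sg K k u * b) = (ρ u : F) ^ 2 * sg F m (ρ u) * g b := by
    intro u b
    have h2 := congrArg φ (dG_mul_tG k u 0 b)
    rw [mul_zero, map_mul, map_mul, hρ, hg, hg, dG_mul_tG] at h2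
    exact (tG_inj m (mul_right_cancel h2)).2.symm
  have E5 : ∀ a, g (sg K k a * a) = sg F m (f a) * f a := by
    intro a
    have h2 := congrArg φ (tG_sq k a 0)
    rw [map_mul, hfk, hg, tG_sq] at h2
    exact (tG_inj m h2).2.symm
  have E6 : f 1 = 1 := by
    obtain ⟨k', hk'⟩ := h1
    rw [hfk] at hk'
    exact (tG_inj m hk').1
  have f0 : f 0 = 0 := by
    have := (E1 0 0).1
    rw [add_zero] at this
    exact (add_eq_left.mp this.symm)
  have g0 : g 0 = 0 := by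
    have := E2 0 0
    rw [add_zero] at this
    exact (add_eq_left.mp this.symm)
  have fs : ∀ u : Kˣ, f (sg K k u) = sg F m (ρ u) := by
    intro u
    have := (E3 u 1).1
    rwa [mul_one, E6, mul_one] at this
  have fmul : ∀ x a, f (x * a) = f x * f a := by
    intro x a
    by_cases hx : x = 0
    · subst hx; rw [zero_mul, f0, zero_mul]
    · obtain ⟨y, rfl⟩ := sg_surjective (F := K) k x
      have hy : y ≠ 0 := by rintro rfl; exact hx (map_zero _)
      have := (E3 (Units.mk0 y hy) a).1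
      rw [← fs] at this
      exact this
  let τ : K →+* F :=
    { toFun := f
      map_one' := E6
      map_mul' := fmul
      map_zero' := f0
      map_add' := fun a c => (E1 a c).1 }
  have hτ : ∀ x, f x = τ x := fun _ => rfl
  have hρτ : ∀ u : Kˣ, (ρ u : F) = τ u := by
    intro u
    apply (sg F m).injective
    rw [← fs, hτ, hc τ]
  have g1 : g 1 = 1 := by
    have := E5 1
    rwa [map_one, mul_one, E6, map_one, mul_one] at this
  have hgτ : ∀ l, g l = τ l := by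
    intro l
    by_cases hl : l = 0
    · subst hl; rw [g0, map_zero]
    · obtain ⟨u, rfl⟩ := exists_lam (F := K) k hl
      have := E4 u 1
      rw [mul_one, g1, mul_one, hρτ] at this
      rw [this, map_mul, map_pow, hc τ]
  have kadd : ∀ a c, κ (a + c) = κ a + κ c := by
    intro a c
    have := (E1 a c).2
    rw [hgτ, hτ, hτ, map_mul, hc τ] at this
    exact add_right_cancel this
  have k0 : κ 0 = 0 := by
    have := kadd 0 0
    rw [add_zero] at this
    exact (add_eq_left.mp this.symm)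
  have kx : ∀ x, κ x = τ (sg K k x * x) * κ 1 := by
    intro x
    by_cases hx : x = 0
    · subst hx; rw [k0, mul_zero, map_zero, zero_mul]
    · obtain ⟨y, rfl⟩ := sg_surjective (F := K) k x
      have hy : y ≠ 0 := by rintro rfl; exact hx (map_zero _)
      have := (E3 (Units.mk0 y hy) 1).2
      rw [mul_one, hρτ] at this
      rw [Units.val_mk0] at this
      rw [this, sg_sg, map_mul, map_pow, hc τ]
  have k1 : κ 1 = 0 := by
    obtain ⟨a, c, hac⟩ := exists_comm (F := K) k 1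
    have h := kadd a c
    rw [kx (a + c), kx a, kx c, ← add_mul] at h
    have h3 : sg K k (a + c) * (a + c) = (sg K k a * a + sg K k c * c) + 1 := by
      rw [← hac, map_add]; ring
    rw [h3, map_add, map_add, map_one, add_mul, one_mul] at h
    exact add_eq_left.mp h
  have kz : ∀ x, κ x = 0 := fun x => by rw [kx, k1, mul_zero]
  refine ⟨τ, eq_eHom_of hc φ τ ?_ ?_ hw⟩
  · intro a b
    rw [tG_split, map_mul, hfk, hg, kz, hgτ, ← tG_split, hτ]
  · intro u
    rw [hρ]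
    congr 1
    apply Units.ext
    rw [hρτ]
    rfl

/-- conjugate to a standard embedding -/
def Good' (hc : Cpt K k F m) (φ : Cfsg.Sz K k →* Cfsg.Sz F m) : Prop :=
  ∃ (g : Cfsg.Sz F m) (τ : K →+* F), φ = cj g (eHom hc τ)

theorem Good'.of_conj {hc : Cpt K k F m} {φ : Cfsg.Sz K k →* Cfsg.Sz F m} (g : Cfsg.Sz F m)
    (h : Good' hc (cj g φ)) : Good' hc φ := by
  obtain ⟨h, τ, e⟩ := h
  refine ⟨g⁻¹ * h, τ, ?_⟩
  apply MonoidHom.ext
  intro x
  have := congrArg (fun ψ : Cfsg.Sz K k →* Cfsg.Sz F m => ψ x) e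
  simp only [cj_apply] at this
  rw [cj_apply]
  have e2 : φ x = g⁻¹ * (g * φ x * g⁻¹) * g := by group
  rw [e2, this]
  group

theorem good3' (hc : Cpt K k F m) (φ : Cfsg.Sz K k →* Cfsg.Sz F m) (hi : Function.Injective φ)
    (hQ : PQ' φ) (hw : φ (wG k) • (Pinf : PP F) = P (sg F m) 0 0) : Good' hc φ := by
  obtain ⟨a', b', hab⟩ : φ (tG k 1 0) ∈ Q (F := F) m := hQ 1 0
  have ha' : a' ≠ 0 := by
    rintro rfl
    have h2 := congrArg φ (tG_sq k (1 : K) 0)
    rw [map_mul, hab, tG_sq, map_zero, zero_mul, tG_zero, ← map_one φ] at h2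
    have h3 := hi h2
    rw [← tG_zero k] at h3
    have := (tG_inj k h3).2
    simp at this
  obtain ⟨v, hv⟩ := sg_surjective (F := F) m a'⁻¹
  have hv0 : v ≠ 0 := by
    rintro rfl
    rw [map_zero] at hv
    exact ha' (inv_eq_zero.mp hv.symm)
  apply Good'.of_conj (dG m (Units.mk0 v hv0))
  have hd : dG m (Units.mk0 v hv0) ∈ Bor (F := F) m := dG_smul_Pinf m _
  obtain ⟨τ, hτ⟩ := eq_eHom hc (cj (dG m (Units.mk0 v hv0)) φ) (cj_injective _ hi) (hQ.conj hd) (by
    rw [cj_apply, mul_smul, mul_smul, dG_inv, dG_smul_Pinf, hw,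
      dG_smul_P, mul_zero, mul_zero]) (by
    rw [cj_apply, hab, dG_mul_tG, mul_assoc, mul_inv_cancel, mul_one,
      Units.val_mk0, hv, inv_mul_cancel₀ ha']
    exact ⟨_, rfl⟩)
  refine ⟨1, τ, ?_⟩
  rw [hτ]
  apply MonoidHom.ext
  intro x
  rw [cj_apply, one_mul, inv_one, mul_one]

theorem w_not_bor (φ : Cfsg.Sz K k →* Cfsg.Sz F m) (hi : Function.Injective φ)
    (hQ : PQ' φ) : φ (wG k) ∉ Bor (F := F) m := by
  intro h
  obtain ⟨a, b, u, e⟩ := (mem_Bor m).mp h
  have hsq : φ (wG k) * φ (wG k) = 1 := by rw [← map_mul, wG_mul_wG, map_one]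
  have h1 : IsTD m (φ (wG k)) u := ⟨a, b, e⟩
  obtain ⟨a2, b2, e2⟩ := h1.mul m h1
  rw [hsq] at e2
  have e3 : tG m 0 0 * dG m 1 = tG m a2 b2 * dG m (u * u) := by
    rw [← e2, tG_zero, dG_one, one_mul]
  have hu : u * u = 1 := (td_inj m e3).2.2.symm
  have hu1 : u = 1 := by
    apply Units.ext
    have h2 : (u : F) * u = 1 := by
      have := congrArg Units.val hu
      simpa using this
    have h3 : ((u : F) + 1) * ((u : F) + 1) = 0 := by
      have : ((u : F) + 1) * ((u : F) + 1) = (u : F) * u + ((u : F) + u) + 1 := by ring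
      rw [this, h2, CharTwo.add_self_eq_zero, add_zero, CharTwo.add_self_eq_zero]
    have h4 : (u : F) + 1 = 0 := by simpa using h3
    rw [Units.val_one]
    exact CharTwo.add_eq_zero.mp h4
  subst hu1
  rw [dG_one, mul_one] at e
  rw [e, tG_sq, ← tG_zero m] at hsq
  have ha : a = 0 := by
    have := (tG_inj m hsq).2
    simpa using this
  subst ha
  obtain ⟨a', b', hab⟩ : φ (tG k 1 0) ∈ Q (F := F) m := hQ 1 0
  have hcomm : φ (wG k * tG k 1 0) = φ (tG k 1 0 * wG k) := by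
    rw [map_mul, map_mul, e, hab, tG_mul, tG_mul]
    congr 1
    · ring
    · simp; ring
  have h5 := hi hcomm
  have h6 : (wG k : Cfsg.Sz K k) • (Pinf : PP K) = Pinf := by
    apply t_fix k (a := 1) (b := 0) (smul_mem_ovoid k _ (Pinf_mem k)) (tG_one_ne k)
    rw [← mul_smul, ← h5, mul_smul, tG_smul_Pinf]
  rw [wG_smul_Pinf] at h6
  exact P_ne_Pinf _ _ _ h6

theorem good2' (hc : Cpt K k F m) (φ : Cfsg.Sz K k →* Cfsg.Sz F m) (hi : Function.Injective φ)
    (hQ : PQ' φ) : Good' hc φ := by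
  have h1 := w_not_bor φ hi hQ
  have hmem := smul_mem_ovoid m (φ (wG k)) (Pinf_mem m)
  rw [mem_ovoid_iff] at hmem
  rcases hmem with h | ⟨a, b, h⟩
  · exact absurd h h1
  · apply Good'.of_conj (tG m a b)⁻¹
    have ht : (tG m a b)⁻¹ ∈ Bor (F := F) m := inv_mem (tG_smul_Pinf m a b)
    apply good3' hc _ (cj_injective _ hi) (hQ.conj ht)
    rw [cj_apply, inv_inv, mul_smul, mul_smul, tG_smul_Pinf, h,
      inv_smul_eq_iff, tG_smul_P]
    simp

theorem good1' (hc : Cpt K k F m) (φ : Cfsg.Sz K k →* Cfsg.Sz F m) (hi : Function.Injective φ) :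
    Good' hc φ := by
  have hp : IsPGroup 2 ((Q (F := K) k).map φ) := by
    have : IsPGroup 2 (Q (F := K) k) := (QS k : Sylow 2 (Cfsg.Sz K k)).isPGroup'
    exact this.map φ
  obtain ⟨S, hS⟩ := hp.exists_le_sylow
  obtain ⟨c, hcS⟩ := exists_conj_QS m S
  apply Good'.of_conj c⁻¹
  apply good2' hc _ (cj_injective _ hi)
  intro a b
  have h1 : φ (tG k a b) ∈ (S : Subgroup (Cfsg.Sz F m)) := hS ⟨_, ⟨a, b, rfl⟩, rfl⟩
  rw [hcS] at h1
  obtain ⟨y, hy, hyx⟩ := h1
  have : φ (tG k a b) = c * y * c⁻¹ := hyx.symm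
  rw [cj_apply, this]
  have : c⁻¹ * (c * y * c⁻¹) * c⁻¹⁻¹ = y := by group
  rw [this]
  exact hy

omit [CharP K 2] [CharP F 2] [Fintype F] in
theorem range_tau (τ₁ τ₂ : K →+* F) (x : K) : ∃ y, τ₂ x = τ₁ y := by
  classical
  have hp : 1 < Fintype.card K := Fintype.one_lt_card
  set R : Finset F := (Polynomial.X ^ Fintype.card K - Polynomial.X : Polynomial F).roots.toFinset with hR
  have hne : (Polynomial.X ^ Fintype.card K - Polynomial.X : Polynomial F) ≠ 0 :=
    FiniteField.X_pow_card_sub_X_ne_zero F hp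
  have hcard : R.card ≤ Fintype.card K :=
    (Multiset.toFinset_card_le _).trans ((Polynomial.card_roots' _).trans_eq
      (FiniteField.X_pow_card_sub_X_natDegree_eq F hp))
  have hmem : ∀ (τ : K →+* F) (y : K), τ y ∈ R := by
    intro τ y
    rw [hR, Multiset.mem_toFinset, Polynomial.mem_roots hne]
    simp only [Polynomial.IsRoot.def, Polynomial.eval_sub, Polynomial.eval_pow, Polynomial.eval_X]
    rw [← map_pow, FiniteField.pow_card, sub_self]
  have hsub : Finset.univ.image τ₁ ⊆ R := by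
    intro z hz
    obtain ⟨y, -, rfl⟩ := Finset.mem_image.mp hz
    exact hmem τ₁ y
  have heq : Finset.univ.image τ₁ = R := Finset.eq_of_subset_of_card_le hsub (by
    rw [Finset.card_image_of_injective _ τ₁.injective]; exact hcard)
  have := hmem τ₂ x
  rw [← heq] at this
  obtain ⟨y, -, hy⟩ := Finset.mem_image.mp this
  exact ⟨y, hy.symm⟩

theorem range_le (hc : Cpt K k F m) (τ₁ τ₂ : K →+* F) : (eHom hc τ₂).range ≤ (eHom hc τ₁).range := by
  have ht : ∀ a b, eHom hc τ₂ (tG k a b) ∈ (eHom hc τ₁).range := by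
    intro a b
    obtain ⟨a', ha⟩ := range_tau τ₁ τ₂ a
    obtain ⟨b', hb⟩ := range_tau τ₁ τ₂ b
    exact ⟨tG k a' b', by rw [eHom_t, eHom_t, ha, hb]⟩
  have hd : ∀ u, eHom hc τ₂ (dG k u) ∈ (eHom hc τ₁).range := by
    intro u
    obtain ⟨y, hy⟩ := range_tau τ₁ τ₂ (u : K)
    have hy0 : y ≠ 0 := by
      rintro rfl
      rw [map_zero] at hy
      exact u.ne_zero ((map_eq_zero τ₂).mp hy)
    refine ⟨dG k (Units.mk0 y hy0), ?_⟩
    rw [eHom_d, eHom_d]
    congr 1
    apply Units.ext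
    exact hy.symm
  have hw : eHom hc τ₂ (wG k) ∈ (eHom hc τ₁).range := ⟨wG k, by rw [eHom_w, eHom_w]⟩
  rintro _ ⟨g, rfl⟩
  by_cases h : g • (Pinf : PP K) = Pinf
  · obtain ⟨a, b, u, rfl⟩ := nf_inf k g h
    rw [map_mul]
    exact mul_mem (ht _ _) (hd _)
  · obtain ⟨a, b, c, d, u, rfl⟩ := nf_ninf k g h
    rw [map_mul, map_mul, map_mul]
    exact mul_mem (mul_mem (ht _ _) hw) (mul_mem (ht _ _) (hd _))

theorem std_of_iso (hc : Cpt K k F m) (τ₀ : K →+* F) (S : Subgroup (Cfsg.Sz F m))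
    (e : S ≃* Cfsg.Sz K k) :
    ∃ g : Cfsg.Sz F m, S = ((eHom hc τ₀).range).map (MulAut.conj g).toMonoidHom := by
  have hi : Function.Injective (S.subtype.comp e.symm.toMonoidHom) :=
    S.subtype_injective.comp e.symm.injective
  obtain ⟨g, τ, h⟩ := good1' hc _ hi
  refine ⟨g, ?_⟩
  have hr : (eHom hc τ).range = (eHom hc τ₀).range := le_antisymm (range_le hc _ _) (range_le hc _ _)
  rw [← hr]
  have h' : ∀ y, ((e.symm y : S) : Cfsg.Sz F m) = g * eHom hc τ y * g⁻¹ := fun y =>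
    congrArg (fun ψ : Cfsg.Sz K k →* Cfsg.Sz F m => ψ y) h
  ext x
  constructor
  · intro hx
    refine ⟨eHom hc τ (e ⟨x, hx⟩), ⟨_, rfl⟩, ?_⟩
    have := h' (e ⟨x, hx⟩)
    rw [e.symm_apply_apply] at this
    exact this.symm
  · rintro ⟨_, ⟨y, rfl⟩, rfl⟩
    have := h' y
    show g * eHom hc τ y * g⁻¹ ∈ S
    rw [← this]
    exact (e.symm y).2

variable (k m)

theorem exists_tau (hdiv : 2 * k + 1 ∣ 2 * m + 1) : Nonempty (K →+* F) := by
  haveI : Fact (Nat.Prime 2) := ⟨Nat.prime_two⟩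
  letI : Algebra (ZMod 2) K := ZMod.algebra K 2
  letI : Algebra (ZMod 2) F := ZMod.algebra F 2
  have h1 : Module.finrank (ZMod 2) K = 2 * k + 1 := by
    have := FiniteField.pow_finrank_eq_card 2 K
    rw [Hyp.hF (F := K) (m := k)] at this
    exact Nat.pow_right_injective le_rfl this
  have h2 : Module.finrank (ZMod 2) F = 2 * m + 1 := by
    have := FiniteField.pow_finrank_eq_card 2 F
    rw [Hyp.hF (F := F) (m := m)] at this
    exact Nat.pow_right_injective le_rfl this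
  obtain ⟨f⟩ := FiniteField.nonempty_algHom_of_finrank_dvd (F := ZMod 2) (K := K) (L := F)
    (by rw [h1, h2]; exact hdiv)
  exact ⟨f.toRingHom⟩

theorem subfield_thm (hdiv : 2 * k + 1 ∣ 2 * m + 1) :
    (∃ S : Subgroup ↥(Cfsg.Sz F m), Nonempty (↥S ≃* ↥(Cfsg.Sz K k))) ∧
    ∀ S₁ S₂ : Subgroup ↥(Cfsg.Sz F m), Nonempty (↥S₁ ≃* ↥(Cfsg.Sz K k)) →
      Nonempty (↥S₂ ≃* ↥(Cfsg.Sz K k)) →
      ∃ g : ↥(Cfsg.Sz F m), S₂ = S₁.map (MulAut.conj g).toMonoidHom := by
  have hc : Cpt K k F m := cpt_of_dvd k m hdiv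
  obtain ⟨τ₀⟩ := exists_tau (K := K) (F := F) k m hdiv
  refine ⟨⟨(eHom hc τ₀).range, ⟨(MonoidHom.ofInjective (eHom_injective hc τ₀)).symm⟩⟩, ?_⟩
  rintro S₁ S₂ ⟨e₁⟩ ⟨e₂⟩
  obtain ⟨g₁, h₁⟩ := std_of_iso hc τ₀ S₁ e₁
  obtain ⟨g₂, h₂⟩ := std_of_iso hc τ₀ S₂ e₂
  refine ⟨g₂ * g₁⁻¹, ?_⟩
  rw [h₁, h₂, Subgroup.map_map]
  congr 1
  apply MonoidHom.ext
  intro x
  simp [MulAut.conj_apply, mul_assoc]

end Cfsg.Agent.Lib.Helper19.Suz
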