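import Cfsg.Agent.Lib.Helper19.SubB
import Cfsg.Agent.Lib.Helper19.SuzW

/-!
# Subgroups of Suzuki groups, part C: the normalised subfield case
-/

set_option autoImplicit false
set_option linter.style.haveILetI false
set_option linter.unusedSimpArgs false
set_option linter.unusedSectionVars false
open scoped Pointwise
open Matrix Polynomial

namespace Cfsg.Agent.Lib.Helper19.Suz

variable {F : Type*} [Field F] [Fintype F] [CharP F 2] (m : ℕ) [Hyp F m]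

theorem conj_d_t (u : Fˣ) (a b : F) :
    dG m u * tG m a b * (dG m u)⁻¹ = tG m (sg F m u * a) ((u : F) ^ 2 * sg F m u * b) := by
  rw [dG_mul_tG, mul_assoc, mul_inv_cancel, mul_one]

theorem conj_d_Q (u : Fˣ) {s : Cfsg.Sz F m} (hs : s ∈ Q (F := F) m) :
    dG m u * s * (dG m u)⁻¹ ∈ Q (F := F) m := by
  obtain ⟨a, b, rfl⟩ := hs
  exact ⟨_, _, conj_d_t m u a b⟩

theorem phi_inj {u : Fˣ} (hu : u ≠ 1) {s s' : Cfsg.Sz F m} (hs : s ∈ Q (F := F) m)
    (hs' : s' ∈ Q (F := F) m) (h : s * dG m u * s⁻¹ = s' * dG m u * s'⁻¹) : s = s' := by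
  have hc : Commute (s'⁻¹ * s) (dG m u) := by
    show _ * _ = _ * _
    calc s'⁻¹ * s * dG m u = s'⁻¹ * (s * dG m u * s⁻¹) * s := by group
      _ = s'⁻¹ * (s' * dG m u * s'⁻¹) * s := by rw [h]
      _ = _ := by group
  obtain ⟨v, hv⟩ := comm_d m hu hc
  obtain ⟨a, b, rfl⟩ := hs
  obtain ⟨a', b', rfl⟩ := hs'
  have h1 : ((tG m a' b')⁻¹ * tG m a b) • P (sg F m) 0 0 = P (sg F m) 0 0 := by
    rw [hv, dG_smul_P_zero]
  rw [mul_smul, inv_smul_eq_iff, tG_smul_P, tG_smul_P] at h1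
  obtain ⟨e1, e2⟩ := P_inj _ h1
  simp only [zero_add, mul_zero, add_zero] at e1 e2
  rw [e1, e2]

variable {m} {M : Subgroup (Cfsg.Sz F m)}

theorem Nrm.star (hN : Nrm m M) {g : Cfsg.Sz F m} (hg : g ∈ M) {a b : F}
    (h : g • (Pinf : PP F) = P (sg F m) a b) : tG m a b ∈ M := by
  obtain ⟨b1, hb0, hb1, hbM⟩ := hN.two
  set z' := g * tG m 0 1 * g⁻¹ with hz'
  have hz'M : z' ∈ M := mul_mem (mul_mem hg hN.one) (inv_mem hg)
  have hz'1 : z' ≠ 1 := fun h0 => tG0_ne_one m one_ne_zero (eq_one_of_conj h0)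
  have hzz' : z' * z' = 1 := by
    rw [hz']
    calc g * tG m 0 1 * g⁻¹ * (g * tG m 0 1 * g⁻¹) = g * (tG m 0 1 * tG m 0 1) * g⁻¹ := by group
      _ = 1 := by rw [tG0_sq]; group
  have hfix' : z' • P (sg F m) a b = P (sg F m) a b := by
    rw [← h, hz', mul_smul, mul_smul, inv_smul_smul, tG_smul_Pinf]
  obtain ⟨r1, hr1, e1, f1, g1⟩ := exists_swap m hN.one hz'M (tG0_ne_one m one_ne_zero) hz'1
    (tG0_sq m 1) hzz' (Pinf_mem m) (P_mem m a b) (tG_smul_Pinf m 0 1) hfix' (P_ne_Pinf _ _ _).symm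
  obtain ⟨r2, hr2, e2, f2, g2⟩ := exists_swap m hbM hz'M (tG0_ne_one m hb0) hz'1
    (tG0_sq m b1) hzz' (Pinf_mem m) (P_mem m a b) (tG_smul_Pinf m 0 b1) hfix'
    (P_ne_Pinf _ _ _).symm
  set x := r2⁻¹ * r1 with hx
  have hxM : x ∈ M := mul_mem (inv_mem hr2) hr1
  have hx1 : x • (Pinf : PP F) = Pinf := by rw [hx, mul_smul, f1, inv_smul_eq_iff, f2]
  have hx2 : x • P (sg F m) a b = P (sg F m) a b := by rw [hx, mul_smul, g1, inv_smul_eq_iff, g2]
  have hx3 : x * tG m 0 1 * x⁻¹ = tG m 0 b1 := by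
    calc (r2⁻¹ * r1) * tG m 0 1 * (r2⁻¹ * r1)⁻¹ = r2⁻¹ * (r1 * tG m 0 1 * r1⁻¹) * r2 := by group
      _ = r2⁻¹ * (r2 * tG m 0 b1 * r2⁻¹) * r2 := by rw [e1, e2]
      _ = _ := by group
  have ht0 : tG m a b • P (sg F m) 0 0 = P (sg F m) a b := by
    rw [tG_smul_P]; simp
  obtain ⟨v, hv⟩ := nf_two m ((tG m a b)⁻¹ * x * tG m a b) (by
    rw [mul_smul, mul_smul, tG_smul_Pinf, hx1, inv_smul_eq_iff, tG_smul_Pinf]) (by
    rw [mul_smul, mul_smul, ht0, hx2, inv_smul_eq_iff, ht0])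
  have hxe : x = tG m a b * dG m v * (tG m a b)⁻¹ := by rw [← hv]; group
  have hv1 : v ≠ 1 := by
    rintro rfl
    rw [dG_one, mul_one, mul_inv_cancel] at hxe
    rw [hxe, one_mul, inv_one, mul_one] at hx3
    exact hb1 (tG_inj m hx3).2.symm
  have hQ : tG m a b ∈ Q (F := F) m := ⟨a, b, rfl⟩
  have hyQ : tG m a b * (dG m v * (tG m a b)⁻¹ * (dG m v)⁻¹) ∈ Q (F := F) m :=
    mul_mem hQ (conj_d_Q m v (inv_mem hQ))
  obtain ⟨a', b', hy⟩ := hyQ
  have hxe2 : x = tG m a' b' * dG m v := by rw [← hy, hxe]; group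
  obtain ⟨hdM, htM⟩ := hN.td_mem (hxe2 ▸ hxM)
  -- the bijection argument
  let f : (M ⊓ Q (F := F) m : Subgroup (Cfsg.Sz F m)) → (M ⊓ Q (F := F) m : Subgroup (Cfsg.Sz F m)) :=
    fun s => ⟨s.1 * (dG m v * s.1⁻¹ * (dG m v)⁻¹), Subgroup.mem_inf.2
      ⟨M.mul_mem (Subgroup.mem_inf.1 s.2).1
        (M.mul_mem (M.mul_mem hdM (M.inv_mem (Subgroup.mem_inf.1 s.2).1)) (M.inv_mem hdM)),
      (Q (F := F) m).mul_mem (Subgroup.mem_inf.1 s.2).2
        (conj_d_Q m v ((Q (F := F) m).inv_mem (Subgroup.mem_inf.1 s.2).2))⟩⟩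
  have key : ∀ s s' : Cfsg.Sz F m, s ∈ Q (F := F) m → s' ∈ Q (F := F) m →
      s * (dG m v * s⁻¹ * (dG m v)⁻¹) = s' * (dG m v * s'⁻¹ * (dG m v)⁻¹) → s = s' := by
    intro s s' hs hs' hss
    apply phi_inj m hv1 hs hs'
    have : s * (dG m v * s⁻¹ * (dG m v)⁻¹) * dG m v = s' * (dG m v * s'⁻¹ * (dG m v)⁻¹) * dG m v := by
      rw [hss]
    calc s * dG m v * s⁻¹ = s * (dG m v * s⁻¹ * (dG m v)⁻¹) * dG m v := by group
      _ = s' * (dG m v * s'⁻¹ * (dG m v)⁻¹) * dG m v := this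
      _ = _ := by group
  have hf : Function.Injective f := by
    intro s s' hss
    exact Subtype.ext (key _ _ (Subgroup.mem_inf.1 s.2).2 (Subgroup.mem_inf.1 s'.2).2
      (congrArg Subtype.val hss))
  obtain ⟨s, hs⟩ := Finite.surjective_of_injective hf
    ⟨tG m a' b', Subgroup.mem_inf.2 ⟨htM, a', b', rfl⟩⟩
  have hs' : s.1 * (dG m v * s.1⁻¹ * (dG m v)⁻¹) = tG m a' b' := congrArg Subtype.val hs
  rw [← hy] at hs'
  rw [← key _ _ (Subgroup.mem_inf.1 s.2).2 hQ hs']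
  exact (Subgroup.mem_inf.1 s.2).1

theorem Nrm.w_mem (hN : Nrm m M) : wG m ∈ M := by
  obtain ⟨z', hz', hz'1, hzz', hfix'⟩ := hN.opp
  obtain ⟨r, hr, -, f1, g1⟩ := exists_swap m hN.one hz' (tG0_ne_one m one_ne_zero) hz'1
    (tG0_sq m 1) hzz' (Pinf_mem m) (P_mem m 0 0) (tG_smul_Pinf m 0 1) hfix' (P_ne_Pinf _ _ _).symm
  obtain ⟨v, hv⟩ := nf_two m (r * wG m) (by rw [mul_smul, wG_smul_Pinf, g1])
    (by rw [mul_smul, wG_smul_P_zero, f1])
  have hre : r = dG m v * wG m := by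
    rw [← hv, mul_assoc, wG_mul_wG, mul_one]
  have hff : ff (sg F m) 0 1 = 1 := by simp [ff]
  have h1 : (r * tG m 0 1 * r) • (Pinf : PP F) = P (sg F m) (sg F m v) 0 := by
    rw [mul_smul, mul_smul, f1, tG_smul_P, hre, mul_smul]
    have e : P (sg F m) (0 + 0) (0 + 1 + sg F m 0 * 0) = P (sg F m) 0 1 := by simp
    rw [e, wG_smul_P m (by rw [hff]; exact one_ne_zero), hff, dG_smul_P]
    simp
  have h2 := hN.star (mul_mem (mul_mem hr hN.one) hr) h1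
  have h3 := mul_mem h2 h2
  rw [tG_sq] at h3
  have h4 : sg F m v * sg F m (sg F m v) ∈ hN.KF := by rw [mul_comm]; exact h3
  rw [mu_mem_iff, sg_mem_iff, ← hN.d_mem_iff] at h4
  have : wG m = (dG m v)⁻¹ * r := by rw [hre]; group
  rw [this]
  exact mul_mem (inv_mem h4) hr

theorem Nrm.t_mem_iff (hN : Nrm m M) (a b : F) : tG m a b ∈ M ↔ a ∈ hN.KF ∧ b ∈ hN.KF := by
  have hw := hN.w_mem
  have hff : ff (sg F m) 0 1 = 1 := by simp [ff]
  have h1 : ((wG m : Cfsg.Sz F m) * tG m 0 1 * wG m) • (Pinf : PP F) = P (sg F m) 1 0 := by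
    rw [mul_smul, mul_smul, wG_smul_Pinf, tG_smul_P]
    have e : P (sg F m) (0 + 0) (0 + 1 + sg F m 0 * 0) = P (sg F m) 0 1 := by simp
    rw [e, wG_smul_P m (by rw [hff]; exact one_ne_zero), hff]
    simp
  have h10 := hN.star (mul_mem (mul_mem hw hN.one) hw) h1
  have ha0 : ∀ a ∈ hN.KF, tG m a 0 ∈ M := by
    intro a ha
    by_cases h0 : a = 0
    · subst h0; rw [tG_zero]; exact M.one_mem
    · obtain ⟨u, rfl⟩ := sg_surjective m a
      have hu0 : u ≠ 0 := by rintro rfl; simp at h0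
      rw [sg_mem_iff] at ha
      have hd : dG m (Units.mk0 u hu0) ∈ M := (hN.d_mem_iff _).2 ha
      have := mul_mem (mul_mem hd h10) (inv_mem hd)
      rw [conj_d_t] at this
      simpa using this
  constructor
  · intro h
    have h3 := mul_mem h h
    rw [tG_sq] at h3
    have h4 : a * sg F m a ∈ hN.KF := by rw [mul_comm]; exact h3
    rw [mu_mem_iff] at h4
    refine ⟨h4, ?_⟩
    have h5 := mul_mem (inv_mem (ha0 a h4)) h
    rw [tG_inv, tG_mul] at h5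
    have e : tG m (a + a) (0 + sg F m a * a + b + sg F m a * a) = tG m 0 b := by
      congr 1
      · exact CharTwo.add_self_eq_zero a
      · rw [zero_add, add_right_comm, CharTwo.add_self_eq_zero, zero_add]
    rw [e] at h5
    exact h5
  · rintro ⟨ha, hb⟩
    have := mul_mem (ha0 a ha) (show tG m 0 b ∈ M from hb)
    rw [tG_mul] at this
    simpa using this

/-- the normal form of the elements of `M` -/
theorem Nrm.nf (hN : Nrm m M) {g : Cfsg.Sz F m} (hg : g ∈ M) :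
    (∃ (a b : F) (u : Fˣ), a ∈ hN.KF ∧ b ∈ hN.KF ∧ (u : F) ∈ hN.KF ∧ g = tG m a b * dG m u) ∨
    (∃ (a b c d : F) (u : Fˣ), a ∈ hN.KF ∧ b ∈ hN.KF ∧ c ∈ hN.KF ∧ d ∈ hN.KF ∧ (u : F) ∈ hN.KF ∧
      g = tG m a b * wG m * (tG m c d * dG m u)) := by
  by_cases h : g • (Pinf : PP F) = Pinf
  · left
    obtain ⟨a, b, u, rfl⟩ := nf_inf m g h
    obtain ⟨h1, h2⟩ := hN.td_mem hg
    rw [hN.t_mem_iff] at h2
    exact ⟨a, b, u, h2.1, h2.2, (hN.d_mem_iff u).1 h1, rfl⟩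
  · right
    obtain ⟨a, b, c, d, u, rfl⟩ := nf_ninf m g h
    have h1 : (tG m a b * wG m * (tG m c d * dG m u)) • (Pinf : PP F) = P (sg F m) a b := by
      rw [mul_smul, td_smul_Pinf, mul_smul, wG_smul_Pinf, tG_smul_P]; simp
    have h2 := hN.star hg h1
    have h3 : tG m c d * dG m u ∈ M := by
      have := mul_mem (inv_mem (mul_mem h2 hN.w_mem)) hg
      rwa [← mul_assoc, inv_mul_cancel, one_mul] at this
    obtain ⟨h4, h5⟩ := hN.td_mem h3
    rw [hN.t_mem_iff] at h2 h5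
    exact ⟨a, b, c, d, u, h2.1, h2.2, h5.1, h5.2, (hN.d_mem_iff u).1 h4, rfl⟩

theorem Nrm.KF_ne_top (hN : Nrm m M) (hM : M ≠ ⊤) : hN.KF ≠ ⊤ := by
  intro htop
  apply hM
  apply eq_top_of_Q_le m
  · rintro _ ⟨a, b, rfl⟩
    rw [hN.t_mem_iff, htop]
    exact ⟨Subfield.mem_top _, Subfield.mem_top _⟩
  · intro hle
    have := hle hN.w_mem
    rw [MulAction.mem_stabilizer_iff, wG_smul_Pinf] at this
    exact P_ne_Pinf _ _ _ this

end Cfsg.Agent.Lib.Helper19.Suz
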