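import Cfsg.Agent.Lib.Helper19.SuzG

/-!
# Suzuki groups, part N: centralizers of split elements, nilpotent subgroups
-/

set_option autoImplicit false
set_option linter.style.haveILetI false
set_option linter.unusedSimpArgs false
set_option linter.unusedSectionVars false
open scoped Pointwise
open Matrix

namespace Cfsg.Agent.Lib.Helper19.Suz

variable {F : Type*} [Field F] [Fintype F] [CharP F 2] (m : ℕ) [Hyp F m]

theorem tG_ne_one_iff (a b : F) : tG m a b ≠ 1 ↔ ¬ (a = 0 ∧ b = 0) := by
  constructor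
  · rintro h ⟨rfl, rfl⟩
    exact h (tG_zero m)
  · intro h h1
    rw [← tG_zero m] at h1
    exact h (tG_inj m h1)

/-- the centralizer of a nontrivial element of `Q` lies in `Q` -/
theorem comm_t {z : Cfsg.Sz F m} {a b : F} (hne : tG m a b ≠ 1) (hz : Commute z (tG m a b)) :
    ∃ c d, z = tG m c d := by
  have h1 : z • (Pinf : PP F) = Pinf := by
    apply t_fix m (smul_mem_ovoid m z (Pinf_mem m)) hne
    rw [← mul_smul, ← hz.eq, mul_smul, tG_smul_Pinf]
  obtain ⟨c, d, u, rfl⟩ := nf_inf m z h1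
  have h2 := conj_td m c d a b u
  rw [hz.eq, mul_inv_cancel_right] at h2
  obtain ⟨e1, e2⟩ := tG_inj m h2
  by_cases hu : u = 1
  · subst hu
    exact ⟨c, d, by rw [dG_one, mul_one]⟩
  · exfalso
    have ha : a = 0 := by
      by_contra ha
      apply hu
      apply Units.ext
      apply sg_eq_one m
      exact mul_right_cancel₀ ha (by rw [← e1, one_mul])
    subst ha
    simp only [mul_zero, map_zero, zero_mul, add_zero] at e2
    have hb : b = 0 := by
      by_contra hb
      apply hu
      apply Units.ext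
      apply sq_sg_eq_one m
      exact mul_right_cancel₀ hb (by rw [← e2, one_mul])
    subst hb
    exact hne (tG_zero m)

theorem d_fix' {u : Fˣ} (hu : u ≠ 1) {p : PP F} (hp : p ∈ Cfsg.suzukiOvoid F m)
    (h : dG m u • p = p) : p = Pinf ∨ p = P (sg F m) 0 0 := by
  rw [mem_ovoid_iff] at hp
  rcases hp with rfl | ⟨x, y, rfl⟩
  · exact Or.inl rfl
  · right
    by_contra hne
    apply hu
    apply d_fix m (x := x) (y := y) _ h
    rintro ⟨rfl, rfl⟩
    exact hne rfl

theorem dG_smul_P_zero (u : Fˣ) : dG m u • P (sg F m) 0 0 = P (sg F m) 0 0 := by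
  rw [dG_smul_P]; simp

/-- the centralizer of a nontrivial element of the torus is the torus -/
theorem comm_d {z : Cfsg.Sz F m} {u : Fˣ} (hu : u ≠ 1) (hz : Commute z (dG m u)) :
    ∃ v, z = dG m v := by
  have h1 : z • (Pinf : PP F) = Pinf ∨ z • (Pinf : PP F) = P (sg F m) 0 0 := by
    apply d_fix' m hu (smul_mem_ovoid m z (Pinf_mem m))
    rw [← mul_smul, ← hz.eq, mul_smul, dG_smul_Pinf]
  have h2 : z • P (sg F m) 0 0 = Pinf ∨ z • P (sg F m) 0 0 = P (sg F m) 0 0 := by
    apply d_fix' m hu (smul_mem_ovoid m z (P_mem m 0 0))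
    rw [← mul_smul, ← hz.eq, mul_smul, dG_smul_P_zero]
  have hne : z • (Pinf : PP F) ≠ z • P (sg F m) 0 0 := fun h =>
    (P_ne_Pinf _ _ _).symm (smul_left_cancel z h)
  rcases h1 with h1 | h1
  · rcases h2 with h2 | h2
    · exact absurd (h1.trans h2.symm) hne
    · exact nf_two m z h1 h2
  · rcases h2 with h2 | h2
    · exfalso
      obtain ⟨v, hv⟩ := nf_two m (wG m * z) (by rw [mul_smul, h1, wG_smul_P_zero])
        (by rw [mul_smul, h2, wG_smul_Pinf])
      have hz' : z = wG m * dG m v := by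
        rw [← hv, ← mul_assoc, wG_mul_wG, one_mul]
      have h3 := hz.eq
      rw [hz', mul_assoc, dG_mul, ← mul_assoc, mul_comm v u, ← dG_mul, ← mul_assoc,
        wG_mul_dG] at h3
      have h4 := mul_right_cancel (mul_right_cancel h3)
      have h5 := dG_inj m h4
      apply hu
      apply Units.ext
      apply sq_inj
      have : u * u = 1 := by
        calc u * u = u⁻¹ * u := by rw [h5]
          _ = 1 := inv_mul_cancel u
      have h6 := congrArg Units.val this
      simpa [pow_two] using h6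
    · exact absurd (h1.trans h2.symm) hne

theorem nilp_center {G : Type*} [Group G] (A : Subgroup G) (hA : Group.IsNilpotent A) {x : G}
    (hx : x ∈ A) (hx1 : x ≠ 1) : ∃ z ∈ A, z ≠ 1 ∧ ∀ g ∈ A, Commute g z := by
  haveI : Nontrivial A := ⟨⟨⟨x, hx⟩, 1, fun h => hx1 (congrArg Subtype.val h)⟩⟩
  have h := Group.IsNilpotent.center_ne_bot (G := A)
  rw [Ne, Subgroup.eq_bot_iff_forall] at h
  push Not at h
  obtain ⟨z, hz, hz1⟩ := h
  refine ⟨z, z.2, fun h => hz1 (Subtype.ext h), fun g hg => ?_⟩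
  have := Subgroup.mem_center_iff.mp hz ⟨g, hg⟩
  exact congrArg Subtype.val this

/-- nilpotent subgroups containing a nontrivial element of `Q` lie in `Q` -/
theorem nilp_t (A : Subgroup (Cfsg.Sz F m)) (hA : Group.IsNilpotent A) {a b : F}
    (hne : tG m a b ≠ 1) (h : tG m a b ∈ A) : ∀ g ∈ A, ∃ c d, g = tG m c d := by
  obtain ⟨z, hzA, hz1, hz⟩ := nilp_center A hA h hne
  obtain ⟨c, d, rfl⟩ := comm_t m hne (hz _ h).symm
  intro g hg
  exact comm_t m hz1 (hz g hg)

/-- nilpotent subgroups containing a nontrivial element of the torus lie in the torus -/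
theorem nilp_d (A : Subgroup (Cfsg.Sz F m)) (hA : Group.IsNilpotent A) {u : Fˣ}
    (hu : u ≠ 1) (h : dG m u ∈ A) : ∀ g ∈ A, ∃ v, g = dG m v := by
  obtain ⟨z, hzA, hz1, hz⟩ := nilp_center A hA h (dG_ne_one m hu)
  obtain ⟨v, rfl⟩ := comm_d m hu (hz _ h).symm
  intro g hg
  refine comm_d m (u := v) ?_ (hz g hg)
  rintro rfl
  exact hz1 (dG_one m)

end Cfsg.Agent.Lib.Helper19.Suz
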