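import Cfsg.Agent.Lib.Helper19.SuzG
import Cfsg.Prelude.Def_Transfer

/-!
# Suzuki groups, part T: elementary abelian TI-subgroups
-/

set_option autoImplicit false
set_option linter.style.haveILetI false
set_option linter.unusedSimpArgs false
set_option linter.unusedSectionVars false
open scoped Pointwise
open Matrix

namespace Cfsg.Agent.Lib.Helper19.Suz

variable {F : Type*} [Field F] [Fintype F] [CharP F 2] (m : ℕ) [Hyp F m]

theorem conj_td_zero (c d b : F) (u : Fˣ) :
    (tG m c d * dG m u) * tG m 0 b * (tG m c d * dG m u)⁻¹ = tG m 0 ((u:F) ^ 2 * sg F m u * b) := by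
  rw [conj_td]
  congr 1 <;> simp

theorem exists_lam {l : F} (hl : l ≠ 0) : ∃ u : Fˣ, (u:F) ^ 2 * sg F m u = l := by
  have hinj : Function.Injective (fun a : F => a ^ 2 * sg F m a) := by
    intro a a' h
    simp only at h
    by_cases ha' : a' = 0
    · subst ha'
      simp only [map_zero, mul_zero, mul_eq_zero, map_eq_zero, ne_eq, OfNat.ofNat_ne_zero,
        not_false_eq_true, pow_eq_zero_iff, or_self] at h
      exact h
    · have hs : sg F m a' ≠ 0 := by simpa using ha'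
      have : a / a' = 1 := by
        apply sq_sg_eq_one m
        rw [map_div₀]
        field_simp
        exact h
      field_simp at this
      exact this
  obtain ⟨a, ha⟩ := Finite.surjective_of_injective hinj l
  simp only at ha
  have ha0 : a ≠ 0 := by
    rintro rfl
    simp at ha
    exact hl ha.symm
  exact ⟨Units.mk0 a ha0, ha⟩

theorem tG_zero_mul (b c : F) : tG m 0 b * tG m 0 c = tG m 0 (b + c) := by
  rw [tG_mul]; congr 1 <;> simp

theorem tG_eq_one_iff (a b : F) : tG m a b = 1 ↔ a = 0 ∧ b = 0 := by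
  rw [← tG_zero]
  constructor
  · exact tG_inj m
  · rintro ⟨rfl, rfl⟩; rfl

theorem ti_forward (n : ℕ) (E : Subgroup (Cfsg.Sz F m)) (hE : Cfsg.IsElementaryAbelian 2 E)
    (hc : Nat.card E = 2 ^ n) (hn : 2 ≤ n)
    (hTI : ∀ x : Cfsg.Sz F m, E ⊓ E.map (MulAut.conj x).toMonoidHom ≠ ⊥ →
      x ∈ Subgroup.normalizer (E : Set (Cfsg.Sz F m))) : n ∣ 2 * m + 1 := by
  haveI : Fact (Nat.Prime 2) := ⟨Nat.prime_two⟩
  have hp : IsPGroup 2 E := by
    rintro ⟨e, he⟩
    exact ⟨1, Subtype.ext (by simpa using hE.2 e he)⟩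
  obtain ⟨P, hP⟩ := hp.exists_le_sylow
  obtain ⟨k, hk⟩ := exists_conj_QS m P
  have hform : ∀ e ∈ E, ∃ b, e = k * tG m 0 b * k⁻¹ := by
    intro e he
    have h1 := hP he
    rw [hk] at h1
    obtain ⟨t, ⟨a, b, rfl⟩, rfl⟩ := h1
    have e1 : (MulAut.conj k).toMonoidHom (tG m a b) = k * tG m a b * k⁻¹ := rfl
    rw [e1] at he ⊢
    have h2 := hE.2 _ he
    rw [conj_pow] at h2
    have h3 : tG m a b ^ 2 = 1 := by
      have : k * tG m a b ^ 2 = k := by
        have := congrArg (· * k) h2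
        simpa using this
      simpa using this
    rw [sq, tG_mul, tG_eq_one_iff] at h3
    have ha : a = 0 := by
      have h4 : sg F m a * a = 0 := by
        have := h3.2
        grind
      rcases mul_eq_zero.mp h4 with h | h
      · simpa using h
      · exact h
    subst ha
    exact ⟨b, rfl⟩
  set A : Set F := {b | k * tG m 0 b * k⁻¹ ∈ E} with hA
  have hinjA : ∀ b c : F, k * tG m 0 b * k⁻¹ = k * tG m 0 c * k⁻¹ → b = c := by
    intro b c h
    have : tG m 0 b = tG m 0 c := by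
      have h1 := mul_right_cancel h
      exact mul_left_cancel h1
    exact (tG_inj m this).2
  have hcA : Nat.card A = 2 ^ n := by
    rw [← hc]
    apply Nat.card_congr
    refine Equiv.ofBijective (fun b : A => (⟨k * tG m 0 (b : F) * k⁻¹, b.2⟩ : E)) ⟨?_, ?_⟩
    · intro b c h
      exact Subtype.ext (hinjA _ _ (congrArg Subtype.val h))
    · rintro ⟨e, he⟩
      obtain ⟨b, rfl⟩ := hform e he
      exact ⟨⟨b, he⟩, rfl⟩
  have hA0 : (0:F) ∈ A := by
    show k * tG m 0 0 * k⁻¹ ∈ E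
    rw [tG_zero]; simp
  have hAadd : ∀ b ∈ A, ∀ c ∈ A, b + c ∈ A := by
    intro b hb c hc'
    show k * tG m 0 (b + c) * k⁻¹ ∈ E
    have : k * tG m 0 (b + c) * k⁻¹ = (k * tG m 0 b * k⁻¹) * (k * tG m 0 c * k⁻¹) := by
      rw [← tG_zero_mul]; group
    rw [this]
    exact E.mul_mem hb hc'
  have hscale : ∀ l : F, l ≠ 0 → (∃ b ∈ A, b ≠ 0 ∧ l * b ∈ A) → ∀ c, c ∈ A ↔ l * c ∈ A := by
    intro l hl ⟨b, hb, hb0, hlb⟩ c
    obtain ⟨u, hu⟩ := exists_lam m hl
    have hconj : ∀ z : F, (k * dG m u * k⁻¹) * (k * tG m 0 z * k⁻¹) * (k * dG m u * k⁻¹)⁻¹ =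
        k * tG m 0 (l * z) * k⁻¹ := by
      intro z
      have := conj_td_zero m 0 0 z u
      rw [tG_zero, one_mul, hu] at this
      rw [← this]; group
    have hx := hTI (k * dG m u * k⁻¹) (by
      intro hbot
      have hmem : k * tG m 0 (l * b) * k⁻¹ ∈ E ⊓ E.map (MulAut.conj (k * dG m u * k⁻¹)).toMonoidHom := by
        refine ⟨hlb, ⟨k * tG m 0 b * k⁻¹, hb, ?_⟩⟩
        exact hconj b
      rw [hbot, Subgroup.mem_bot] at hmem
      have h1 : tG m 0 (l * b) = 1 := by
        have : k * tG m 0 (l * b) = k := by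
          have := congrArg (· * k) hmem
          simpa using this
        simpa using this
      rw [tG_eq_one_iff] at h1
      exact (mul_ne_zero hl hb0) h1.2)
    rw [Subgroup.mem_normalizer_iff] at hx
    have := hx (k * tG m 0 c * k⁻¹)
    rw [hconj] at this
    exact this
  -- a nonzero element
  obtain ⟨a0, ha0, ha00⟩ : ∃ a0 ∈ A, a0 ≠ 0 := by
    by_contra hcon
    push Not at hcon
    have hsub : A ⊆ {0} := fun b hb => hcon b hb
    have h1 : Nat.card A ≤ 1 := by
      have := Set.ncard_le_ncard hsub (Set.finite_singleton 0)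
      rw [Set.ncard_singleton] at this
      exact this
    rw [hcA] at h1
    have : 2 ^ 2 ≤ 2 ^ n := Nat.pow_le_pow_right (by norm_num) hn
    omega
  have hKmul : ∀ c c' : F, c * a0 ∈ A → c' * a0 ∈ A → c * c' * a0 ∈ A := by
    intro c c' hc1 hc2
    by_cases hc0 : c = 0
    · subst hc0
      simpa using hA0
    · have := (hscale c hc0 ⟨a0, ha0, ha00, hc1⟩ (c' * a0)).mp hc2
      rwa [← mul_assoc] at this
  let K : Subfield F :=
    { carrier := {c | c * a0 ∈ A}
      mul_mem' := fun {c c'} h1 h2 => hKmul c c' h1 h2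
      one_mem' := by simpa using ha0
      add_mem' := fun {c c'} h1 h2 => by
        show (c + c') * a0 ∈ A
        rw [add_mul]; exact hAadd _ h1 _ h2
      zero_mem' := by simpa using hA0
      neg_mem' := fun {c} h1 => by
        show (-c) * a0 ∈ A
        have : -c = c := by grind
        rw [this]; exact h1
      inv_mem' := fun c h1 => by
        show c⁻¹ * a0 ∈ A
        by_cases hc0 : c = 0
        · subst hc0
          simpa using hA0
        · apply (hscale c hc0 ⟨a0, ha0, ha00, h1⟩ (c⁻¹ * a0)).mpr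
          rw [← mul_assoc, mul_inv_cancel₀ hc0, one_mul]
          exact ha0 }
  have hcK : Nat.card K = 2 ^ n := by
    rw [← hcA]
    apply Nat.card_congr
    refine Equiv.ofBijective (fun c : K => (⟨(c:F) * a0, c.2⟩ : A)) ⟨?_, ?_⟩
    · intro c c' h
      have := congrArg Subtype.val h
      exact Subtype.ext (mul_right_cancel₀ ha00 this)
    · rintro ⟨b, hb⟩
      refine ⟨⟨b / a0, ?_⟩, ?_⟩
      · show b / a0 * a0 ∈ A
        rw [div_mul_cancel₀ _ ha00]; exact hb
      · apply Subtype.ext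
        show b / a0 * a0 = b
        rw [div_mul_cancel₀ _ ha00]
  have h1 := Module.natCard_eq_pow_finrank (K := K) (V := F)
  rw [hcK, Nat.card_eq_fintype_card, Hyp.hF (F := F) (m := m), ← pow_mul] at h1
  have h2 := Nat.pow_right_injective (le_refl 2) h1
  exact ⟨_, h2⟩

theorem ti_backward (n : ℕ) (hn : 2 ≤ n) (hd : n ∣ 2 * m + 1) :
    ∃ E : Subgroup (Cfsg.Sz F m), Cfsg.IsElementaryAbelian 2 E ∧ Nat.card E = 2 ^ n ∧
      ∀ x : Cfsg.Sz F m, E ⊓ E.map (MulAut.conj x).toMonoidHom ≠ ⊥ →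
        x ∈ Subgroup.normalizer (E : Set (Cfsg.Sz F m)) := by
  haveI : Fact (Nat.Prime 2) := ⟨Nat.prime_two⟩
  letI : Algebra (ZMod 2) F := ZMod.algebra F 2
  have hfr : Module.finrank (ZMod 2) F = 2 * m + 1 := by
    have := FiniteField.pow_finrank_eq_card 2 F
    rw [Hyp.hF (F := F) (m := m)] at this
    exact Nat.pow_right_injective (le_refl 2) this
  obtain ⟨f⟩ := FiniteField.nonempty_algHom_of_finrank_dvd (F := ZMod 2) (K := GaloisField 2 n) (L := F)
    (by rw [GaloisField.finrank 2 (by omega), hfr]; exact hd)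
  have hfinj : Function.Injective f := f.toRingHom.injective
  let E : Subgroup (Cfsg.Sz F m) :=
    { carrier := {g | ∃ z, g = tG m 0 (f z)}
      mul_mem' := by
        rintro _ _ ⟨z, rfl⟩ ⟨z', rfl⟩
        exact ⟨z + z', by rw [tG_zero_mul, map_add]⟩
      one_mem' := ⟨0, by rw [map_zero, tG_zero]⟩
      inv_mem' := by
        rintro _ ⟨z, rfl⟩
        exact ⟨z, by rw [tG_inv]; congr 1; simp⟩ }
  have hmemE : ∀ g, g ∈ E ↔ ∃ z, g = tG m 0 (f z) := fun _ => Iff.rfl
  refine ⟨E, ⟨⟨⟨?_⟩⟩, ?_⟩, ?_, ?_⟩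
  · rintro ⟨_, z, rfl⟩ ⟨_, z', rfl⟩
    apply Subtype.ext
    show tG m 0 (f z) * tG m 0 (f z') = tG m 0 (f z') * tG m 0 (f z)
    rw [tG_zero_mul, tG_zero_mul, add_comm]
  · rintro _ ⟨z, rfl⟩
    rw [sq, tG_zero_mul, ← tG_zero]
    congr 1
    grind
  · rw [← GaloisField.card 2 n (by omega)]
    apply Nat.card_congr
    symm
    refine Equiv.ofBijective (fun z => (⟨tG m 0 (f z), z, rfl⟩ : E)) ⟨?_, ?_⟩
    · intro z z' h
      exact hfinj (tG_inj m (congrArg Subtype.val h)).2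
    · rintro ⟨_, z, rfl⟩
      exact ⟨z, rfl⟩
  · intro x hx
    obtain ⟨g, hg, hg1⟩ : ∃ g ∈ E ⊓ E.map (MulAut.conj x).toMonoidHom, g ≠ 1 := by
      by_contra hcon
      push Not at hcon
      exact hx ((Subgroup.eq_bot_iff_forall _).mpr hcon)
    obtain ⟨⟨z, rfl⟩, ⟨_, ⟨z', rfl⟩, hzz⟩⟩ := hg
    have hzz' : x * tG m 0 (f z') * x⁻¹ = tG m 0 (f z) := hzz
    have hxB : x • (Pinf : PP F) = Pinf := by
      apply t_fix m (smul_mem_ovoid m x (Pinf_mem m)) hg1
      rw [← hzz', mul_smul, mul_smul, inv_smul_smul, tG_smul_Pinf]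
    obtain ⟨c, d, u, rfl⟩ := nf_inf m x hxB
    rw [conj_td_zero] at hzz'
    have h1 := (tG_inj m hzz').2
    have hz0 : z ≠ 0 := by
      rintro rfl
      apply hg1
      rw [map_zero, tG_zero]
    have hz'0 : z' ≠ 0 := by
      rintro rfl
      rw [map_zero, mul_zero] at h1
      apply hz0
      apply hfinj
      rw [← h1, map_zero]
    have hfz' : f z' ≠ 0 := by
      intro h
      apply hz'0
      apply hfinj
      rw [h, map_zero]
    have hlam : (u:F) ^ 2 * sg F m u = f (z / z') := by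
      rw [map_div₀, eq_div_iff hfz']
      exact h1
    rw [Subgroup.mem_normalizer_iff]
    intro h
    rw [hmemE, hmemE]
    constructor
    · rintro ⟨y, rfl⟩
      exact ⟨z / z' * y, by rw [conj_td_zero, hlam, map_mul]⟩
    · rintro ⟨y, hy⟩
      obtain ⟨c', d', hcd⟩ := IsTD.inv m (⟨c, d, rfl⟩ : IsTD m (tG m c d * dG m u) u)
      have : h = (tG m c d * dG m u)⁻¹ * tG m 0 (f y) * (tG m c d * dG m u)⁻¹⁻¹ := by
        rw [← hy]; group
      rw [this, hcd, conj_td_zero]
      refine ⟨z' / z * y, ?_⟩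
      congr 1
      have e : ((u⁻¹ : Fˣ) : F) ^ 2 * sg F m ((u⁻¹ : Fˣ) : F) = ((u:F) ^ 2 * sg F m u)⁻¹ := by
        rw [Units.val_inv_eq_inv_val, map_inv₀, _root_.mul_inv, inv_pow]
      rw [e, hlam, map_mul, ← map_inv₀, inv_div]

theorem ti_iff (n : ℕ) (hn : 2 ≤ n) :
    (∃ E : Subgroup (Cfsg.Sz F m), Cfsg.IsElementaryAbelian 2 E ∧ Nat.card E = 2 ^ n ∧
      ∀ x : Cfsg.Sz F m, E ⊓ E.map (MulAut.conj x).toMonoidHom ≠ ⊥ →
        x ∈ Subgroup.normalizer (E : Set (Cfsg.Sz F m))) ↔ n ∣ 2 * m + 1 :=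
  ⟨fun ⟨E, h1, h2, h3⟩ => ti_forward m n E h1 h2 hn h3, ti_backward m n hn⟩

end Cfsg.Agent.Lib.Helper19.Suz
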