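import Cfsg.Agent.Lib.Helper19.SuzP
import Cfsg.Agent.Lib.Helper19.SuzN
import Cfsg.Agent.Lib.Helper19.SuzT

/-!
# Suzuki groups, part X: centralisers of elements of order dividing `q² + 1`
-/

set_option autoImplicit false
set_option linter.style.haveILetI false
set_option linter.unusedSimpArgs false
set_option linter.unusedSectionVars false
open scoped Pointwise
open Matrix

namespace Cfsg.Agent.Lib.Helper19.Suz

variable {F : Type*} [Field F] [Fintype F]

theorem inv_subspace {r : ℕ} (hr : r.Prime) (hr2 : r ≠ 2) (hdiv : r ∣ Fintype.card F ^ 2 + 1)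
    (h : SL4 F) (hh : h ^ r = 1) (hne : h ≠ 1) (K : Submodule F (Fin 4 → F))
    (hK : ∀ v ∈ K, h • v ∈ K) : K = ⊥ ∨ K = ⊤ := by
  classical
  haveI := Fact.mk hr
  set Z := Subgroup.zpowers h with hZ
  have hp : IsPGroup r Z := by
    rintro ⟨z, hz⟩
    obtain ⟨i, rfl⟩ := Subgroup.mem_zpowers_iff.mp hz
    refine ⟨1, Subtype.ext ?_⟩
    show (h ^ i) ^ (r ^ 1) = 1
    rw [pow_one, ← zpow_natCast, ← _root_.zpow_mul, mul_comm, _root_.zpow_mul, zpow_natCast, hh, _root_.one_zpow]
  have hKn : ∀ (n : ℕ), ∀ v ∈ K, (h ^ n) • v ∈ K := by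
    intro n
    induction n with
    | zero => intro v hv; simpa using hv
    | succ n ih => intro v hv; rw [pow_succ, mul_smul]; exact ih _ (hK v hv)
  have hKZ : ∀ z : Z, ∀ v : K, z.1 • v.1 ∈ K := by
    rintro ⟨z, hz⟩ ⟨v, hv⟩
    rw [hZ, ← mem_powers_iff_mem_zpowers] at hz
    obtain ⟨n, rfl⟩ := hz
    exact hKn n v hv
  letI : MulAction Z K :=
    { smul := fun z v => ⟨z.1 • v.1, hKZ z v⟩
      one_smul := fun v => Subtype.ext (one_smul _ _)
      mul_smul := fun a b v => Subtype.ext (mul_smul a.1 b.1 v.1) }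
  have hmod := hp.card_modEq_card_fixedPoints K
  have hfp : Nat.card (MulAction.fixedPoints Z K) = 1 := by
    rw [Nat.card_eq_one_iff_unique]
    refine ⟨⟨?_⟩, ⟨⟨0, ?_⟩⟩⟩
    · rintro ⟨a, ha⟩ ⟨b, hb⟩
      have key : ∀ c : K, c ∈ MulAction.fixedPoints Z K → c = 0 := by
        intro c hc
        by_contra hc0
        apply hne
        apply count_fix hr hr2 hdiv h hh c.1 (fun h0 => hc0 (Subtype.ext h0))
        exact congrArg Subtype.val (hc ⟨h, Subgroup.mem_zpowers h⟩)
      apply Subtype.ext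
      exact (key a ha).trans (key b hb).symm
    · intro z
      apply Subtype.ext
      show z.1 • (0 : Fin 4 → F) = 0
      exact smul_zero _
  rw [hfp, Nat.card_eq_fintype_card, Module.card_eq_pow_finrank (K := F)] at hmod
  have h4 : Fintype.card F ^ 4 ≡ 1 [MOD r] := by
    have h1 : Fintype.card F ^ 2 + 1 ≡ 0 [MOD r] := (Nat.modEq_zero_iff_dvd).mpr hdiv
    have h2 : (Fintype.card F ^ 2 + 1) * (Fintype.card F ^ 2 + 1) ≡ 0 * 0 [MOD r] := h1.mul h1
    have h3 : (Fintype.card F ^ 2 + 1) * 2 ≡ 0 * 2 [MOD r] := h1.mul_right 2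
    have e : Fintype.card F ^ 4 + (Fintype.card F ^ 2 + 1) * 2 =
        (Fintype.card F ^ 2 + 1) * (Fintype.card F ^ 2 + 1) + 1 := by ring
    have h5 : Fintype.card F ^ 4 + (Fintype.card F ^ 2 + 1) * 2 ≡ 0 * 0 + 1 [MOD r] := by
      rw [e]; exact h2.add_right 1
    have h6 : Fintype.card F ^ 4 + (Fintype.card F ^ 2 + 1) * 2 ≡ Fintype.card F ^ 4 + 0 * 2 [MOD r] :=
      h3.add_left _
    simpa using h6.symm.trans h5
  have hd4 : Module.finrank F K ≤ 4 := by
    have := Submodule.finrank_le K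
    simpa using this
  rcases arith_d hr hr2 hdiv (h4.trans hmod.symm) hd4 with h0 | h4
  · left; exact Submodule.finrank_eq_zero.mp h0
  · right; exact Submodule.eq_top_of_finrank_eq (by simpa using h4)

theorem cent_cyclic_aux {r : ℕ} (hr : r.Prime) (hr2 : r ≠ 2) (hdiv : r ∣ Fintype.card F ^ 2 + 1)
    (h : SL4 F) (hh : h ^ r = 1) (hne : h ≠ 1) : IsCyclic (Subgroup.centralizer ({h} : Set (SL4 F))) := by
  classical
  set A : Matrix (Fin 4) (Fin 4) F := h.1 with hA
  let C := Subring.centralizer ({A} : Set (Matrix (Fin 4) (Fin 4) F))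
  have hinj : ∀ c : Matrix (Fin 4) (Fin 4) F, c ∈ C → c ≠ 0 → ∀ v, c *ᵥ v = 0 → v = 0 := by
    intro c hc hc0 v hv
    have hcA : A * c = c * A := (Subring.mem_centralizer_iff.mp hc) A rfl
    have hK := inv_subspace hr hr2 hdiv h hh hne (LinearMap.ker (Matrix.mulVecLin c)) (by
      intro v hv
      rw [LinearMap.mem_ker, Matrix.mulVecLin_apply] at hv ⊢
      show c *ᵥ (A *ᵥ v) = 0
      rw [Matrix.mulVec_mulVec, ← hcA, ← Matrix.mulVec_mulVec, hv, Matrix.mulVec_zero])
    rcases hK with hK | hK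
    · have : v ∈ LinearMap.ker (Matrix.mulVecLin c) := by
        rw [LinearMap.mem_ker, Matrix.mulVecLin_apply]; exact hv
      rw [hK] at this
      exact this
    · exfalso
      apply hc0
      ext i j
      have : Pi.single j (1 : F) ∈ LinearMap.ker (Matrix.mulVecLin c) := by rw [hK]; trivial
      rw [LinearMap.mem_ker, Matrix.mulVecLin_apply, Matrix.mulVec_single_one] at this
      exact congrFun this i
  haveI : NoZeroDivisors C := ⟨by
    rintro ⟨c, hc⟩ ⟨c', hc'⟩ hcc
    have hcc' : c * c' = 0 := congrArg Subtype.val hcc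
    by_cases hc0 : c = 0
    · left; exact Subtype.ext hc0
    · right
      apply Subtype.ext
      show c' = 0
      ext i j
      have h1 : c *ᵥ (c' *ᵥ Pi.single j 1) = 0 := by
        rw [Matrix.mulVec_mulVec, hcc', Matrix.zero_mulVec]
      have h2 := hinj c hc hc0 _ h1
      rw [Matrix.mulVec_single_one] at h2
      exact congrFun h2 i⟩
  haveI : IsDomain C := NoZeroDivisors.to_isDomain C
  have hfield := Finite.isDomain_to_isField C
  letI : CommRing C := { (inferInstance : Ring C) with mul_comm := hfield.mul_comm }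
  haveI : IsDomain C := NoZeroDivisors.to_isDomain C
  let f : Subgroup.centralizer ({h} : Set (SL4 F)) →* C :=
    { toFun := fun g => ⟨g.1.1, by
        rw [Subring.mem_centralizer_iff]
        intro a ha
        rw [Set.mem_singleton_iff.mp ha]
        have := (Subgroup.mem_centralizer_iff.mp g.2) h rfl
        exact congrArg Subtype.val this⟩
      map_one' := rfl
      map_mul' := fun _ _ => rfl }
  apply isCyclic_of_subgroup_isDomain f
  intro a b hab
  apply Subtype.ext
  apply Subtype.ext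
  exact congrArg (fun c : C => (c : Matrix (Fin 4) (Fin 4) F)) hab

theorem nilp_of_inj {A B : Type*} [Group A] [Group B] [Group.IsNilpotent B] (f : A →* B)
    (hf : Function.Injective f) : Group.IsNilpotent A :=
  Group.nilpotent_of_mulEquiv (MonoidHom.ofInjective hf).symm

variable [CharP F 2] (m : ℕ) [Hyp F m]

theorem cent_cyclic {r : ℕ} (hr : r.Prime) (hr2 : r ≠ 2) (hdiv : r ∣ Fintype.card F ^ 2 + 1)
    (x : Cfsg.Sz F m) (ho : orderOf x = r) :
    IsCyclic (Subgroup.centralizer ({x} : Set (Cfsg.Sz F m))) := by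
  have hx1 : x ≠ 1 := by
    rintro rfl
    rw [orderOf_one] at ho
    exact hr.one_lt.ne ho
  haveI := cent_cyclic_aux hr hr2 hdiv x.1 (by
    have : x ^ r = 1 := by rw [← ho]; exact pow_orderOf_eq_one x
    exact congrArg Subtype.val this) (fun h => hx1 (Subtype.ext h))
  let f : Subgroup.centralizer ({x} : Set (Cfsg.Sz F m)) →*
      Subgroup.centralizer ({x.1} : Set (SL4 F)) :=
    { toFun := fun g => ⟨g.1.1, by
        rw [Subgroup.mem_centralizer_iff]
        intro a ha
        rw [Set.mem_singleton_iff.mp ha]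
        have := (Subgroup.mem_centralizer_iff.mp g.2) x rfl
        exact congrArg Subtype.val this⟩
      map_one' := rfl
      map_mul' := fun _ _ => rfl }
  apply isCyclic_of_injective f
  intro a b hab
  apply Subtype.ext
  apply Subtype.ext
  exact congrArg (fun c : Subgroup.centralizer ({x.1} : Set (SL4 F)) => (c : SL4 F)) hab

theorem conj_to_d (a b : F) {u : Fˣ} (hu : u ≠ 1) :
    ∃ (k : Cfsg.Sz F m) (v : Fˣ), v ≠ 1 ∧ k * (tG m a b * dG m u) * k⁻¹ = dG m v := by
  have n1 : (u : F) ≠ 1 := fun h => hu (Units.ext h)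
  have h1 : 1 + sg F m u ≠ 0 := by
    intro h
    exact n1 (sg_eq_one m (CharTwo.add_eq_zero.mp h).symm)
  have h2 : 1 + (u : F) ^ 2 * sg F m u ≠ 0 := by
    intro h
    exact n1 (sq_sg_eq_one m (CharTwo.add_eq_zero.mp h).symm)
  set x : F := a / (1 + sg F m u) with hx
  set y : F := (b + sg F m a * (sg F m u * x)) / (1 + (u : F) ^ 2 * sg F m u) with hy
  have hfix : (tG m a b * dG m u) • P (sg F m) x y = P (sg F m) x y := by
    rw [mul_smul, dG_smul_P, tG_smul_P]
    congr 1
    · have : x * (1 + sg F m u) = a := by rw [hx]; exact div_mul_cancel₀ _ h1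
      have e : sg F m u * x + a = x + (x * (1 + sg F m u) + a) := by
        have := CharTwo.add_self_eq_zero x
        linear_combination -this
      rw [e, this, CharTwo.add_self_eq_zero, add_zero]
    · have : y * (1 + (u : F) ^ 2 * sg F m u) = b + sg F m a * (sg F m u * x) := by
        rw [hy]; exact div_mul_cancel₀ _ h2
      have e : (u : F) ^ 2 * sg F m u * y + b + sg F m a * (sg F m u * x) =
          y + (y * (1 + (u : F) ^ 2 * sg F m u) + (b + sg F m a * (sg F m u * x))) := by
        have := CharTwo.add_self_eq_zero y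
        linear_combination -this
      rw [e, this, CharTwo.add_self_eq_zero, add_zero]
  have hP : tG m x y • P (sg F m) 0 0 = P (sg F m) x y := by rw [tG_smul_P]; simp
  obtain ⟨v, hv⟩ := nf_two m ((tG m x y)⁻¹ * (tG m a b * dG m u) * (tG m x y)⁻¹⁻¹) (by
    rw [inv_inv, mul_smul, mul_smul, tG_smul_Pinf, td_smul_Pinf, inv_smul_eq_iff, tG_smul_Pinf]) (by
    rw [inv_inv, mul_smul, mul_smul, hP, hfix, inv_smul_eq_iff, hP])
  refine ⟨(tG m x y)⁻¹, v, ?_, hv⟩
  rintro rfl
  rw [dG_one] at hv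
  have h3 : tG m a b * dG m u = 1 := by
    have e : tG m a b * dG m u = tG m x y *
        ((tG m x y)⁻¹ * (tG m a b * dG m u) * (tG m x y)⁻¹⁻¹) * (tG m x y)⁻¹ := by group
    rw [e, hv]; group
  have h4 : tG m a b * dG m u = tG m 0 0 * dG m 1 := by rw [h3, tG_zero, dG_one, one_mul]
  exact hu (td_inj m h4).2.2

theorem classify_fixed {g : Cfsg.Sz F m} {p : PP F} (hp : p ∈ Cfsg.suzukiOvoid F m)
    (hgp : g • p = p) :
    (∃ k a b, k * g * k⁻¹ = tG m a b) ∨ (∃ (k : Cfsg.Sz F m) (u : Fˣ), u ≠ 1 ∧ k * g * k⁻¹ = dG m u) := by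
  obtain ⟨k, hk⟩ := exists_smul_eq_Pinf m hp
  obtain ⟨a, b, u, hu⟩ := nf_inf m (k * g * k⁻¹) (by
    rw [mul_smul, mul_smul, ← hk, inv_smul_smul, hgp])
  by_cases h1 : u = 1
  · left
    subst h1
    rw [dG_one, mul_one] at hu
    exact ⟨k, a, b, hu⟩
  · right
    obtain ⟨k', v, hv, e⟩ := conj_to_d m a b h1
    refine ⟨k' * k, v, hv, ?_⟩
    rw [← e, ← hu]; group

theorem classify {g : Cfsg.Sz F m} (hg : g ≠ 1) :
    (∃ k a b, k * g * k⁻¹ = tG m a b) ∨
    (∃ (k : Cfsg.Sz F m) (u : Fˣ), u ≠ 1 ∧ k * g * k⁻¹ = dG m u) ∨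
    (∃ r j : ℕ, r.Prime ∧ r ≠ 2 ∧ r ∣ Fintype.card F ^ 2 + 1 ∧ orderOf (g ^ j) = r) := by
  by_cases hfix : ∃ p ∈ Cfsg.suzukiOvoid F m, g • p = p
  · obtain ⟨p, hp, hgp⟩ := hfix
    rcases classify_fixed m hp hgp with h | h
    · exact Or.inl h
    · exact Or.inr (Or.inl h)
  · right; right
    have hodd : ¬ 2 ∣ orderOf g := fun h => hfix (fixed_of_even m g h)
    have hn1 : orderOf g ≠ 1 := fun h => hg (orderOf_eq_one_iff.mp h)
    set r := (orderOf g).minFac with hr
    have hrp : r.Prime := Nat.minFac_prime hn1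
    have hrd : r ∣ orderOf g := Nat.minFac_dvd _
    have hr2 : r ≠ 2 := fun h => hodd (h ▸ hrd)
    have ho : orderOf (g ^ (orderOf g / r)) = r := orderOf_pow_orderOf_div (orderOf_pos g).ne' hrd
    refine ⟨r, orderOf g / r, hrp, hr2, ?_, ho⟩
    by_contra hnd
    set x := g ^ (orderOf g / r) with hx
    have hxr : x ^ r = 1 := by rw [← ho]; exact pow_orderOf_eq_one x
    obtain ⟨p, hp, hxp⟩ := exists_fixed m hrp x (j := 1) (by rw [pow_one]; exact hxr) hnd
    rcases classify_fixed m hp hxp with ⟨k, a, b, e⟩ | ⟨k, u, hu, e⟩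
    · have h4 : (k * x * k⁻¹) ^ 4 = 1 := by rw [e, tG_pow_four]
      rw [conj_pow] at h4
      have h5 : x ^ 4 = 1 := by
        have e2 : x ^ 4 = k⁻¹ * (k * x ^ 4 * k⁻¹) * k := by group
        rw [e2, h4]; group
      have : r ∣ 2 ^ 2 := by rw [← ho]; exact orderOf_dvd_of_pow_eq_one h5
      exact hr2 ((Nat.prime_dvd_prime_iff_eq hrp Nat.prime_two).mp (hrp.dvd_of_dvd_pow this))
    · have hc : Commute (k * g * k⁻¹) (dG m u) := by
        rw [← e]
        show k * g * k⁻¹ * (k * x * k⁻¹) = k * x * k⁻¹ * (k * g * k⁻¹)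
        have hgx : g * x = x * g := by rw [hx, ← pow_succ', ← pow_succ]
        calc k * g * k⁻¹ * (k * x * k⁻¹) = k * (g * x) * k⁻¹ := by group
          _ = k * (x * g) * k⁻¹ := by rw [hgx]
          _ = _ := by group
      obtain ⟨v, hv⟩ := comm_d m hu hc
      apply hfix
      refine ⟨k⁻¹ • Pinf, smul_mem_ovoid m _ (Pinf_mem m), ?_⟩
      have e3 : g = k⁻¹ * (k * g * k⁻¹) * k := by group
      rw [e3, hv, mul_smul, mul_smul, smul_inv_smul, dG_smul_Pinf]

theorem isCN : Cfsg.IsCNGroup (Cfsg.Sz F m) := by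
  intro g hg
  have conjHom : ∀ (k : Cfsg.Sz F m) (H : Subgroup (Cfsg.Sz F m)),
      (∀ z, Commute z g → k * z * k⁻¹ ∈ H) → Group.IsNilpotent H →
      Group.IsNilpotent (Subgroup.centralizer ({g} : Set (Cfsg.Sz F m))) := by
    intro k H hH hn
    let f : Subgroup.centralizer ({g} : Set (Cfsg.Sz F m)) →* H :=
      ((MulAut.conj k).toMonoidHom.comp (Subgroup.subtype _)).codRestrict H (fun z => by
        apply hH
        exact ((Subgroup.mem_centralizer_iff.mp z.2) g rfl).symm)
    apply nilp_of_inj f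
    intro a b hab
    have h1 : k * a.1 * k⁻¹ = k * b.1 * k⁻¹ := congrArg Subtype.val hab
    apply Subtype.ext
    simpa using h1
  have conjComm : ∀ (k z : Cfsg.Sz F m), Commute z g → Commute (k * z * k⁻¹) (k * g * k⁻¹) := by
    intro k z hz
    show k * z * k⁻¹ * (k * g * k⁻¹) = k * g * k⁻¹ * (k * z * k⁻¹)
    calc k * z * k⁻¹ * (k * g * k⁻¹) = k * (z * g) * k⁻¹ := by group
      _ = k * (g * z) * k⁻¹ := by rw [hz.eq]
      _ = _ := by group
  rcases classify m hg with ⟨k, a, b, e⟩ | ⟨k, u, hu, e⟩ | ⟨r, j, hr, hr2, hdiv, ho⟩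
  · have hne : tG m a b ≠ 1 := by
      rw [← e]
      intro h1
      apply hg
      have e2 : g = k⁻¹ * (k * g * k⁻¹) * k := by group
      rw [e2, h1]; group
    apply conjHom k (Q (F := F) m)
    · intro z hz
      have := conjComm k z hz
      rw [e] at this
      exact comm_t m hne this
    · haveI : Fact (Nat.Prime 2) := ⟨Nat.prime_two⟩
      exact (QS m : Sylow 2 (Cfsg.Sz F m)).isPGroup'.isNilpotent
  · apply conjHom k (dHom (F := F) m).range
    · intro z hz
      have := conjComm k z hz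
      rw [e] at this
      obtain ⟨v, hv⟩ := comm_d m hu this
      exact ⟨v, hv.symm⟩
    · exact Group.nilpotent_of_surjective (dHom (F := F) m).rangeRestrict
        (dHom (F := F) m).rangeRestrict_surjective
  · haveI := cent_cyclic m hr hr2 hdiv (g ^ j) ho
    have hle : Subgroup.centralizer ({g} : Set (Cfsg.Sz F m)) ≤
        Subgroup.centralizer ({g ^ j} : Set (Cfsg.Sz F m)) := by
      intro z hz
      rw [Subgroup.mem_centralizer_iff] at hz ⊢
      intro a ha
      rw [Set.mem_singleton_iff.mp ha]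
      have : Commute g z := hz g rfl
      exact (this.pow_left j).eq
    letI : CommGroup (Subgroup.centralizer ({g ^ j} : Set (Cfsg.Sz F m))) := IsCyclic.commGroup
    exact nilp_of_inj (Subgroup.inclusion hle) (Subgroup.inclusion_injective hle)

theorem sylow_cyclic {p : ℕ} [hpp : Fact p.Prime] (hp : p ≠ 2) (P : Sylow p (Cfsg.Sz F m)) :
    IsCyclic P := by
  classical
  by_cases hdiv : p ∣ Fintype.card F ^ 2 + 1
  · by_cases hnt : Nontrivial P
    · have hPp : IsPGroup p P := P.isPGroup'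
      haveI := hPp.center_nontrivial
      have hcp : IsPGroup p (Subgroup.center P) := hPp.to_subgroup _
      obtain ⟨n, hn⟩ := hcp.exists_card_eq
      have hn0 : n ≠ 0 := by
        rintro rfl
        rw [pow_zero] at hn
        have := (Nat.card_eq_one_iff_unique.mp hn).1
        exact not_subsingleton (Subgroup.center P) this
      obtain ⟨x, hx⟩ := exists_prime_orderOf_dvd_card' p (G := Subgroup.center P)
        (by rw [hn]; exact dvd_pow_self p hn0)
      have hx' : orderOf (x.1.1 : Cfsg.Sz F m) = p := by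
        rw [Subgroup.orderOf_coe, Subgroup.orderOf_coe]; exact hx
      haveI := cent_cyclic m hpp.out hp hdiv x.1.1 hx'
      have hle : (P : Subgroup (Cfsg.Sz F m)) ≤
          Subgroup.centralizer ({x.1.1} : Set (Cfsg.Sz F m)) := by
        intro g hg
        rw [Subgroup.mem_centralizer_iff]
        intro a ha
        rw [Set.mem_singleton_iff.mp ha]
        have := (Subgroup.mem_center_iff.mp x.2) ⟨g, hg⟩
        exact (congrArg Subtype.val this).symm
      exact isCyclic_of_injective (Subgroup.inclusion hle) (Subgroup.inclusion_injective hle)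
    · rw [not_nontrivial_iff_subsingleton] at hnt
      exact isCyclic_of_subsingleton
  · have hmod := P.isPGroup'.card_modEq_card_fixedPoints (Cfsg.suzukiOvoid F m)
    have hc : Nat.card (Cfsg.suzukiOvoid F m) = Fintype.card F ^ 2 + 1 := by
      rw [← ncard_ovoid m]; rfl
    rw [hc] at hmod
    have h2 : 1 < Nat.card (MulAction.fixedPoints P (Cfsg.suzukiOvoid F m)) := by
      by_contra hcon
      have hle : Nat.card (MulAction.fixedPoints P (Cfsg.suzukiOvoid F m)) ≤ 1 := not_lt.mp hcon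
      interval_cases hN : Nat.card (MulAction.fixedPoints P (Cfsg.suzukiOvoid F m))
      · exact hdiv ((Nat.modEq_zero_iff_dvd).mp hmod)
      · have h3 : Fintype.card F ^ 2 ≡ 0 [MOD p] := Nat.ModEq.add_right_cancel' 1 (by simpa using hmod)
        have h4 : p ∣ Fintype.card F ^ 2 := (Nat.modEq_zero_iff_dvd).mp h3
        rw [Hyp.hF (F := F) (m := m)] at h4
        have h5 := hpp.out.dvd_of_dvd_pow (hpp.out.dvd_of_dvd_pow h4)
        exact hp ((Nat.prime_dvd_prime_iff_eq hpp.out Nat.prime_two).mp h5)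
    haveI : Nontrivial (MulAction.fixedPoints P (Cfsg.suzukiOvoid F m)) :=
      Finite.one_lt_card_iff_nontrivial.mp h2
    obtain ⟨⟨⟨a, ha⟩, hfa⟩, ⟨⟨b, hb⟩, hfb⟩, hab⟩ :=
      exists_pair_ne (MulAction.fixedPoints P (Cfsg.suzukiOvoid F m))
    have hab' : a ≠ b := fun h => hab (Subtype.ext (Subtype.ext h))
    obtain ⟨k, ka, kb⟩ := exists_pair m ha hb hab'
    haveI : IsCyclic (dHom (F := F) m).range :=
      isCyclic_of_surjective (dHom (F := F) m).rangeRestrict (dHom (F := F) m).rangeRestrict_surjective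
    let f : P →* (dHom (F := F) m).range :=
      ((MulAut.conj k).toMonoidHom.comp (Subgroup.subtype _)).codRestrict _ (fun z => by
        have h1 : z.1 • a = a := congrArg Subtype.val (hfa z)
        have h2 : z.1 • b = b := congrArg Subtype.val (hfb z)
        obtain ⟨u, hu⟩ := nf_two m (k * z.1 * k⁻¹) (by
          rw [mul_smul, mul_smul, ← ka, inv_smul_smul, h1]) (by
          rw [mul_smul, mul_smul, ← kb, inv_smul_smul, h2])
        exact ⟨u, hu.symm⟩)
    apply isCyclic_of_injective f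
    intro x y hxy
    have h1 : k * x.1 * k⁻¹ = k * y.1 * k⁻¹ := congrArg Subtype.val hxy
    apply Subtype.ext
    simpa using h1

end Cfsg.Agent.Lib.Helper19.Suz
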