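import Cfsg.Agent.Lib.Helper19.SubC
import Cfsg.Agent.Lib.Helper19.SuzX

/-!
# Subgroups of Suzuki groups, part D: the subgroup theorem
-/

set_option autoImplicit false
set_option linter.style.haveILetI false
set_option linter.unusedSimpArgs false
set_option linter.unusedSectionVars false
open scoped Pointwise
open Matrix Polynomial

namespace Cfsg.Agent.Lib.Helper19.Suz

variable {F : Type*} [Field F] [Fintype F] [CharP F 2] (m : ℕ) [Hyp F m]

/-- the third alternative of the subgroup theorem -/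
def Sub3 (M : Subgroup (Cfsg.Sz F m)) : Prop :=
  ∃ (K : Type) (_ : Field K) (_ : Fintype K) (k : ℕ), 1 ≤ k ∧ k < m ∧
    Fintype.card K = 2 ^ (2 * k + 1) ∧ 2 * k + 1 ∣ 2 * m + 1 ∧
      ∃ S : Subgroup ↥(Cfsg.Sz F m), Nonempty (↥S ≃* ↥(Cfsg.Sz K k)) ∧ M ≤ S

variable {m} {M : Subgroup (Cfsg.Sz F m)}

theorem Nrm.sub3 (hN : Nrm m M) (hM : M ≠ ⊤) : Sub3 m M := by
  classical
  haveI : Fact (Nat.Prime 2) := ⟨Nat.prime_two⟩
  have h1 := Module.natCard_eq_pow_finrank (K := hN.KF) (V := F)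
  rw [Nat.card_eq_fintype_card, Hyp.hF (F := F) (m := m)] at h1
  have hn0 : Module.finrank hN.KF F ≠ 0 := (Module.finrank_pos).ne'
  have hdvd : Nat.card hN.KF ∣ 2 ^ (2 * m + 1) := by rw [h1]; exact dvd_pow_self _ hn0
  obtain ⟨j, -, hj⟩ := (Nat.dvd_prime_pow Nat.prime_two).1 hdvd
  rw [hj, ← pow_mul] at h1
  have h2 : 2 * m + 1 = j * Module.finrank hN.KF F := Nat.pow_right_injective (le_refl 2) h1
  obtain ⟨b1, hb0, hb1, hbM⟩ := hN.two
  have h3 : 2 < Nat.card hN.KF := by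
    rw [Nat.card_eq_fintype_card, Fintype.two_lt_card_iff]
    exact ⟨0, 1, ⟨b1, hbM⟩, zero_ne_one, fun h => hb0 (congrArg Subtype.val h).symm,
      fun h => hb1 (congrArg Subtype.val h).symm⟩
  have hj2 : 2 ≤ j := by
    by_contra hlt
    have h4 : j ≤ 1 := by omega
    have := Nat.pow_le_pow_right (n := 2) (by norm_num) h4
    omega
  obtain ⟨k, rfl⟩ : ∃ k, j = 2 * k + 1 := by
    rcases Nat.even_or_odd' j with ⟨k, rfl | rfl⟩
    · exfalso
      have : 2 * m + 1 = 2 * (k * Module.finrank hN.KF F) := by rw [h2]; ring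
      omega
    · exact ⟨k, rfl⟩
  have hk1 : 1 ≤ k := by omega
  have hdiv : 2 * k + 1 ∣ 2 * m + 1 := ⟨_, h2⟩
  have hkm : k < m := by
    have hle := Nat.le_of_dvd (by omega) hdiv
    rcases Nat.lt_or_ge k m with h | h
    · exact h
    · exfalso
      have hkm : k = m := by omega
      subst hkm
      apply hN.KF_ne_top hM
      have hc : Nat.card hN.KF.toSubring.toAddSubgroup = Nat.card F := by
        rw [Nat.card_eq_fintype_card (α := F), Hyp.hF (F := F) (m := k)]; exact hj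
      have h5 := AddSubgroup.eq_top_of_card_eq _ hc
      rw [eq_top_iff]
      intro x _
      have : x ∈ hN.KF.toSubring.toAddSubgroup := by rw [h5]; trivial
      exact this
  letI : Fintype (GaloisField 2 (2 * k + 1)) := Fintype.ofFinite _
  have hcK' : Fintype.card (GaloisField 2 (2 * k + 1)) = 2 ^ (2 * k + 1) := by
    rw [← Nat.card_eq_fintype_card, GaloisField.card 2 _ (by omega)]
  letI : Fintype hN.KF := Fintype.ofFinite _
  let e : GaloisField 2 (2 * k + 1) ≃+* hN.KF :=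
    FiniteField.ringEquivOfCardEq (by rw [hcK', ← Nat.card_eq_fintype_card, hj])
  let τ : GaloisField 2 (2 * k + 1) →+* F := hN.KF.subtype.comp (e : _ →+* _)
  have hτ : ∀ x ∈ hN.KF, ∃ y, τ y = x := fun x hx => ⟨e.symm ⟨x, hx⟩, by simp [τ]⟩
  haveI : Hyp (GaloisField 2 (2 * k + 1)) k := ⟨hk1, hcK'⟩
  have hc : Cpt (GaloisField 2 (2 * k + 1)) k F m := cpt_of_dvd k m hdiv
  refine ⟨GaloisField 2 (2 * k + 1), inferInstance, inferInstance, k, hk1, hkm, hcK', hdiv,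
    (eHom hc τ).range, ⟨(MonoidHom.ofInjective (eHom_injective hc τ)).symm⟩, ?_⟩
  have ht : ∀ a ∈ hN.KF, ∀ b ∈ hN.KF, tG m a b ∈ (eHom hc τ).range := by
    intro a ha b hb
    obtain ⟨a', rfl⟩ := hτ a ha
    obtain ⟨b', rfl⟩ := hτ b hb
    exact ⟨tG k a' b', eHom_t hc τ a' b'⟩
  have hd : ∀ u : Fˣ, (u : F) ∈ hN.KF → dG m u ∈ (eHom hc τ).range := by
    intro u hu
    obtain ⟨u', hu'⟩ := hτ u hu
    have hu0 : u' ≠ 0 := by
      rintro rfl
      rw [map_zero] at hu'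
      exact u.ne_zero hu'.symm
    refine ⟨dG k (Units.mk0 u' hu0), ?_⟩
    rw [eHom_d]
    congr 1
    exact Units.ext hu'
  have hw : wG m ∈ (eHom hc τ).range := ⟨wG k, eHom_w hc τ⟩
  intro g hg
  rcases hN.nf hg with ⟨a, b, u, ha, hb, hu, rfl⟩ | ⟨a, b, c, d, u, ha, hb, hc', hd', hu, rfl⟩
  · exact mul_mem (ht a ha b hb) (hd u hu)
  · exact mul_mem (mul_mem (ht a ha b hb) hw) (mul_mem (ht c hc' d hd') (hd u hu))

theorem Sub3.of_conj (g : Cfsg.Sz F m)
    (h : Sub3 m (M.map (MulAut.conj g).toMonoidHom)) : Sub3 m M := by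
  obtain ⟨K, i1, i2, k, h1, h2, h3, h4, S, ⟨e⟩, hle⟩ := h
  refine ⟨K, i1, i2, k, h1, h2, h3, h4, S.map (MulAut.conj g⁻¹).toMonoidHom, ⟨?_⟩, ?_⟩
  · exact ((S.equivMapOfInjective _ (MulAut.conj g⁻¹).injective).symm).trans e
  · intro x hx
    refine ⟨g * x * g⁻¹, hle ⟨x, hx, rfl⟩, ?_⟩
    show g⁻¹ * (g * x * g⁻¹) * g⁻¹⁻¹ = x
    group

variable (m) in
theorem invol_inf {z : Cfsg.Sz F m} (hz1 : z ≠ 1) (hzz : z * z = 1)
    (hfix : z • (Pinf : PP F) = Pinf) : ∃ c : F, c ≠ 0 ∧ z = tG m 0 c := by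
  obtain ⟨a, b, u, rfl⟩ := nf_inf m z hfix
  have h1 : IsTD m (tG m a b * dG m u) u := ⟨a, b, rfl⟩
  obtain ⟨a2, b2, h2⟩ := h1.mul m h1
  rw [hzz] at h2
  have h3 : tG m 0 0 * dG m 1 = tG m a2 b2 * dG m (u * u) := by
    rw [← h2, tG_zero, dG_one, one_mul]
  have h4 := (td_inj m h3).2.2
  have hu : u = 1 := by
    apply Units.ext
    apply sq_inj
    rw [Units.val_one, one_pow, sq, ← Units.val_mul, ← h4, Units.val_one]
  subst hu
  rw [dG_one, mul_one] at hzz hz1 ⊢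
  rw [tG_sq, tG_eq_one_iff] at hzz
  have ha : a = 0 := by
    have := hzz.2
    rcases mul_eq_zero.1 this with h | h
    · simpa using h
    · exact h
  subst ha
  refine ⟨b, ?_, rfl⟩
  rintro rfl
  exact hz1 (tG_zero m)

theorem sub_of_two (hM : M ≠ ⊤) {p : PP F} (hp : p ∈ Cfsg.suzukiOvoid F m) {z1 z2 : Cfsg.Sz F m}
    (h1 : z1 ∈ M) (h2 : z2 ∈ M) (hz1 : z1 ≠ 1) (hz2 : z2 ≠ 1) (hne : z1 ≠ z2)
    (hzz1 : z1 * z1 = 1) (hzz2 : z2 * z2 = 1) (hf1 : z1 • p = p) (hf2 : z2 • p = p) :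
    Loc m M ∨ Sub3 m M := by
  by_cases hfix : ∀ g ∈ M, g • p = p
  · exact Or.inl (loc_of_fix m hp hfix)
  · right
    push Not at hfix
    obtain ⟨g, hg, hgp⟩ := hfix
    obtain ⟨k, k1, k2⟩ := exists_pair m hp (smul_mem_ovoid m g hp) (Ne.symm hgp)
    have conj_sq : ∀ (c z : Cfsg.Sz F m), z * z = 1 → (c * z * c⁻¹) * (c * z * c⁻¹) = 1 := by
      intro c z hz
      calc c * z * c⁻¹ * (c * z * c⁻¹) = c * (z * z) * c⁻¹ := by group
        _ = 1 := by rw [hz]; group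
    obtain ⟨c1, hc1, e1⟩ := invol_inf m (z := k * z1 * k⁻¹) (fun h0 => hz1 (eq_one_of_conj h0))
      (conj_sq k z1 hzz1) (by rw [mul_smul, mul_smul, ← k1, inv_smul_smul, hf1])
    obtain ⟨c2, hc2, e2⟩ := invol_inf m (z := k * z2 * k⁻¹) (fun h0 => hz2 (eq_one_of_conj h0))
      (conj_sq k z2 hzz2) (by rw [mul_smul, mul_smul, ← k1, inv_smul_smul, hf2])
    obtain ⟨x, hx⟩ := exists_lam m (inv_ne_zero hc1)
    apply Sub3.of_conj (dG m x * k)
    apply Nrm.sub3
    · refine ⟨?_, ?_, ?_⟩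
      · refine ⟨z1, h1, ?_⟩
        show (dG m x * k) * z1 * (dG m x * k)⁻¹ = tG m 0 1
        calc (dG m x * k) * z1 * (dG m x * k)⁻¹ = dG m x * (k * z1 * k⁻¹) * (dG m x)⁻¹ := by group
          _ = _ := by rw [e1, conj_d_t0, hx, inv_mul_cancel₀ hc1]
      · refine ⟨c1⁻¹ * c2, mul_ne_zero (inv_ne_zero hc1) hc2, ?_, z2, h2, ?_⟩
        · intro h
          have hcc : c2 = c1 := by
            field_simp at h
            exact h
          apply hne
          have : k * z1 * k⁻¹ = k * z2 * k⁻¹ := by rw [e1, e2, hcc]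
          exact mul_left_cancel (mul_right_cancel this)
        · show (dG m x * k) * z2 * (dG m x * k)⁻¹ = tG m 0 (c1⁻¹ * c2)
          calc (dG m x * k) * z2 * (dG m x * k)⁻¹ = dG m x * (k * z2 * k⁻¹) * (dG m x)⁻¹ := by group
            _ = _ := by rw [e2, conj_d_t0, hx]
      · refine ⟨(dG m x * k) * (g * z1 * g⁻¹) * (dG m x * k)⁻¹,
          ⟨g * z1 * g⁻¹, mul_mem (mul_mem hg h1) (inv_mem hg), rfl⟩, ?_, ?_, ?_⟩
        · intro h0
          exact hz1 (eq_one_of_conj (eq_one_of_conj h0))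
        · exact conj_sq _ _ (conj_sq _ _ hzz1)
        · have e3 : (dG m x * k)⁻¹ • P (sg F m) 0 0 = g • p := by
            rw [inv_smul_eq_iff, mul_smul, k2, dG_smul_P_zero]
          rw [mul_smul, mul_smul, e3, mul_smul, mul_smul, inv_smul_smul, mul_smul, hf1, k2,
            dG_smul_P_zero]
    · intro htop
      apply hM
      apply Subgroup.map_injective (f := (MulAut.conj (dG m x * k)).toMonoidHom)
        (MulAut.conj (dG m x * k)).injective
      rw [htop]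
      exact (Subgroup.map_top_of_surjective _ (MulAut.conj (dG m x * k)).surjective).symm

variable (m) in
theorem cyclic_of_unique_invol (U : Subgroup (Cfsg.Sz F m)) (hU : U ≤ Q (F := F) m)
    (h : ∀ z1 ∈ U, ∀ z2 ∈ U, z1 ≠ 1 → z2 ≠ 1 → z1 * z1 = 1 → z2 * z2 = 1 → z1 = z2) :
    IsCyclic U := by
  by_cases hall : ∀ x ∈ U, x * x = 1
  · by_cases htriv : ∀ x ∈ U, x = 1
    · refine ⟨1, fun x => ?_⟩
      rw [Subtype.ext (htriv x.1 x.2) (a2 := (1 : U))]
      exact (Subgroup.zpowers (1 : U)).one_mem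
    · push Not at htriv
      obtain ⟨x0, hx0, hx01⟩ := htriv
      refine ⟨⟨x0, hx0⟩, fun x => ?_⟩
      by_cases hx1 : x.1 = 1
      · rw [Subtype.ext hx1 (a2 := (1 : U))]
        exact (Subgroup.zpowers (⟨x0, hx0⟩ : U)).one_mem
      · have := h x.1 x.2 x0 hx0 hx1 hx01 (hall _ x.2) (hall _ hx0)
        rw [Subtype.ext this (a2 := (⟨x0, hx0⟩ : U))]
        exact Subgroup.mem_zpowers _
  · push Not at hall
    obtain ⟨t1, ht1, ht1s⟩ := hall
    obtain ⟨a1, b1, rfl⟩ := hU ht1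
    have hz0 : tG m a1 b1 * tG m a1 b1 ∈ U := mul_mem ht1 ht1
    have hz0s : (tG m a1 b1 * tG m a1 b1) * (tG m a1 b1 * tG m a1 b1) = 1 := by
      rw [tG_sq, tG0_sq]
    -- involutions lie in the cyclic group
    have hinv : ∀ y ∈ U, y * y = 1 → y ∈ Subgroup.zpowers (tG m a1 b1) := by
      intro y hy hyy
      by_cases hy1 : y = 1
      · rw [hy1]; exact Subgroup.one_mem _
      · rw [h y hy _ hz0 hy1 ht1s hyy hz0s]
        exact mul_mem (Subgroup.mem_zpowers _) (Subgroup.mem_zpowers _)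
    have hmem : ∀ x ∈ U, x ∈ Subgroup.zpowers (tG m a1 b1) := by
      intro x hx
      by_cases hxx : x * x = 1
      · exact hinv x hx hxx
      · obtain ⟨a, b, rfl⟩ := hU hx
        have hxs : (tG m a b * tG m a b) * (tG m a b * tG m a b) = 1 := by
          rw [tG_sq, tG0_sq]
        have e := h _ (mul_mem hx hx) _ hz0 hxx ht1s hxs hz0s
        rw [tG_sq, tG_sq] at e
        have e2 := (tG_inj m e).2
        have ea : a = a1 := by
          apply (mul_sg_bijective (F := F) m).1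
          show a * sg F m a = a1 * sg F m a1
          rw [mul_comm, e2, mul_comm]
        subst ea
        have hy : tG m a b * (tG m a b1)⁻¹ ∈ U := mul_mem hx (inv_mem ht1)
        have hyy : (tG m a b * (tG m a b1)⁻¹) * (tG m a b * (tG m a b1)⁻¹) = 1 := by
          rw [tG_inv, tG_mul, CharTwo.add_self_eq_zero, tG0_sq]
        have := mul_mem (hinv _ hy hyy) (Subgroup.mem_zpowers (tG m a b1))
        rwa [inv_mul_cancel_right] at this
    refine ⟨⟨tG m a1 b1, ht1⟩, fun x => ?_⟩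
    obtain ⟨n, hn⟩ := Subgroup.mem_zpowers_iff.1 (hmem x.1 x.2)
    exact Subgroup.mem_zpowers_iff.2 ⟨n, Subtype.ext (by simpa using hn)⟩

theorem zgroup_of_unique
    (h : ∀ p ∈ Cfsg.suzukiOvoid F m, ∀ z1 ∈ M, ∀ z2 ∈ M, z1 ≠ 1 → z2 ≠ 1 → z1 * z1 = 1 →
      z2 * z2 = 1 → z1 • p = p → z2 • p = p → z1 = z2) : IsZGroup M := by
  refine ⟨fun l hl P => ?_⟩
  haveI : Fact l.Prime := ⟨hl⟩
  have hP' : IsPGroup l ((P : Subgroup M).map M.subtype) := P.isPGroup'.map _
  obtain ⟨R, hR⟩ := hP'.exists_le_sylow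
  by_cases hl2 : l = 2
  · subst hl2
    obtain ⟨k, hk⟩ := exists_conj_QS m R
    let f : (P : Subgroup M) →* Cfsg.Sz F m :=
      (MulAut.conj k⁻¹).toMonoidHom.comp (M.subtype.comp (P : Subgroup M).subtype)
    have hf : Function.Injective f := by
      intro x y hxy
      exact Subtype.ext (Subtype.ext ((MulAut.conj k⁻¹).injective hxy))
    have hfx : ∀ x, f x = k⁻¹ * x.1.1 * k := by
      intro x
      show k⁻¹ * x.1.1 * k⁻¹⁻¹ = _
      rw [inv_inv]
    have hfQ : f.range ≤ Q (F := F) m := by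
      rintro _ ⟨x, rfl⟩
      have h1 : x.1.1 ∈ (R : Subgroup (Cfsg.Sz F m)) := hR ⟨x.1, x.2, rfl⟩
      rw [hk] at h1
      obtain ⟨q, hq, hqx⟩ := h1
      have hqx' : k * q * k⁻¹ = x.1.1 := hqx
      rw [hfx, ← hqx']
      have : k⁻¹ * (k * q * k⁻¹) * k = q := by group
      rw [this]; exact hq
    haveI : IsCyclic f.range := by
      apply cyclic_of_unique_invol m _ hfQ
      rintro _ ⟨x1, rfl⟩ _ ⟨x2, rfl⟩ hx1 hx2 hs1 hs2
      have key : ∀ x : (P : Subgroup M), f x ≠ 1 → f x * f x = 1 →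
          x.1.1 ≠ 1 ∧ x.1.1 * x.1.1 = 1 ∧ x.1.1 • (k • (Pinf : PP F)) = k • (Pinf : PP F) := by
        intro x hx hs
        refine ⟨?_, ?_, ?_⟩
        · intro h0
          apply hx
          rw [hfx, h0]; group
        · rw [← map_mul] at hs
          have := hf (hs.trans (map_one f).symm)
          exact congrArg (fun c : (P : Subgroup M) => c.1.1) this
        · obtain ⟨a, b, hab⟩ := hfQ ⟨x, rfl⟩
          have e : x.1.1 = k * f x * k⁻¹ := by rw [hfx]; group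
          rw [e, hab, mul_smul, mul_smul, inv_smul_smul, tG_smul_Pinf]
      obtain ⟨a1, a2, a3⟩ := key x1 hx1 hs1
      obtain ⟨b1, b2, b3⟩ := key x2 hx2 hs2
      have := h _ (smul_mem_ovoid m k (Pinf_mem m)) _ x1.1.2 _ x2.1.2 a1 b1 a2 b2 a3 b3
      rw [hfx, hfx, this]
    exact isCyclic_of_injective f.rangeRestrict (by
      intro x y hxy
      exact hf (congrArg Subtype.val hxy))
  · haveI := sylow_cyclic m hl2 R
    let f : (P : Subgroup M) →* (R : Subgroup (Cfsg.Sz F m)) :=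
      { toFun := fun x => ⟨x.1.1, hR ⟨x.1, x.2, rfl⟩⟩
        map_one' := rfl
        map_mul' := fun _ _ => rfl }
    exact isCyclic_of_injective f (by
      intro x y hxy
      have h3 : (f x).1 = (f y).1 := congrArg Subtype.val hxy
      exact Subtype.ext (Subtype.ext h3))

theorem subgroup_main (hM : M ≠ ⊤) : Loc m M ∨ Sub3 m M := by
  by_cases h : ∀ p ∈ Cfsg.suzukiOvoid F m, ∀ z1 ∈ M, ∀ z2 ∈ M, z1 ≠ 1 → z2 ≠ 1 → z1 * z1 = 1 →
      z2 * z2 = 1 → z1 • p = p → z2 • p = p → z1 = z2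
  · haveI := zgroup_of_unique h
    exact Or.inl (loc_of_zgroup m M)
  · push Not at h
    obtain ⟨p, hp, z1, h1, z2, h2, hz1, hz2, hzz1, hzz2, hf1, hf2, hne⟩ := h
    exact sub_of_two hM hp h1 h2 hz1 hz2 hne hzz1 hzz2 hf1 hf2

end Cfsg.Agent.Lib.Helper19.Suz
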