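import Mathlib
import Cfsg.Prelude.Def_LieExceptional

/-!
# Suzuki groups, part A: explicit elements and their action on the Suzuki-Tits ovoid
-/

set_option autoImplicit false
set_option linter.style.haveILetI false
open scoped Pointwise
open Matrix

namespace Cfsg.Agent.Lib.Helper19.Suz

variable {F : Type*} [Field F]

/-- the matrix of the translation -/
def Tm (s : F →+* F) (a b : F) : Matrix (Fin 4) (Fin 4) F :=
  !![1, a, b + a * s a, a * b + s a * a ^ 2 + s b; 0, 1, s a, b; 0, 0, 1, a; 0, 0, 0, 1]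

theorem det_Tm (s : F →+* F) (a b : F) : (Tm s a b).det = 1 := by
  simp [Tm, Matrix.det_succ_row_zero, Fin.sum_univ_succ, Fin.succAbove]

/-- the antidiagonal matrix -/
def Wm : Matrix (Fin 4) (Fin 4) F := !![0, 0, 0, 1; 0, 0, 1, 0; 0, 1, 0, 0; 1, 0, 0, 0]

theorem det_Wm : (Wm : Matrix (Fin 4) (Fin 4) F).det = 1 := by
  simp [Wm, Matrix.det_succ_row_zero, Fin.sum_univ_succ, Fin.succAbove]
  norm_num

/-- the diagonal matrix -/
def Dm (s : F →+* F) (u : Fˣ) : Matrix (Fin 4) (Fin 4) F :=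
  !![(u:F) * s u, 0, 0, 0; 0, (u:F), 0, 0; 0, 0, (u:F)⁻¹, 0; 0, 0, 0, ((u:F) * s u)⁻¹]

theorem det_Dm (s : F →+* F) (u : Fˣ) : (Dm s u).det = 1 := by
  have h1 : (u:F) ≠ 0 := u.ne_zero
  have h2 : s (u:F) ≠ 0 := by simp
  simp [Dm, Matrix.det_succ_row_zero, Fin.sum_univ_succ, Fin.succAbove]
  field_simp

/-- shorthand -/
abbrev SL4 (F : Type*) [Field F] := Matrix.SpecialLinearGroup (Fin 4) F

/-- translation -/
def T (s : F →+* F) (a b : F) : SL4 F := ⟨Tm s a b, det_Tm s a b⟩
/-- torus element -/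
def D (s : F →+* F) (u : Fˣ) : SL4 F := ⟨Dm s u, det_Dm s u⟩
/-- Weyl element -/
def W : SL4 F := ⟨Wm, det_Wm⟩

/-- the ovoid function -/
def ff (s : F →+* F) (x y : F) : F := x * y + s x * x ^ 2 + s y
/-- affine ovoid vector -/
def pt (s : F →+* F) (x y : F) : Fin 4 → F := ![ff s x y, y, x, 1]
/-- the vector at infinity -/
def einf : Fin 4 → F := ![1, 0, 0, 0]

theorem pt_ne_zero (s : F →+* F) (x y : F) : pt s x y ≠ 0 := by
  intro h
  have := congrFun h 3
  simp [pt] at this

theorem einf_ne_zero : (einf : Fin 4 → F) ≠ 0 := by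
  intro h
  have := congrFun h 0
  simp [einf] at this

section rel

variable [CharP F 2] (s : F →+* F) (hs : ∀ x, s (s x) = x ^ 2)

include hs in
theorem T_mul (a b c d : F) : T s a b * T s c d = T s (a + c) (b + d + s a * c) := by
  apply Subtype.ext
  show Tm s a b * Tm s c d = Tm s (a + c) (b + d + s a * c)
  ext i j
  fin_cases i <;> fin_cases j <;>
    simp [Tm, Matrix.mul_apply, Fin.sum_univ_succ, hs] <;> grind

omit [CharP F 2] in
theorem T_zero : T s 0 0 = 1 := by
  apply Subtype.ext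
  show Tm s 0 0 = 1
  ext i j
  fin_cases i <;> fin_cases j <;> simp [Tm]

omit [CharP F 2] in
theorem T_inj {a b c d : F} (h : T s a b = T s c d) : a = c ∧ b = d := by
  have h' : Tm s a b = Tm s c d := congrArg Subtype.val h
  have h1 := congrFun (congrFun h' 2) 3
  have h2 := congrFun (congrFun h' 1) 3
  simp [Tm] at h1 h2
  exact ⟨h1, h2⟩

include hs in
theorem T_inv (a b : F) : (T s a b)⁻¹ = T s a (b + s a * a) := by
  rw [inv_eq_iff_mul_eq_one, T_mul s hs, ← T_zero s]
  congr 1 <;> grind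

omit [CharP F 2] in
theorem W_mul_W : (W : SL4 F) * W = 1 := by
  apply Subtype.ext
  show Wm * Wm = 1
  ext i j
  fin_cases i <;> fin_cases j <;> simp [Wm, Matrix.mul_apply, Fin.sum_univ_succ]

omit [CharP F 2] in
theorem W_inv : (W : SL4 F)⁻¹ = W := by
  rw [inv_eq_iff_mul_eq_one, W_mul_W]

omit [CharP F 2] in
theorem D_mul (u v : Fˣ) : D s u * D s v = D s (u * v) := by
  apply Subtype.ext
  show Dm s u * Dm s v = Dm s (u * v)
  ext i j
  fin_cases i <;> fin_cases j <;> simp [Dm, Matrix.mul_apply, Fin.sum_univ_succ] <;> ring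

omit [CharP F 2] in
theorem D_one : D s 1 = 1 := by
  apply Subtype.ext
  show Dm s 1 = 1
  ext i j
  fin_cases i <;> fin_cases j <;> simp [Dm]

omit [CharP F 2] in
theorem D_inv (u : Fˣ) : (D s u)⁻¹ = D s u⁻¹ := by
  rw [inv_eq_iff_mul_eq_one, D_mul, mul_inv_cancel, D_one]

omit [CharP F 2] in
theorem D_inj {u v : Fˣ} (h : D s u = D s v) : u = v := by
  have h' : Dm s u = Dm s v := congrArg Subtype.val h
  have h1 := congrFun (congrFun h' 1) 1
  simp [Dm] at h1
  exact Units.ext h1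

omit [CharP F 2] in
include hs in
theorem D_mul_T (u : Fˣ) (a b : F) :
    D s u * T s a b = T s (s u * a) ((u:F) ^ 2 * s u * b) * D s u := by
  have h1 : (u:F) ≠ 0 := u.ne_zero
  have h2 : s (u:F) ≠ 0 := by simp
  apply Subtype.ext
  show Dm s u * Tm s a b = Tm s (s u * a) ((u:F) ^ 2 * s u * b) * Dm s u
  ext i j
  fin_cases i <;> fin_cases j <;>
    simp [Tm, Dm, Matrix.mul_apply, Fin.sum_univ_succ, hs] <;> field_simp

omit [CharP F 2] in
theorem W_mul_D (u : Fˣ) : W * D s u = D s u⁻¹ * W := by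
  apply Subtype.ext
  show Wm * Dm s u = Dm s u⁻¹ * Wm
  ext i j
  fin_cases i <;> fin_cases j <;>
    simp [Wm, Dm, Matrix.mul_apply, Fin.sum_univ_succ, mul_comm]

include hs in
theorem T_smul_pt (a b x y : F) : T s a b • pt s x y = pt s (x + a) (y + b + s a * x) := by
  show Tm s a b *ᵥ pt s x y = _
  ext i
  fin_cases i <;>
    simp [Tm, pt, ff, Matrix.mulVec, dotProduct, Fin.sum_univ_succ, hs] <;> grind

omit [CharP F 2] in
theorem T_smul_einf (a b : F) : T s a b • (einf : Fin 4 → F) = einf := by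
  show Tm s a b *ᵥ einf = _
  ext i
  fin_cases i <;>
    simp [Tm, einf, Matrix.mulVec, dotProduct, Fin.sum_univ_succ]

omit [CharP F 2] in
include hs in
theorem D_smul_pt (u : Fˣ) (x y : F) :
    D s u • pt s x y = ((u:F) * s u)⁻¹ • pt s (s u * x) ((u:F) ^ 2 * s u * y) := by
  have h1 : (u:F) ≠ 0 := u.ne_zero
  have h2 : s (u:F) ≠ 0 := by simp
  show Dm s u *ᵥ pt s x y = _
  ext i
  fin_cases i <;>
    simp [Dm, pt, ff, Matrix.mulVec, dotProduct, Fin.sum_univ_succ, hs] <;> field_simp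

omit [CharP F 2] in
theorem D_smul_einf (u : Fˣ) : D s u • (einf : Fin 4 → F) = ((u:F) * s u) • einf := by
  show Dm s u *ᵥ einf = _
  ext i
  fin_cases i <;>
    simp [Dm, einf, Matrix.mulVec, dotProduct, Fin.sum_univ_succ]

omit [CharP F 2] in
theorem W_smul_einf : (W : SL4 F) • (einf : Fin 4 → F) = pt s 0 0 := by
  show Wm *ᵥ einf = _
  ext i
  fin_cases i <;>
    simp [Wm, einf, pt, ff, Matrix.mulVec, dotProduct, Fin.sum_univ_succ]

omit [CharP F 2] in
theorem W_smul_pt_zero : (W : SL4 F) • pt s 0 0 = einf := by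
  show Wm *ᵥ pt s 0 0 = _
  ext i
  fin_cases i <;>
    simp [Wm, einf, pt, ff, Matrix.mulVec, dotProduct, Fin.sum_univ_succ]

include hs in
/-- anisotropy of the ovoid function -/
theorem ff_eq_zero {x y : F} (h : ff s x y = 0) : x = 0 ∧ y = 0 := by
  have h1 : x * y + s x * x ^ 2 + s y = 0 := h
  have h2 : s x * s y + x ^ 2 * s x ^ 2 + y ^ 2 = 0 := by
    have := congrArg s h1
    simpa [hs] using this
  have h3 : y * (s x * x + y) = 0 := by grind
  rcases mul_eq_zero.mp h3 with h4 | h4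
  · subst h4
    have h5 : s x * x ^ 2 = 0 := by simpa using h1
    have : x = 0 := by
      rcases mul_eq_zero.mp h5 with h6 | h6
      · simpa using h6
      · simpa using h6
    exact ⟨this, rfl⟩
  · have h5 : y = s x * x := by grind
    subst h5
    have h6 : s x * x ^ 2 = 0 := by
      simp only [map_mul, hs] at h1
      grind
    have : x = 0 := by
      rcases mul_eq_zero.mp h6 with h6 | h6
      · simpa using h6
      · simpa using h6
    subst this
    simp

include hs in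
theorem W_smul_pt {x y : F} (h : ff s x y ≠ 0) :
    (W : SL4 F) • pt s x y = ff s x y • pt s (y / ff s x y) (x / ff s x y) := by
  show Wm *ᵥ pt s x y = _
  have key : ff s x y * ff s (y / ff s x y) (x / ff s x y) = 1 := by
    have h2 : s (ff s x y) ≠ 0 := by simpa using h
    have e2 : s (ff s x y) = s x * s y + x ^ 2 * s x ^ 2 + y ^ 2 := by
      simp [ff, hs]
    have e3 : ∀ f : F, f ≠ 0 → ff s (y / f) (x / f) =
        y * x / f ^ 2 + s y * y ^ 2 / (s f * f ^ 2) + s x / s f := by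
      intro f hf
      have hf2 : s f ≠ 0 := by simpa using hf
      unfold ff
      simp only [map_div₀]
      field_simp
    rw [e3 _ h]
    field_simp
    rw [e2]
    unfold ff
    grind
  ext i
  fin_cases i
  · simpa [Wm, pt, Matrix.mulVec, dotProduct, Fin.sum_univ_succ] using key.symm
  · simp [Wm, pt, Matrix.mulVec, dotProduct, Fin.sum_univ_succ]; field_simp
  · simp [Wm, pt, Matrix.mulVec, dotProduct, Fin.sum_univ_succ]; field_simp
  · simp [Wm, pt, Matrix.mulVec, dotProduct, Fin.sum_univ_succ]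

end rel

section proj

/-- projective 3-space -/
abbrev PP (F : Type*) [Field F] := Projectivization F (Fin 4 → F)

/-- the point at infinity -/
def Pinf : PP F := Projectivization.mk F einf einf_ne_zero

/-- affine ovoid point -/
def P (s : F →+* F) (x y : F) : PP F := Projectivization.mk F (pt s x y) (pt_ne_zero s x y)

theorem Pinf_eq : (Pinf : PP F) = Cfsg.suzukiPointInfinity F := rfl

theorem P_zero_eq (s : F →+* F) : P s 0 0 = Cfsg.suzukiPointZero F := by
  unfold P Cfsg.suzukiPointZero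
  congr 1
  simp [pt, ff]

theorem P_inj (s : F →+* F) {x y x' y' : F} (h : P s x y = P s x' y') : x = x' ∧ y = y' := by
  unfold P at h
  rw [Projectivization.mk_eq_mk_iff'] at h
  obtain ⟨a, ha⟩ := h
  have h3 := congrFun ha 3
  have h2 := congrFun ha 2
  have h1 := congrFun ha 1
  simp [pt] at h1 h2 h3
  subst h3
  simp at h1 h2
  exact ⟨h2.symm, h1.symm⟩

theorem P_ne_Pinf (s : F →+* F) (x y : F) : P s x y ≠ Pinf := by
  intro h
  unfold P Pinf at h
  rw [Projectivization.mk_eq_mk_iff'] at h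
  obtain ⟨a, ha⟩ := h
  have h3 := congrFun ha 3
  simp [pt, einf] at h3

variable [CharP F 2] (s : F →+* F) (hs : ∀ x, s (s x) = x ^ 2)

include hs in
theorem T_smul_P (a b x y : F) : T s a b • P s x y = P s (x + a) (y + b + s a * x) := by
  unfold P
  rw [Projectivization.smul_mk]
  congr 1
  exact T_smul_pt s hs a b x y

omit [CharP F 2] in
theorem T_smul_Pinf (a b : F) : T s a b • (Pinf : PP F) = Pinf := by
  unfold Pinf
  rw [Projectivization.smul_mk]
  congr 1
  exact T_smul_einf s a b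

omit [CharP F 2] in
include hs in
theorem D_smul_P (u : Fˣ) (x y : F) : D s u • P s x y = P s (s u * x) ((u:F) ^ 2 * s u * y) := by
  unfold P
  rw [Projectivization.smul_mk, Projectivization.mk_eq_mk_iff']
  exact ⟨_, (D_smul_pt s hs u x y).symm⟩

omit [CharP F 2] in
theorem D_smul_Pinf (u : Fˣ) : D s u • (Pinf : PP F) = Pinf := by
  unfold Pinf
  rw [Projectivization.smul_mk, Projectivization.mk_eq_mk_iff']
  exact ⟨_, (D_smul_einf s u).symm⟩

omit [CharP F 2] in
theorem W_smul_Pinf : (W : SL4 F) • (Pinf : PP F) = P s 0 0 := by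
  unfold Pinf P
  rw [Projectivization.smul_mk]
  congr 1
  exact W_smul_einf s

omit [CharP F 2] in
theorem W_smul_P_zero : (W : SL4 F) • P s 0 0 = Pinf := by
  unfold Pinf P
  rw [Projectivization.smul_mk]
  congr 1
  exact W_smul_pt_zero s

include hs in
theorem W_smul_P {x y : F} (h : ff s x y ≠ 0) :
    (W : SL4 F) • P s x y = P s (y / ff s x y) (x / ff s x y) := by
  unfold P
  rw [Projectivization.smul_mk, Projectivization.mk_eq_mk_iff']
  exact ⟨_, (W_smul_pt s hs h).symm⟩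

end proj

section ovoid

variable [CharP F 2]

/-- the Tits endomorphism -/
def sg (F : Type*) [Field F] [CharP F 2] (m : ℕ) : F →+* F := iterateFrobenius F 2 (m + 1)

theorem sg_apply (m : ℕ) (x : F) : sg F m x = x ^ 2 ^ (m + 1) := iterateFrobenius_def ..

theorem mem_ovoid_iff (m : ℕ) (p : PP F) :
    p ∈ Cfsg.suzukiOvoid F m ↔ p = Pinf ∨ ∃ x y, p = P (sg F m) x y := by
  have hpt : ∀ x y : F, ![x * y + x ^ (2 ^ (m + 1) + 2) + y ^ (2 ^ (m + 1)), y, x, 1] = pt (sg F m) x y := by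
    intro x y
    simp [pt, ff, sg_apply, pow_add]
  constructor
  · rintro ⟨v, hv, rfl, h | ⟨x, y, h⟩⟩
    · left
      subst h
      rfl
    · right
      refine ⟨x, y, ?_⟩
      rw [hpt] at h
      subst h
      rfl
  · rintro (rfl | ⟨x, y, rfl⟩)
    · exact ⟨_, einf_ne_zero, rfl, Or.inl rfl⟩
    · exact ⟨_, pt_ne_zero _ x y, rfl, Or.inr ⟨x, y, (hpt x y).symm⟩⟩

/-- the standing hypotheses -/
class Hyp (F : Type*) [Field F] [Fintype F] (m : ℕ) : Prop where
  hm : 1 ≤ m
  hF : Fintype.card F = 2 ^ (2 * m + 1)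

variable [Fintype F] {m : ℕ}

omit [CharP F 2] in
theorem Hyp.charP [Hyp F m] : CharP F 2 := by
  obtain ⟨p, hp⟩ := CharP.exists F
  haveI : Fact p.Prime := ⟨CharP.char_is_prime F p⟩
  obtain ⟨n, hn, hc⟩ := FiniteField.card F p
  rw [Hyp.hF (F := F) (m := m)] at hc
  have : p = 2 := by
    have h1 : p ∣ 2 ^ (2 * m + 1) := by rw [hc]; exact dvd_pow_self _ n.ne_zero
    exact (Nat.prime_dvd_prime_iff_eq hn Nat.prime_two).mp (hn.dvd_of_dvd_pow h1)
  subst this
  exact hp

theorem sg_sg [Hyp F m] (x : F) : sg F m (sg F m x) = x ^ 2 := by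
  rw [sg_apply, sg_apply, ← pow_mul, ← pow_add]
  have : 2 ^ (m + 1 + (m + 1)) = Fintype.card F * 2 := by
    rw [Hyp.hF (F := F) (m := m)]; ring
  rw [this, pow_mul, FiniteField.pow_card]

theorem T_mem [Hyp F m] (a b : F) : T (sg F m) a b ∈ Cfsg.Sz F m := by
  rw [MulAction.mem_stabilizer_set' (Set.toFinite _)]
  intro p hp
  rw [mem_ovoid_iff] at hp ⊢
  rcases hp with rfl | ⟨x, y, rfl⟩
  · left; exact T_smul_Pinf _ a b
  · right; exact ⟨_, _, T_smul_P _ sg_sg a b x y⟩

theorem D_mem [Hyp F m] (u : Fˣ) : D (sg F m) u ∈ Cfsg.Sz F m := by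
  rw [MulAction.mem_stabilizer_set' (Set.toFinite _)]
  intro p hp
  rw [mem_ovoid_iff] at hp ⊢
  rcases hp with rfl | ⟨x, y, rfl⟩
  · left; exact D_smul_Pinf _ u
  · right; exact ⟨_, _, D_smul_P _ sg_sg u x y⟩

theorem W_mem [Hyp F m] : (W : SL4 F) ∈ Cfsg.Sz F m := by
  rw [MulAction.mem_stabilizer_set' (Set.toFinite _)]
  intro p hp
  rw [mem_ovoid_iff] at hp ⊢
  rcases hp with rfl | ⟨x, y, rfl⟩
  · right; exact ⟨_, _, W_smul_Pinf _⟩
  · by_cases h : ff (sg F m) x y = 0
    · obtain ⟨rfl, rfl⟩ := ff_eq_zero _ sg_sg h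
      left; exact W_smul_P_zero _
    · right; exact ⟨_, _, W_smul_P _ sg_sg h⟩

end ovoid

end Cfsg.Agent.Lib.Helper19.Suz
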