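import Cfsg.Agent.Lib.Helper19.SuzA

/-!
# Suzuki groups, part B: the two point stabiliser and the normal form
-/

set_option autoImplicit false
set_option linter.style.haveILetI false
set_option linter.unusedSimpArgs false
open scoped Pointwise
open Matrix Polynomial

namespace Cfsg.Agent.Lib.Helper19.Suz

variable {F : Type*} [Field F] [Fintype F]

theorem poly_zero {σ : ℕ} (h2 : 2 < σ) (hq : σ + 2 < Fintype.card F) (c1 c2 c3 c4 : F)
    (h : ∀ x : F, c1 * x + c2 * x ^ 2 + c3 * x ^ σ + c4 * x ^ (σ + 2) = 0) :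
    c1 = 0 ∧ c2 = 0 ∧ c3 = 0 ∧ c4 = 0 := by
  set p : F[X] := C c1 * X + C c2 * X ^ 2 + C c3 * X ^ σ + C c4 * X ^ (σ + 2) with hp
  have hdeg : p.natDegree ≤ σ + 2 := by
    rw [hp]; compute_degree
  have hp0 : p = 0 := by
    apply Polynomial.eq_zero_of_natDegree_lt_card_of_eval_eq_zero' p Finset.univ
    · intro x _
      simpa [hp] using h x
    · rw [Finset.card_univ]; omega
  have e1 := congrArg (fun p => p.coeff 1) hp0
  have e2 := congrArg (fun p => p.coeff 2) hp0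
  have e3 := congrArg (fun p => p.coeff σ) hp0
  have e4 := congrArg (fun p => p.coeff (σ + 2)) hp0
  simp only [hp, coeff_add, coeff_C_mul, coeff_X_pow, coeff_X, coeff_zero] at e1 e2 e3 e4
  have n0 : σ ≠ 0 := by omega
  have n1 : (1:ℕ) ≠ 2 := by omega
  have n2 : (1:ℕ) ≠ σ := by omega
  have n3 : (1:ℕ) ≠ σ + 2 := by omega
  have n4 : (2:ℕ) ≠ σ := by omega
  have n5 : (2:ℕ) ≠ σ + 2 := by omega
  have n6 : σ ≠ σ + 2 := by omega
  have n7 : σ ≠ 2 := by omega
  have n8 : σ + 2 ≠ 2 := by omega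
  have n9 : σ + 2 ≠ σ := by omega
  have n10 : (1:ℕ) ≠ σ + 2 := by omega
  simp [n0, n1, n2, n3, n4, n5, n6, n7, n8, n9, n10, n1.symm, n2.symm, n3.symm] at e1 e2 e3 e4
  exact ⟨e1, e2, e3, e4⟩

variable [CharP F 2] {m : ℕ}

omit [Fintype F] in
theorem sq_inj {a b : F} (h : a ^ 2 = b ^ 2) : a = b := by
  have : (a + b) ^ 2 = 0 := by grind
  have h2 : a + b = 0 := by simpa using this
  grind

omit [CharP F 2] in
theorem sigma_gt [Hyp F m] : 2 < 2 ^ (m + 1) := by
  have := Hyp.hm (F := F) (m := m)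
  calc 2 < 2 ^ 2 := by norm_num
    _ ≤ 2 ^ (m + 1) := Nat.pow_le_pow_right (by norm_num) (by omega)

omit [CharP F 2] in
theorem sigma_lt [Hyp F m] : 2 ^ (m + 1) + 2 < Fintype.card F := by
  have hm := Hyp.hm (F := F) (m := m)
  rw [Hyp.hF (F := F) (m := m)]
  have h1 : 2 ^ (2 * m + 1) = 2 ^ (m + 1) * 2 ^ m := by rw [← pow_add]; congr 1; omega
  have h2 : 2 ≤ 2 ^ m := by
    calc 2 = 2 ^ 1 := by norm_num
      _ ≤ 2 ^ m := Nat.pow_le_pow_right (by norm_num) hm
  have h3 := sigma_gt (F := F) (m := m)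
  rw [h1]
  nlinarith

/-- vector-level description of the action of an ovoid-preserving matrix fixing infinity. -/
theorem affine_image [Hyp F m] (g : SL4 F) (hg : g ∈ Cfsg.Sz F m) (h1 : g • (Pinf : PP F) = Pinf)
    (x y : F) : ∃ (c : F) (x' y' : F), c ≠ 0 ∧ (g : Matrix (Fin 4) (Fin 4) F) *ᵥ pt (sg F m) x y = c • pt (sg F m) x' y' := by
  have hmem : g • P (sg F m) x y ∈ Cfsg.suzukiOvoid F m := by
    rw [MulAction.mem_stabilizer_set' (Set.toFinite _)] at hg
    exact hg ((mem_ovoid_iff m _).mpr (Or.inr ⟨x, y, rfl⟩))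
  rw [mem_ovoid_iff] at hmem
  rcases hmem with h | ⟨x', y', h⟩
  · exfalso
    rw [← h1] at h
    exact P_ne_Pinf _ x y (smul_left_cancel g h)
  · unfold P at h
    rw [Projectivization.smul_mk, Projectivization.mk_eq_mk_iff'] at h
    obtain ⟨c, hc⟩ := h
    refine ⟨c, x', y', ?_, hc.symm⟩
    rintro rfl
    rw [zero_smul] at hc
    exact (smul_ne_zero_iff_ne g).mpr (pt_ne_zero (sg F m) x y) hc.symm

theorem fix_two [Hyp F m] (g : SL4 F) (hg : g ∈ Cfsg.Sz F m) (h1 : g • (Pinf : PP F) = Pinf)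
    (h0 : g • P (sg F m) 0 0 = P (sg F m) 0 0) : ∃ u, g = D (sg F m) u := by
  set s := sg F m with hsdef
  have hs : ∀ x, s (s x) = x ^ 2 := sg_sg
  set M : Matrix (Fin 4) (Fin 4) F := (g : Matrix (Fin 4) (Fin 4) F) with hM
  -- first column
  have c0 : M 1 0 = 0 ∧ M 2 0 = 0 ∧ M 3 0 = 0 := by
    unfold Pinf at h1
    rw [Projectivization.smul_mk, Projectivization.mk_eq_mk_iff'] at h1
    obtain ⟨c, hc⟩ := h1
    have hc' : c • einf = M *ᵥ einf := hc
    have e1 := congrFun hc' 1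
    have e2 := congrFun hc' 2
    have e3 := congrFun hc' 3
    simp [einf, Matrix.mulVec, dotProduct, Fin.sum_univ_succ] at e1 e2 e3
    exact ⟨e1.symm, e2.symm, e3.symm⟩
  have c3 : M 0 3 = 0 ∧ M 1 3 = 0 ∧ M 2 3 = 0 := by
    unfold P at h0
    rw [Projectivization.smul_mk, Projectivization.mk_eq_mk_iff'] at h0
    obtain ⟨c, hc⟩ := h0
    have hc' : c • pt s 0 0 = M *ᵥ pt s 0 0 := hc
    have e1 := congrFun hc' 0
    have e2 := congrFun hc' 1
    have e3 := congrFun hc' 2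
    simp [pt, ff, Matrix.mulVec, dotProduct, Fin.sum_univ_succ] at e1 e2 e3
    exact ⟨e1.symm, e2.symm, e3.symm⟩
  obtain ⟨m10, m20, m30⟩ := c0
  obtain ⟨m03, m13, m23⟩ := c3
  have key : ∀ x y : F, ∃ (c : F) (x' y' : F), c ≠ 0 ∧ c = M 3 1 * y + M 3 2 * x + M 3 3 ∧
      c * x' = M 2 1 * y + M 2 2 * x ∧ c * y' = M 1 1 * y + M 1 2 * x ∧
      c * ff s x' y' = M 0 0 * ff s x y + M 0 1 * y + M 0 2 * x := by
    intro x y
    obtain ⟨c, x', y', hc, h⟩ := affine_image g hg h1 x y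
    refine ⟨c, x', y', hc, ?_, ?_, ?_, ?_⟩
    · have := congrFun h 3
      simp [pt, Matrix.mulVec, dotProduct, Fin.sum_univ_succ, ← hM, m30] at this
      first | exact this.symm | (rw [← this]; ring)
    · have := congrFun h 2
      simp [pt, Matrix.mulVec, dotProduct, Fin.sum_univ_succ, ← hM, m20, m23] at this
      first | exact this.symm | (rw [← this]; ring)
    · have := congrFun h 1
      simp [pt, Matrix.mulVec, dotProduct, Fin.sum_univ_succ, ← hM, m10, m13] at this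
      first | exact this.symm | (rw [← this]; ring)
    · have := congrFun h 0
      simp [pt, Matrix.mulVec, dotProduct, Fin.sum_univ_succ, ← hM, m03] at this
      first | exact this.symm | (rw [← this]; ring)
  have m31 : M 3 1 = 0 := by
    by_contra hne
    obtain ⟨c, x', y', hc, e, -⟩ := key 0 (M 3 3 / M 3 1)
    apply hc
    rw [e]
    field_simp
    grind
  have m32 : M 3 2 = 0 := by
    by_contra hne
    obtain ⟨c, x', y', hc, e, -⟩ := key (M 3 3 / M 3 2) 0
    apply hc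
    rw [e]
    field_simp
    grind
  set d := M 3 3 with hd_def
  have key2 : ∀ x y : F, d ≠ 0 ∧ d * ff s ((M 2 1 * y + M 2 2 * x) / d) ((M 1 1 * y + M 1 2 * x) / d)
      = M 0 0 * ff s x y + M 0 1 * y + M 0 2 * x := by
    intro x y
    obtain ⟨c, x', y', hc, e, ex, ey, ef⟩ := key x y
    have hcd : c = d := by rw [e, m31, m32]; ring
    subst hcd
    refine ⟨hc, ?_⟩
    rw [← ex, ← ey, mul_div_cancel_left₀ _ hc, mul_div_cancel_left₀ _ hc]
    exact ef
  have hd : d ≠ 0 := (key2 0 0).1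
  have hsd : s d ≠ 0 := by simpa using hd
  set α := M 2 2 / d with hα
  set β := M 2 1 / d with hβ
  set γ := M 1 2 / d with hγ
  set δ := M 1 1 / d with hδ
  have key3 : ∀ x y : F, d * ff s (β * y + α * x) (δ * y + γ * x)
      = M 0 0 * ff s x y + M 0 1 * y + M 0 2 * x := by
    intro x y
    rw [← (key2 x y).2]
    congr 2
    · rw [hα, hβ]; field_simp
    · rw [hγ, hδ]; field_simp
  have hy0 := poly_zero (sigma_gt (F := F) (m := m)) (sigma_lt (F := F) (m := m))
    (M 0 2) (d * (α * γ)) (d * s γ) (d * (s α * α ^ 2) + M 0 0) (by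
      intro x
      have := key3 x 0
      rw [pow_add x (2 ^ (m + 1)) 2, ← sg_apply, ← hsdef]
      simp only [ff, map_mul, map_add, map_zero, mul_zero, zero_add, add_zero] at this
      grind)
  have hx0 := poly_zero (sigma_gt (F := F) (m := m)) (sigma_lt (F := F) (m := m))
    (M 0 1) (d * (β * δ)) (d * s δ + M 0 0) (d * (s β * β ^ 2)) (by
      intro y
      have := key3 0 y
      rw [pow_add y (2 ^ (m + 1)) 2, ← sg_apply, ← hsdef]
      simp only [ff, map_mul, map_add, map_zero, mul_zero, zero_add, add_zero, zero_mul] at this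
      grind)
  obtain ⟨m02, -, hγ0, hA1⟩ := hy0
  obtain ⟨m01, -, hA2, hβ0⟩ := hx0
  have γ0 : γ = 0 := by
    have : s γ = 0 := by simpa [hd] using hγ0
    simpa using this
  have β0 : β = 0 := by
    have : s β * β ^ 2 = 0 := by simpa [hd] using hβ0
    rcases mul_eq_zero.mp this with h | h
    · simpa using h
    · simpa using h
  have m12 : M 1 2 = 0 := by
    rw [hγ] at γ0
    simpa [hd] using γ0
  have m21 : M 2 1 = 0 := by
    rw [hβ] at β0
    simpa [hd] using β0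
  have hA3 : d * (α * δ) = M 0 0 := by
    have := key3 1 1
    simp only [ff, map_mul, map_add, map_zero, mul_zero, zero_add, add_zero, zero_mul, β0, γ0,
      mul_one, map_one, one_pow, m01, m02] at this
    grind
  have hdiag : M = Matrix.diagonal ![M 0 0, M 1 1, M 2 2, M 3 3] := by
    ext i j
    fin_cases i <;> fin_cases j <;> simp [m01, m02, m03, m10, m12, m13, m20, m21, m23, m30, m31, m32]
  have hdet : M 0 0 * M 1 1 * M 2 2 * M 3 3 = 1 := by
    have h := g.2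
    change M.det = 1 at h
    rw [hdiag, Matrix.det_diagonal, Fin.prod_univ_four] at h
    simpa using h
  have hB : M 1 1 = δ * d := by rw [hδ]; field_simp
  have hC : M 2 2 = α * d := by rw [hα]; field_simp
  have hAd : M 0 0 * d = 1 := by
    apply sq_inj
    rw [one_pow]
    calc (M 0 0 * d) ^ 2 = M 0 0 * (δ * d) * (α * d) * d := by rw [← hA3]; ring
      _ = 1 := by rw [← hB, ← hC]; exact hdet
  have hBC : M 1 1 * M 2 2 = 1 := by
    rw [hB, hC]
    calc δ * d * (α * d) = (d * (α * δ)) * d := by ring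
      _ = 1 := by rw [hA3]; exact hAd
  have hA0 : M 0 0 ≠ 0 := left_ne_zero_of_mul_eq_one hAd
  have hB0 : M 1 1 ≠ 0 := left_ne_zero_of_mul_eq_one hBC
  have hsB0 : s (M 1 1) ≠ 0 := by simpa using hB0
  have hα' : α = M 0 0 / M 1 1 := by
    rw [eq_div_iff hB0]
    calc α * M 1 1 = (M 1 1 * M 2 2) / d := by rw [hα]; ring
      _ = (M 0 0 * d) / d := by rw [hBC, hAd]
      _ = M 0 0 := by field_simp
  have hsA : s (M 0 0) = s (M 1 1) * M 1 1 ^ 2 := by
    have h5 : M 0 0 = d * (s α * α ^ 2) := by grind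
    rw [hα', map_div₀] at h5
    field_simp at h5
    rw [hAd, one_mul] at h5
    exact h5.symm
  have hAB : M 0 0 = M 1 1 * s (M 1 1) := by
    apply sq_inj
    have := congrArg s hsA
    rw [hs, map_mul, map_pow, hs] at this
    rw [this]; ring
  refine ⟨Units.mk0 (M 1 1) hB0, ?_⟩
  apply Subtype.ext
  show M = Dm s (Units.mk0 (M 1 1) hB0)
  have e22 : M 2 2 = (M 1 1)⁻¹ := eq_inv_of_mul_eq_one_right hBC
  have e33 : M 3 3 = (M 1 1 * s (M 1 1))⁻¹ := by
    rw [← hAB]; exact eq_inv_of_mul_eq_one_right hAd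
  refine hdiag.trans ?_
  ext i j
  fin_cases i <;> fin_cases j <;> simp [Dm, ← hAB, ← e22]
  rw [e33, hAB]

section grp

variable (m) [Hyp F m]

/-- translation as an element of the Suzuki group -/
def tG (a b : F) : Cfsg.Sz F m := ⟨T (sg F m) a b, T_mem a b⟩
/-- torus element of the Suzuki group -/
def dG (u : Fˣ) : Cfsg.Sz F m := ⟨D (sg F m) u, D_mem u⟩
/-- Weyl element of the Suzuki group -/
def wG : Cfsg.Sz F m := ⟨W, W_mem⟩

theorem tG_mul (a b c d : F) : tG m a b * tG m c d = tG m (a + c) (b + d + sg F m a * c) :=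
  Subtype.ext (T_mul _ sg_sg a b c d)

theorem tG_zero : tG m (0 : F) 0 = 1 := Subtype.ext (T_zero _)

theorem tG_inv (a b : F) : (tG m a b)⁻¹ = tG m a (b + sg F m a * a) :=
  Subtype.ext (T_inv _ sg_sg a b)

theorem tG_inj {a b c d : F} (h : tG m a b = tG m c d) : a = c ∧ b = d :=
  T_inj _ (congrArg Subtype.val h)

theorem dG_mul (u v : Fˣ) : dG m u * dG m v = dG m (u * v) := Subtype.ext (D_mul _ u v)

theorem dG_one : dG m (1 : Fˣ) = 1 := Subtype.ext (D_one _)

theorem dG_inv (u : Fˣ) : (dG m u)⁻¹ = dG m u⁻¹ := Subtype.ext (D_inv _ u)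

theorem dG_inj {u v : Fˣ} (h : dG m u = dG m v) : u = v := D_inj _ (congrArg Subtype.val h)

theorem dG_mul_tG (u : Fˣ) (a b : F) :
    dG m u * tG m a b = tG m (sg F m u * a) ((u:F) ^ 2 * sg F m u * b) * dG m u :=
  Subtype.ext (D_mul_T _ sg_sg u a b)

theorem wG_mul_wG : (wG m : Cfsg.Sz F m) * wG m = 1 := Subtype.ext W_mul_W

theorem wG_inv : (wG m : Cfsg.Sz F m)⁻¹ = wG m := Subtype.ext W_inv

theorem wG_mul_dG (u : Fˣ) : wG m * dG m u = dG m u⁻¹ * wG m := Subtype.ext (W_mul_D _ u)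

theorem tG_smul_P (a b x y : F) :
    tG m a b • P (sg F m) x y = P (sg F m) (x + a) (y + b + sg F m a * x) :=
  T_smul_P _ sg_sg a b x y

theorem tG_smul_Pinf (a b : F) : tG m a b • (Pinf : PP F) = Pinf := T_smul_Pinf _ a b

theorem dG_smul_P (u : Fˣ) (x y : F) :
    dG m u • P (sg F m) x y = P (sg F m) (sg F m u * x) ((u:F) ^ 2 * sg F m u * y) :=
  D_smul_P _ sg_sg u x y

theorem dG_smul_Pinf (u : Fˣ) : dG m u • (Pinf : PP F) = Pinf := D_smul_Pinf _ u

theorem wG_smul_Pinf : (wG m : Cfsg.Sz F m) • (Pinf : PP F) = P (sg F m) 0 0 := W_smul_Pinf _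

theorem wG_smul_P_zero : (wG m : Cfsg.Sz F m) • P (sg F m) 0 0 = Pinf := W_smul_P_zero _

theorem wG_smul_P {x y : F} (h : ff (sg F m) x y ≠ 0) :
    (wG m : Cfsg.Sz F m) • P (sg F m) x y
      = P (sg F m) (y / ff (sg F m) x y) (x / ff (sg F m) x y) := W_smul_P _ sg_sg h

theorem smul_mem_ovoid (g : Cfsg.Sz F m) {p : PP F} (hp : p ∈ Cfsg.suzukiOvoid F m) :
    g • p ∈ Cfsg.suzukiOvoid F m := by
  have hg := g.2
  rw [MulAction.mem_stabilizer_set' (Set.toFinite _)] at hg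
  exact hg hp

theorem Pinf_mem : (Pinf : PP F) ∈ Cfsg.suzukiOvoid F m := (mem_ovoid_iff m _).mpr (Or.inl rfl)

theorem P_mem (x y : F) : P (sg F m) x y ∈ Cfsg.suzukiOvoid F m :=
  (mem_ovoid_iff m _).mpr (Or.inr ⟨x, y, rfl⟩)

theorem nf_two (g : Cfsg.Sz F m) (h1 : g • (Pinf : PP F) = Pinf)
    (h0 : g • P (sg F m) 0 0 = P (sg F m) 0 0) : ∃ u, g = dG m u := by
  obtain ⟨u, hu⟩ := fix_two g.1 g.2 h1 h0
  exact ⟨u, Subtype.ext hu⟩

theorem nf_inf (g : Cfsg.Sz F m) (h1 : g • (Pinf : PP F) = Pinf) :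
    ∃ a b u, g = tG m a b * dG m u := by
  have hmem := smul_mem_ovoid m g (P_mem m (0 : F) 0)
  rw [mem_ovoid_iff] at hmem
  rcases hmem with h | ⟨a, b, h⟩
  · exfalso
    rw [← h1] at h
    exact P_ne_Pinf _ _ _ (smul_left_cancel g h)
  · obtain ⟨u, hu⟩ := nf_two m ((tG m a b)⁻¹ * g) (by
      rw [mul_smul, h1, inv_smul_eq_iff, tG_smul_Pinf]) (by
      rw [mul_smul, h, inv_smul_eq_iff, tG_smul_P]; simp)
    exact ⟨a, b, u, by rw [← hu]; group⟩

theorem nf_ninf (g : Cfsg.Sz F m) (h1 : g • (Pinf : PP F) ≠ Pinf) :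
    ∃ a b c d u, g = tG m a b * wG m * (tG m c d * dG m u) := by
  have hmem := smul_mem_ovoid m g (Pinf_mem m)
  rw [mem_ovoid_iff] at hmem
  rcases hmem with h | ⟨a, b, h⟩
  · exact absurd h h1
  · obtain ⟨c, d, u, hu⟩ := nf_inf m ((tG m a b * wG m)⁻¹ * g) (by
      rw [mul_smul, h, inv_smul_eq_iff, mul_smul, wG_smul_Pinf, tG_smul_P]; simp)
    exact ⟨a, b, c, d, u, by rw [← hu]; group⟩

end grp

end Cfsg.Agent.Lib.Helper19.Suz
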