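import Cfsg.Agent.Lib.Helper19.SuzB

/-!
# Suzuki groups, part C: transitivity, orders
-/

set_option autoImplicit false
set_option linter.style.haveILetI false
set_option linter.unusedSimpArgs false
set_option linter.unusedSectionVars false
open scoped Pointwise
open Matrix

namespace Cfsg.Agent.Lib.Helper19.Suz

variable {F : Type*} [Field F] [Fintype F] [CharP F 2] (m : ℕ) [Hyp F m]

theorem exists_smul_eq_Pinf {p : PP F} (hp : p ∈ Cfsg.suzukiOvoid F m) :
    ∃ g : Cfsg.Sz F m, g • p = Pinf := by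
  rw [mem_ovoid_iff] at hp
  rcases hp with rfl | ⟨x, y, rfl⟩
  · exact ⟨1, one_smul _ _⟩
  · refine ⟨wG m * (tG m x y)⁻¹, ?_⟩
    rw [mul_smul, ← wG_smul_P_zero m]
    congr 1
    rw [inv_smul_eq_iff, tG_smul_P]; simp

theorem exists_pair {p q : PP F} (hp : p ∈ Cfsg.suzukiOvoid F m) (hq : q ∈ Cfsg.suzukiOvoid F m)
    (hpq : p ≠ q) : ∃ g : Cfsg.Sz F m, g • p = Pinf ∧ g • q = P (sg F m) 0 0 := by
  obtain ⟨g, hg⟩ := exists_smul_eq_Pinf m hp
  have hmem := smul_mem_ovoid m g hq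
  rw [mem_ovoid_iff] at hmem
  rcases hmem with h | ⟨a, b, h⟩
  · exfalso
    rw [← hg] at h
    exact hpq (smul_left_cancel g h).symm
  · refine ⟨(tG m a b)⁻¹ * g, ?_, ?_⟩
    · rw [mul_smul, hg, inv_smul_eq_iff, tG_smul_Pinf]
    · rw [mul_smul, h, inv_smul_eq_iff, tG_smul_P]; simp

theorem td_smul_zero (a b : F) (u : Fˣ) : (tG m a b * dG m u) • P (sg F m) 0 0 = P (sg F m) a b := by
  rw [mul_smul, dG_smul_P, tG_smul_P]; simp

theorem td_smul_Pinf (a b : F) (u : Fˣ) : (tG m a b * dG m u) • (Pinf : PP F) = Pinf := by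
  rw [mul_smul, dG_smul_Pinf, tG_smul_Pinf]

theorem td_inj {a b a' b' : F} {u u' : Fˣ} (h : tG m a b * dG m u = tG m a' b' * dG m u') :
    a = a' ∧ b = b' ∧ u = u' := by
  have h1 := congrArg (fun g => g • P (sg F m) 0 0) h
  simp only [td_smul_zero] at h1
  obtain ⟨rfl, rfl⟩ := P_inj _ h1
  exact ⟨rfl, rfl, dG_inj m (mul_left_cancel h)⟩

theorem mem_stab_inf_iff (g : Cfsg.Sz F m) :
    g ∈ MulAction.stabilizer (Cfsg.Sz F m) (Cfsg.suzukiPointInfinity F) ↔
      ∃ a b u, g = tG m a b * dG m u := by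
  rw [MulAction.mem_stabilizer_iff, ← Pinf_eq]
  constructor
  · exact nf_inf m g
  · rintro ⟨a, b, u, rfl⟩
    exact td_smul_Pinf m a b u

theorem card_stab_inf :
    Nat.card (MulAction.stabilizer (Cfsg.Sz F m) (Cfsg.suzukiPointInfinity F)) =
      Fintype.card F ^ 2 * (Fintype.card F - 1) := by
  classical
  let e : F × F × Fˣ → MulAction.stabilizer (Cfsg.Sz F m) (Cfsg.suzukiPointInfinity F) :=
    fun x => ⟨tG m x.1 x.2.1 * dG m x.2.2, (mem_stab_inf_iff m _).mpr ⟨_, _, _, rfl⟩⟩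
  have he : Function.Bijective e := by
    constructor
    · rintro ⟨a, b, u⟩ ⟨a', b', u'⟩ h
      obtain ⟨rfl, rfl, rfl⟩ := td_inj m (congrArg Subtype.val h)
      rfl
    · rintro ⟨g, hg⟩
      obtain ⟨a, b, u, rfl⟩ := (mem_stab_inf_iff m g).mp hg
      exact ⟨(a, b, u), rfl⟩
  rw [← Nat.card_congr (Equiv.ofBijective e he), Nat.card_prod, Nat.card_prod,
    Nat.card_eq_fintype_card, Nat.card_eq_fintype_card, Fintype.card_units]
  ring

theorem orbit_Pinf : MulAction.orbit (Cfsg.Sz F m) (Pinf : PP F) = Cfsg.suzukiOvoid F m := by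
  ext p
  constructor
  · rintro ⟨g, rfl⟩
    exact smul_mem_ovoid m g (Pinf_mem m)
  · intro hp
    obtain ⟨g, hg⟩ := exists_smul_eq_Pinf m hp
    exact ⟨g⁻¹, by show g⁻¹ • Pinf = p; rw [inv_smul_eq_iff, hg]⟩

theorem ncard_ovoid : (Cfsg.suzukiOvoid F m).ncard = Fintype.card F ^ 2 + 1 := by
  have h : Cfsg.suzukiOvoid F m = insert Pinf (Set.range (fun x : F × F => P (sg F m) x.1 x.2)) := by
    ext p
    rw [mem_ovoid_iff]
    simp [eq_comm]
  rw [h, Set.ncard_insert_of_notMem, ← Set.image_univ, Set.ncard_image_of_injective, Set.ncard_univ,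
    Nat.card_prod, Nat.card_eq_fintype_card]
  · ring
  · rintro ⟨a, b⟩ ⟨a', b'⟩ h
    obtain ⟨rfl, rfl⟩ := P_inj _ h
    rfl
  · rintro ⟨x, hx⟩
    exact P_ne_Pinf _ _ _ hx

theorem card_G : Nat.card (Cfsg.Sz F m) =
    Fintype.card F ^ 2 * (Fintype.card F ^ 2 + 1) * (Fintype.card F - 1) := by
  rw [← Subgroup.index_mul_card (MulAction.stabilizer (Cfsg.Sz F m) (Cfsg.suzukiPointInfinity F)),
    MulAction.index_stabilizer, card_stab_inf, ← Pinf_eq, orbit_Pinf, ncard_ovoid]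
  ring

/-- the torus as a homomorphism -/
def dHom : Fˣ →* Cfsg.Sz F m where
  toFun := dG m
  map_one' := dG_one m
  map_mul' u v := (dG_mul m u v).symm

theorem dHom_injective : Function.Injective (dHom (F := F) m) := fun _ _ h => dG_inj m h

theorem range_dHom : (dHom (F := F) m).range =
    MulAction.stabilizer (Cfsg.Sz F m) (Cfsg.suzukiPointInfinity F) ⊓
        MulAction.stabilizer (Cfsg.Sz F m) (Cfsg.suzukiPointZero F) := by
  ext g
  rw [Subgroup.mem_inf, MulAction.mem_stabilizer_iff, MulAction.mem_stabilizer_iff, ← Pinf_eq,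
    ← P_zero_eq (sg F m)]
  constructor
  · rintro ⟨u, rfl⟩
    refine ⟨dG_smul_Pinf m u, ?_⟩
    show dG m u • _ = _
    rw [dG_smul_P]; simp
  · rintro ⟨h1, h0⟩
    obtain ⟨u, rfl⟩ := nf_two m g h1 h0
    exact ⟨u, rfl⟩

theorem two_point_equiv : Nonempty (↥(MulAction.stabilizer (Cfsg.Sz F m) (Cfsg.suzukiPointInfinity F) ⊓
        MulAction.stabilizer (Cfsg.Sz F m) (Cfsg.suzukiPointZero F)) ≃* Fˣ) :=
  ⟨((MonoidHom.ofInjective (dHom_injective m)).trans
    (MulEquiv.subgroupCongr (range_dHom m))).symm⟩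

end Cfsg.Agent.Lib.Helper19.Suz
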