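import Cfsg.Agent.Lib.Helper19.SuzC

/-!
# Suzuki groups, part E: simplicity, Zassenhaus property
-/

set_option autoImplicit false
set_option linter.style.haveILetI false
set_option linter.unusedSimpArgs false
set_option linter.unusedSectionVars false
open scoped Pointwise
open Matrix

namespace Cfsg.Agent.Lib.Helper19.Suz

variable {F : Type*} [Field F] [Fintype F] [CharP F 2] (m : ℕ) [Hyp F m]

theorem sg_eq_one {u : F} (h : sg F m u = 1) : u = 1 := by
  apply (sg F m).injective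
  rw [h, map_one]

theorem sq_sg_eq_one {u : F} (h : u ^ 2 * sg F m u = 1) : u = 1 := by
  have h1 := congrArg (sg F m) h
  rw [map_mul, map_pow, sg_sg, map_one] at h1
  have h2 : sg F m u * u = 1 := by
    apply sq_inj
    rw [one_pow, mul_pow]; exact h1
  calc u = u * (sg F m u * u) := by rw [h2, mul_one]
    _ = u ^ 2 * sg F m u := by ring
    _ = 1 := h

theorem mul_sg_eq_one {u : F} (h : u * sg F m u = 1) : u = 1 := by
  have h1 := congrArg (sg F m) h
  rw [map_mul, sg_sg, map_one] at h1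
  calc u = (u * sg F m u) * u := by rw [h, one_mul]
    _ = sg F m u * u ^ 2 := by ring
    _ = 1 := h1

include m in
theorem card_gt : 2 < Fintype.card F := by
  have := sigma_lt (F := F) (m := m)
  have h2 : 0 < 2 ^ (m + 1) := by positivity
  omega

include m in
theorem exists_unit_ne_one : ∃ u : Fˣ, u ≠ 1 := by
  classical
  have h : 1 < Fintype.card Fˣ := by
    rw [Fintype.card_units]
    have := card_gt (F := F) m
    omega
  obtain ⟨u, hu⟩ := Fintype.exists_ne_of_one_lt_card h 1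
  exact ⟨u, hu⟩

theorem exists_sq (u : Fˣ) : ∃ v : Fˣ, v * v = u := by
  have hinj : Function.Injective (fun v : Fˣ => v * v) := by
    intro a b h
    apply Units.ext
    apply sq_inj
    have := congrArg Units.val h
    simpa [sq] using this
  exact Finite.surjective_of_injective hinj u

/-- `g` is a translation times the torus element `u` -/
def IsTD (g : Cfsg.Sz F m) (u : Fˣ) : Prop := ∃ a b, g = tG m a b * dG m u

theorem IsTD.mul {g h : Cfsg.Sz F m} {u v : Fˣ} (hg : IsTD m g u) (hh : IsTD m h v) :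
    IsTD m (g * h) (u * v) := by
  obtain ⟨a, b, rfl⟩ := hg
  obtain ⟨c, d, rfl⟩ := hh
  refine ⟨a + sg F m u * c, b + (u:F) ^ 2 * sg F m u * d + sg F m a * (sg F m u * c), ?_⟩
  calc tG m a b * dG m u * (tG m c d * dG m v) = tG m a b * (dG m u * tG m c d) * dG m v := by group
    _ = tG m a b * tG m (sg F m u * c) ((u:F) ^ 2 * sg F m u * d) * (dG m u * dG m v) := by
      rw [dG_mul_tG]; group
    _ = _ := by rw [tG_mul, dG_mul]

theorem IsTD.inv {g : Cfsg.Sz F m} {u : Fˣ} (hg : IsTD m g u) : IsTD m g⁻¹ u⁻¹ := by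
  obtain ⟨a, b, rfl⟩ := hg
  exact ⟨_, _, by rw [_root_.mul_inv_rev, dG_inv, tG_inv, dG_mul_tG]⟩

theorem isTD_d (u : Fˣ) : IsTD m (dG m u) u := ⟨0, 0, by rw [tG_zero, one_mul]⟩

theorem isTD_t (a b : F) : IsTD m (tG m a b) 1 := ⟨a, b, by rw [dG_one, mul_one]⟩

theorem IsTD.one {g : Cfsg.Sz F m} (hg : IsTD m g 1) : ∃ a b, g = tG m a b := by
  obtain ⟨a, b, rfl⟩ := hg
  exact ⟨a, b, by rw [dG_one, mul_one]⟩

theorem d_fix {u : Fˣ} {x y : F} (hxy : ¬ (x = 0 ∧ y = 0))
    (h : dG m u • P (sg F m) x y = P (sg F m) x y) : u = 1 := by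
  rw [dG_smul_P] at h
  obtain ⟨h1, h2⟩ := P_inj _ h
  apply Units.ext
  by_cases hx : x = 0
  · have hy : y ≠ 0 := fun hy => hxy ⟨hx, hy⟩
    apply sq_sg_eq_one m
    exact mul_right_cancel₀ hy (by rw [h2, one_mul])
  · apply sg_eq_one m
    exact mul_right_cancel₀ hx (by rw [h1, one_mul])

theorem three_fix (g : Cfsg.Sz F m) {a b c : PP F} (ha : a ∈ Cfsg.suzukiOvoid F m)
    (hb : b ∈ Cfsg.suzukiOvoid F m) (hc : c ∈ Cfsg.suzukiOvoid F m) (hab : a ≠ b) (hbc : b ≠ c)
    (hac : a ≠ c) (ga : g • a = a) (gb : g • b = b) (gc : g • c = c) : g = 1 := by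
  obtain ⟨k, ka, kb⟩ := exists_pair m ha hb hab
  have hmem := smul_mem_ovoid m k hc
  rw [mem_ovoid_iff] at hmem
  rcases hmem with h | ⟨x, y, kc⟩
  · exfalso
    rw [← ka] at h
    exact hac (smul_left_cancel k h).symm
  have hxy : ¬ (x = 0 ∧ y = 0) := by
    rintro ⟨rfl, rfl⟩
    rw [← kb] at kc
    exact hbc (smul_left_cancel k kc).symm
  obtain ⟨u, hu⟩ := nf_two m (k * g * k⁻¹) (by
    rw [mul_smul, mul_smul, ← ka, inv_smul_smul, ga]) (by
    rw [mul_smul, mul_smul, ← kb, inv_smul_smul, gb])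
  have hu1 : u = 1 := by
    apply d_fix m hxy
    rw [← hu, mul_smul, mul_smul, ← kc, inv_smul_smul, gc]
  rw [hu1, dG_one] at hu
  have : k * g = k := by
    have := congrArg (· * k) hu
    simpa using this
  simpa using this

theorem exists_moved {g : Cfsg.Sz F m} (hg : g ≠ 1) : ∃ p ∈ Cfsg.suzukiOvoid F m, g • p ≠ p := by
  by_contra hcon
  push Not at hcon
  apply hg
  apply three_fix m g (Pinf_mem m) (P_mem m 0 0) (P_mem m 1 0) (P_ne_Pinf _ _ _).symm
    (fun h => by have := (P_inj _ h).1; simp at this) (P_ne_Pinf _ _ _).symm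
    (hcon _ (Pinf_mem m)) (hcon _ (P_mem m 0 0)) (hcon _ (P_mem m 1 0))

theorem comm_formula (a0 b0 a b : F) (u : Fˣ) :
    (tG m a0 b0 * dG m u) * tG m a b * (tG m a0 b0 * dG m u)⁻¹ * (tG m a b)⁻¹ =
      tG m ((sg F m u + 1) * a) (((u:F) ^ 2 * sg F m u + 1) * b + sg F m a0 * (sg F m u * a)
        + sg F m (sg F m u * a) * a0 + sg F m a * a + sg F m (sg F m u * a) * a) := by
  calc (tG m a0 b0 * dG m u) * tG m a b * (tG m a0 b0 * dG m u)⁻¹ * (tG m a b)⁻¹
      = tG m a0 b0 * (dG m u * tG m a b) * (dG m u)⁻¹ * (tG m a0 b0)⁻¹ * (tG m a b)⁻¹ := by group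
    _ = tG m a0 b0 * tG m (sg F m u * a) ((u:F) ^ 2 * sg F m u * b) * (tG m a0 b0)⁻¹
          * (tG m a b)⁻¹ := by rw [dG_mul_tG]; group
    _ = _ := by
      rw [tG_inv, tG_inv, tG_mul, tG_mul, tG_mul]
      congr 1
      · grind
      · simp only [map_add, map_mul]
        grind

theorem normal_eq_top (N : Subgroup (Cfsg.Sz F m)) [hN : N.Normal] (hne : N ≠ ⊥) : N = ⊤ := by
  obtain ⟨n, hn, hn1⟩ : ∃ n ∈ N, n ≠ 1 := by
    by_contra hcon
    push Not at hcon
    exact hne ((Subgroup.eq_bot_iff_forall N).mpr hcon)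
  obtain ⟨p, hp, hnp⟩ := exists_moved m hn1
  obtain ⟨g, g1, g2⟩ := exists_pair m hp (smul_mem_ovoid m n hp) hnp.symm
  set n' := g * n * g⁻¹ with hn'
  have hn'N : n' ∈ N := hN.conj_mem n hn g
  have hn'inf : n' • (Pinf : PP F) = P (sg F m) 0 0 := by
    rw [hn', mul_smul, mul_smul, ← g1, inv_smul_smul, g2]
  obtain ⟨c, d, u0, hb⟩ := nf_inf m (wG m * n') (by rw [mul_smul, hn'inf, wG_smul_P_zero])
  have hn'w : n' = wG m * (tG m c d * dG m u0) := by
    rw [← hb, ← mul_assoc, wG_mul_wG, one_mul]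
  -- step C
  have stepC : ∀ v : Fˣ, ∃ x ∈ N, IsTD m x (v * v) := by
    intro v
    refine ⟨n'⁻¹ * ((dG m v)⁻¹ * n' * (dG m v)⁻¹⁻¹), N.mul_mem (N.inv_mem hn'N)
      (hN.conj_mem n' hn'N _), ?_⟩
    have e : n'⁻¹ * ((dG m v)⁻¹ * n' * (dG m v)⁻¹⁻¹) =
        (tG m c d * dG m u0)⁻¹ * dG m v * (tG m c d * dG m u0) * dG m v := by
      have e1 : wG m * (dG m v)⁻¹ * wG m = dG m v := by
        rw [dG_inv, wG_mul_dG, inv_inv, mul_assoc, wG_mul_wG, mul_one]
      rw [hn'w, inv_inv, _root_.mul_inv_rev, wG_inv]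
      calc (tG m c d * dG m u0)⁻¹ * wG m * ((dG m v)⁻¹ * (wG m * (tG m c d * dG m u0)) * dG m v)
          = (tG m c d * dG m u0)⁻¹ * (wG m * (dG m v)⁻¹ * wG m) * (tG m c d * dG m u0) * dG m v := by
            group
        _ = _ := by rw [e1]
    rw [e]
    have hb' : IsTD m (tG m c d * dG m u0) u0 := ⟨c, d, rfl⟩
    have := IsTD.mul m (IsTD.mul m (IsTD.mul m (IsTD.inv m hb') (isTD_d m v)) hb') (isTD_d m v)
    have e2 : u0⁻¹ * v * u0 * v = v * v := by
      rw [mul_comm u0⁻¹ v, mul_assoc v, inv_mul_cancel, mul_one]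
    rwa [e2] at this
  have stepD : ∀ u : Fˣ, ∃ x ∈ N, IsTD m x u := by
    intro u
    obtain ⟨v, rfl⟩ := exists_sq u
    exact stepC v
  have stepE : ∀ a b : F, tG m a b ∈ N := by
    obtain ⟨u, hu⟩ := exists_unit_ne_one (F := F) m
    obtain ⟨x, hx, a0, b0, rfl⟩ := stepD u
    have h1 : sg F m u + 1 ≠ 0 := by
      intro h
      apply hu
      apply Units.ext
      apply sg_eq_one m
      grind
    have h2 : (u:F) ^ 2 * sg F m u + 1 ≠ 0 := by
      intro h
      apply hu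
      apply Units.ext
      apply sq_sg_eq_one m
      grind
    intro A B
    set a := A / (sg F m u + 1) with ha
    set b := (B + sg F m a0 * (sg F m u * a)
        + sg F m (sg F m u * a) * a0 + sg F m a * a + sg F m (sg F m u * a) * a) /
        ((u:F) ^ 2 * sg F m u + 1) with hb
    have key := comm_formula m a0 b0 a b u
    have e1 : (sg F m u + 1) * a = A := by rw [ha]; field_simp
    have e2 : ((u:F) ^ 2 * sg F m u + 1) * b = (B + sg F m a0 * (sg F m u * a)
        + sg F m (sg F m u * a) * a0 + sg F m a * a + sg F m (sg F m u * a) * a) := by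
      rw [hb]; field_simp
    have e3 : ((u:F) ^ 2 * sg F m u + 1) * b + sg F m a0 * (sg F m u * a)
        + sg F m (sg F m u * a) * a0 + sg F m a * a + sg F m (sg F m u * a) * a = B := by
      rw [e2]; grind
    rw [e1, e3] at key
    rw [← key]
    have : (tG m a0 b0 * dG m u) * tG m a b * (tG m a0 b0 * dG m u)⁻¹ * (tG m a b)⁻¹ =
        (tG m a0 b0 * dG m u) * (tG m a b * (tG m a0 b0 * dG m u)⁻¹ * (tG m a b)⁻¹) := by group
    rw [this]
    exact N.mul_mem hx (hN.conj_mem _ (N.inv_mem hx) _)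
  have stepF : ∀ u : Fˣ, dG m u ∈ N := by
    intro u
    obtain ⟨x, hx, a, b, rfl⟩ := stepD u
    have := N.mul_mem (N.inv_mem (stepE a b)) hx
    simpa using this
  have stepG : wG m ∈ N := by
    have := N.mul_mem hn'N (N.inv_mem (N.mul_mem (stepE c d) (stepF u0)))
    have e : wG m = n' * (tG m c d * dG m u0)⁻¹ := by rw [hn'w]; group
    rw [e]; exact this
  rw [eq_top_iff]
  intro g _
  by_cases h : g • (Pinf : PP F) = Pinf
  · obtain ⟨a, b, u, rfl⟩ := nf_inf m g h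
    exact N.mul_mem (stepE a b) (stepF u)
  · obtain ⟨a, b, c, d, u, rfl⟩ := nf_ninf m g h
    exact N.mul_mem (N.mul_mem (stepE a b) stepG) (N.mul_mem (stepE c d) (stepF u))

theorem dG_ne_one {u : Fˣ} (hu : u ≠ 1) : dG m u ≠ 1 := by
  intro h
  rw [← dG_one m] at h
  exact hu (dG_inj m h)

theorem isSimple : IsSimpleGroup (Cfsg.Sz F m) := by
  obtain ⟨u, hu⟩ := exists_unit_ne_one (F := F) m
  haveI : Nontrivial (Cfsg.Sz F m) := ⟨⟨dG m u, 1, dG_ne_one m hu⟩⟩
  refine ⟨fun N hN => ?_⟩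
  by_cases h : N = ⊥
  · exact Or.inl h
  · exact Or.inr (normal_eq_top m N h)

theorem isZassenhaus : Cfsg.IsZassenhausGroup (Cfsg.Sz F m) (Cfsg.suzukiOvoid F m) := by
  obtain ⟨u, hu⟩ := exists_unit_ne_one (F := F) m
  have hval : ∀ (g : Cfsg.Sz F m) (a : Cfsg.suzukiOvoid F m), ((g • a : Cfsg.suzukiOvoid F m) : PP F)
      = g • (a : PP F) := fun _ _ => rfl
  refine ⟨⟨?_⟩, ?_, ?_, ?_, ?_⟩
  · intro g h hgh
    by_contra hne
    have hne' : h⁻¹ * g ≠ 1 := by
      intro e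
      apply hne
      rw [inv_mul_eq_one] at e
      exact e.symm
    obtain ⟨p, hp, hmv⟩ := exists_moved m hne'
    apply hmv
    rw [mul_smul, inv_smul_eq_iff]
    exact congrArg Subtype.val (hgh ⟨p, hp⟩)
  · rw [MulAction.is_two_pretransitive_iff]
    intro a b c d hab hcd
    obtain ⟨g, g1, g2⟩ := exists_pair m a.2 b.2 (fun h => hab (Subtype.ext h))
    obtain ⟨k, k1, k2⟩ := exists_pair m c.2 d.2 (fun h => hcd (Subtype.ext h))
    refine ⟨k⁻¹ * g, Subtype.ext ?_, Subtype.ext ?_⟩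
    · rw [hval, mul_smul, g1, inv_smul_eq_iff, k1]
    · rw [hval, mul_smul, g2, inv_smul_eq_iff, k2]
  · intro g a b c hab hbc hac ga gb gc
    exact three_fix m g a.2 b.2 c.2 (fun h => hab (Subtype.ext h)) (fun h => hbc (Subtype.ext h))
      (fun h => hac (Subtype.ext h)) (congrArg Subtype.val ga) (congrArg Subtype.val gb)
      (congrArg Subtype.val gc)
  · refine ⟨dG m u, dG_ne_one m hu, ⟨Pinf, Pinf_mem m⟩, ⟨P (sg F m) 0 0, P_mem m 0 0⟩, ?_,
      Subtype.ext ?_, Subtype.ext ?_⟩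
    · intro h
      exact P_ne_Pinf _ _ _ (congrArg Subtype.val h).symm
    · exact dG_smul_Pinf m u
    · rw [hval]
      show dG m u • P (sg F m) 0 0 = _
      rw [dG_smul_P]; simp
  · intro N hN htr
    have hne : N ≠ ⊥ := by
      rintro rfl
      obtain ⟨⟨g, hg⟩, hg2⟩ := htr.exists_smul_eq (⟨Pinf, Pinf_mem m⟩ : Cfsg.suzukiOvoid F m)
        ⟨P (sg F m) 0 0, P_mem m 0 0⟩
      rw [Subgroup.mem_bot] at hg
      subst hg
      have h3 : (1 : Cfsg.Sz F m) • (Pinf : PP F) = P (sg F m) 0 0 := congrArg Subtype.val hg2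
      rw [one_smul] at h3
      exact P_ne_Pinf _ _ _ h3.symm
    have htop := normal_eq_top m N hne
    refine ⟨⟨Pinf, Pinf_mem m⟩, ?_⟩
    intro hbot
    have hmem : (⟨dG m u, by rw [htop]; trivial⟩ : N) ∈
        MulAction.stabilizer N (⟨Pinf, Pinf_mem m⟩ : Cfsg.suzukiOvoid F m) := by
      rw [MulAction.mem_stabilizer_iff]
      exact Subtype.ext (dG_smul_Pinf m u)
    rw [hbot, Subgroup.mem_bot] at hmem
    exact dG_ne_one m hu (congrArg Subtype.val hmem)

end Cfsg.Agent.Lib.Helper19.Suz
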