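import Cfsg.Agent.Lib.Helper19.SuzE

/-!
# Suzuki groups, part F: the Sylow 2-subgroups
-/

set_option autoImplicit false
set_option linter.style.haveILetI false
set_option linter.unusedSimpArgs false
set_option linter.unusedSectionVars false
open scoped Pointwise
open Matrix

namespace Cfsg.Agent.Lib.Helper19.Suz

variable {F : Type*} [Field F] [Fintype F] [CharP F 2] (m : ℕ) [Hyp F m]

/-- the unipotent subgroup -/
def Q : Subgroup (Cfsg.Sz F m) where
  carrier := {g | ∃ a b, g = tG m a b}
  mul_mem' := by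
    rintro _ _ ⟨a, b, rfl⟩ ⟨c, d, rfl⟩
    exact ⟨_, _, tG_mul m a b c d⟩
  one_mem' := ⟨0, 0, (tG_zero m).symm⟩
  inv_mem' := by
    rintro _ ⟨a, b, rfl⟩
    exact ⟨_, _, tG_inv m a b⟩

theorem mem_Q {g : Cfsg.Sz F m} : g ∈ Q (F := F) m ↔ ∃ a b, g = tG m a b := Iff.rfl

/-- elements of `Q` -/
def qQ (a b : F) : Q (F := F) m := ⟨tG m a b, a, b, rfl⟩

theorem qQ_surj (x : Q (F := F) m) : ∃ a b, x = qQ m a b := by
  obtain ⟨_, a, b, rfl⟩ := x
  exact ⟨a, b, rfl⟩

theorem qQ_mul (a b c d : F) : qQ m a b * qQ m c d = qQ m (a + c) (b + d + sg F m a * c) :=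
  Subtype.ext (tG_mul m a b c d)

theorem qQ_inv (a b : F) : (qQ m a b)⁻¹ = qQ m a (b + sg F m a * a) := Subtype.ext (tG_inv m a b)

theorem qQ_zero : qQ m (0 : F) 0 = 1 := Subtype.ext (tG_zero m)

theorem qQ_inj {a b c d : F} (h : qQ m a b = qQ m c d) : a = c ∧ b = d :=
  tG_inj m (congrArg Subtype.val h)

theorem card_Q : Nat.card (Q (F := F) m) = Fintype.card F ^ 2 := by
  have he : Function.Bijective (fun x : F × F => qQ m x.1 x.2) := by
    constructor
    · rintro ⟨a, b⟩ ⟨c, d⟩ h
      obtain ⟨rfl, rfl⟩ := qQ_inj m h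
      rfl
    · intro x
      obtain ⟨a, b, rfl⟩ := qQ_surj m x
      exact ⟨(a, b), rfl⟩
  rw [← Nat.card_congr (Equiv.ofBijective _ he), Nat.card_prod, Nat.card_eq_fintype_card]
  ring

theorem exists_c0 : ∃ c : F, c + sg F m c ≠ 0 := by
  obtain ⟨u, hu⟩ := exists_unit_ne_one (F := F) m
  refine ⟨u, fun h => hu ?_⟩
  have h1 : sg F m u = u := by grind
  have h2 : (u:F) ^ 2 = u := by
    have := congrArg (sg F m) h1
    rw [sg_sg, h1] at this
    exact this
  apply Units.ext
  have h3 : (u:F) * u = u * 1 := by rw [mul_one, ← sq]; exact h2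
  exact mul_left_cancel₀ u.ne_zero h3

theorem mul_sg_bijective : Function.Bijective (fun a : F => a * sg F m a) := by
  have hinj : Function.Injective (fun a : F => a * sg F m a) := by
    intro a a' h
    simp only at h
    by_cases ha' : a' = 0
    · subst ha'
      simp only [map_zero, mul_zero, mul_eq_zero, map_eq_zero, or_self] at h
      exact h
    · have hs : sg F m a' ≠ 0 := by simpa using ha'
      have : a / a' = 1 := by
        apply mul_sg_eq_one m
        rw [map_div₀]
        field_simp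
        exact h
      field_simp at this
      exact this
  exact ⟨hinj, Finite.surjective_of_injective hinj⟩

theorem exists_comm (b : F) : ∃ a c : F, sg F m a * c + sg F m c * a = b := by
  obtain ⟨c0, hc0⟩ := exists_c0 (F := F) m
  obtain ⟨a, ha⟩ := (mul_sg_bijective (F := F) m).2 (b / (c0 + sg F m c0))
  simp only at ha
  refine ⟨a, a * c0, ?_⟩
  rw [map_mul]
  calc sg F m a * (a * c0) + sg F m a * sg F m c0 * a = (a * sg F m a) * (c0 + sg F m c0) := by ring
    _ = b := by rw [ha]; field_simp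

theorem qQ_comm (a b c d : F) :
    qQ m a b * qQ m c d * (qQ m a b)⁻¹ * (qQ m c d)⁻¹ = qQ m 0 (sg F m a * c + sg F m c * a) := by
  rw [qQ_inv, qQ_inv, qQ_mul, qQ_mul, qQ_mul]
  congr 1
  · grind
  · simp only [map_add]
    grind

theorem mem_center_Q (a b : F) : qQ m a b ∈ Subgroup.center (Q (F := F) m) ↔ a = 0 := by
  rw [Subgroup.mem_center_iff]
  constructor
  · intro h
    have h1 := (qQ_inj m (by simpa only [qQ_mul] using h (qQ m 1 0))).2
    obtain ⟨c0, hc0⟩ := exists_c0 (F := F) m
    have h2 := (qQ_inj m (by simpa only [qQ_mul] using h (qQ m c0 0))).2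
    simp only [map_one] at h1
    have h3 : sg F m a = a := by grind
    rw [h3] at h2
    have h4 : a * (c0 + sg F m c0) = 0 := by grind
    rcases mul_eq_zero.mp h4 with h5 | h5
    · exact h5
    · exact absurd h5 hc0
  · rintro rfl x
    obtain ⟨c, d, rfl⟩ := qQ_surj m x
    rw [qQ_mul, qQ_mul]
    congr 1
    · ring
    · simp; ring

theorem center_Q_eq_commutator : Subgroup.center (Q (F := F) m) = commutator (Q (F := F) m) := by
  apply le_antisymm
  · intro x hx
    obtain ⟨a, b, rfl⟩ := qQ_surj m x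
    rw [mem_center_Q] at hx
    subst hx
    obtain ⟨a, c, hac⟩ := exists_comm m b
    rw [commutator_eq_closure]
    apply Subgroup.subset_closure
    refine ⟨qQ m a 0, qQ m c 0, ?_⟩
    rw [commutatorElement_def, qQ_comm, hac]
  · rw [commutator_eq_closure, Subgroup.closure_le]
    rintro _ ⟨x, y, rfl⟩
    obtain ⟨a, b, rfl⟩ := qQ_surj m x
    obtain ⟨c, d, rfl⟩ := qQ_surj m y
    rw [commutatorElement_def, qQ_comm]
    exact (mem_center_Q m _ _).mpr rfl

theorem card_center_Q : Nat.card (Subgroup.center (Q (F := F) m)) = Fintype.card F := by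
  have he : Function.Bijective (fun b : F => (⟨qQ m 0 b, (mem_center_Q m _ _).mpr rfl⟩ :
      Subgroup.center (Q (F := F) m))) := by
    constructor
    · intro b b' h
      exact (qQ_inj m (congrArg Subtype.val h)).2
    · rintro ⟨x, hx⟩
      obtain ⟨a, b, rfl⟩ := qQ_surj m x
      rw [mem_center_Q] at hx
      subst hx
      exact ⟨b, rfl⟩
  rw [← Nat.card_congr (Equiv.ofBijective _ he), Nat.card_eq_fintype_card]

theorem qQ_sq (a b : F) : qQ m a b ^ 2 = qQ m 0 (sg F m a * a) := by
  rw [sq, qQ_mul]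
  congr 1 <;> grind

theorem exponent_Q : Monoid.exponent (Q (F := F) m) = 4 := by
  have h4 : Monoid.exponent (Q (F := F) m) ∣ 4 := by
    apply Monoid.exponent_dvd_of_forall_pow_eq_one
    intro x
    obtain ⟨a, b, rfl⟩ := qQ_surj m x
    have e : qQ m a b ^ 4 = (qQ m a b ^ 2) ^ 2 := by rw [← pow_mul]
    rw [e, qQ_sq, qQ_sq, ← qQ_zero]
    congr 1
    simp
  have h2 : ¬ Monoid.exponent (Q (F := F) m) ∣ 2 := by
    intro h
    rw [Monoid.exponent_dvd_iff_forall_pow_eq_one] at h
    have h1 := h (qQ m 1 0)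
    rw [qQ_sq, ← qQ_zero] at h1
    have := (qQ_inj m h1).2
    simp at this
  obtain ⟨k, hk, hk2⟩ := (Nat.dvd_prime_pow Nat.prime_two (m := 2)).mp (by simpa using h4)
  rw [hk2] at h2 ⊢
  interval_cases k
  · exact absurd (by norm_num) h2
  · exact absurd (by norm_num) h2
  · norm_num

/-- transfer of the structural statement along an isomorphism -/
theorem transfer_struct {A B : Type*} [Group A] [Group B] (e : A ≃* B) {n c q : ℕ}
    (h : Nat.card A = n ∧ Monoid.exponent A = c ∧ Subgroup.center A = commutator A ∧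
      Nat.card (Subgroup.center A) = q) :
    Nat.card B = n ∧ Monoid.exponent B = c ∧ Subgroup.center B = commutator B ∧
      Nat.card (Subgroup.center B) = q := by
  obtain ⟨h1, h2, h3, h4⟩ := h
  have hc : (Subgroup.center A).map e.toMonoidHom = Subgroup.center B := by
    ext x
    rw [Subgroup.mem_map, Subgroup.mem_center_iff]
    constructor
    · rintro ⟨a, ha, rfl⟩ y
      rw [Subgroup.mem_center_iff] at ha
      obtain ⟨y, rfl⟩ := e.surjective y
      have := congrArg e (ha y)
      simpa using this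
    · intro hx
      refine ⟨e.symm x, ?_, by simp⟩
      rw [Subgroup.mem_center_iff]
      intro y
      apply e.injective
      simpa using hx (e y)
  have hd : (commutator A).map e.toMonoidHom = commutator B := by
    rw [_root_.commutator_def, Subgroup.map_commutator, _root_.commutator_def,
      Subgroup.map_top_of_surjective _ e.surjective]
  refine ⟨by rw [← h1]; exact (Nat.card_congr e.toEquiv).symm,
    by rw [← h2]; exact (Monoid.exponent_eq_of_mulEquiv e).symm, by rw [← hc, ← hd, h3], ?_⟩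
  rw [← h4, ← hc]
  exact (Nat.card_congr (e.subgroupMap (Subgroup.center A)).toEquiv).symm

theorem factorization_card : (Nat.card (Cfsg.Sz F m)).factorization 2 = 2 * (2 * m + 1) := by
  rw [card_G, Hyp.hF (F := F) (m := m)]
  have hq : 2 ≤ 2 ^ (2 * m + 1) := by
    calc 2 = 2 ^ 1 := by norm_num
      _ ≤ 2 ^ (2 * m + 1) := Nat.pow_le_pow_right (by norm_num) (by omega)
  have hev : 2 ∣ 2 ^ (2 * m + 1) := dvd_pow_self _ (by omega)
  have h1 : ¬ 2 ∣ ((2 ^ (2 * m + 1)) ^ 2 + 1) := by
    have : 2 ∣ (2 ^ (2 * m + 1)) ^ 2 := dvd_pow hev (by norm_num)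
    omega
  have h2 : ¬ 2 ∣ (2 ^ (2 * m + 1) - 1) := by omega
  rw [Nat.factorization_mul (by positivity) (by omega), Nat.factorization_mul (by positivity) (by positivity)]
  simp only [Finsupp.coe_add, Pi.add_apply]
  rw [Nat.factorization_eq_zero_of_not_dvd h1, Nat.factorization_eq_zero_of_not_dvd h2, ← pow_mul,
    Nat.Prime.factorization_pow Nat.prime_two]
  simp
  ring

/-- `Q` as a Sylow subgroup -/
noncomputable def QS : Sylow 2 (Cfsg.Sz F m) :=
  haveI : Fact (Nat.Prime 2) := ⟨Nat.prime_two⟩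
  Sylow.ofCard (Q (F := F) m) (by
    rw [card_Q, factorization_card, Hyp.hF (F := F) (m := m), ← pow_mul]; congr 1; ring)

theorem coe_QS : ((QS m : Sylow 2 (Cfsg.Sz F m)) : Subgroup (Cfsg.Sz F m)) = Q (F := F) m := rfl

theorem sylow_struct (P : Sylow 2 (Cfsg.Sz F m)) :
    Nat.card P = Fintype.card F ^ 2 ∧ Monoid.exponent P = 4 ∧
      Subgroup.center P = commutator P ∧ Nat.card (Subgroup.center P) = Fintype.card F := by
  haveI : Fact (Nat.Prime 2) := ⟨Nat.prime_two⟩
  exact transfer_struct (Sylow.equiv (QS m) P)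
    ⟨card_Q m, exponent_Q m, center_Q_eq_commutator m, card_center_Q m⟩

end Cfsg.Agent.Lib.Helper19.Suz
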