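import Cfsg.Agent.Lib.Helper19.SuzF

/-!
# Suzuki groups, part G: the Borel subgroup is maximal; real 2-elements
-/

set_option autoImplicit false
set_option linter.style.haveILetI false
set_option linter.unusedSimpArgs false
set_option linter.unusedSectionVars false
open scoped Pointwise
open Matrix

namespace Cfsg.Agent.Lib.Helper19.Suz

variable {F : Type*} [Field F] [Fintype F] [CharP F 2] (m : ℕ) [Hyp F m]

/-- the Borel subgroup -/
abbrev Bor : Subgroup (Cfsg.Sz F m) := MulAction.stabilizer (Cfsg.Sz F m) (Pinf : PP F)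

theorem mem_Bor {g : Cfsg.Sz F m} : g ∈ Bor (F := F) m ↔ ∃ a b u, g = tG m a b * dG m u :=
  mem_stab_inf_iff m g

theorem t_fix {a b : F} {p : PP F} (hp : p ∈ Cfsg.suzukiOvoid F m) (hne : tG m a b ≠ 1)
    (h : tG m a b • p = p) : p = Pinf := by
  rw [mem_ovoid_iff] at hp
  rcases hp with rfl | ⟨x, y, rfl⟩
  · rfl
  · exfalso
    rw [tG_smul_P] at h
    obtain ⟨h1, h2⟩ := P_inj _ h
    have ha : a = 0 := by grind
    subst ha
    have hb : b = 0 := by
      simp only [map_zero, zero_mul, add_zero] at h2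
      grind
    subst hb
    exact hne (tG_zero m)

theorem conj_td (c d a b : F) (u : Fˣ) :
    (tG m c d * dG m u) * tG m a b * (tG m c d * dG m u)⁻¹ =
      tG m (sg F m u * a) ((u:F) ^ 2 * sg F m u * b + sg F m c * (sg F m u * a)
        + sg F m (sg F m u * a) * c) := by
  calc (tG m c d * dG m u) * tG m a b * (tG m c d * dG m u)⁻¹
      = tG m c d * (dG m u * tG m a b) * (dG m u)⁻¹ * (tG m c d)⁻¹ := by group
    _ = tG m c d * tG m (sg F m u * a) ((u:F) ^ 2 * sg F m u * b) * (tG m c d)⁻¹ := by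
      rw [dG_mul_tG]; group
    _ = _ := by
      rw [tG_inv, tG_mul, tG_mul]
      congr 1
      · grind
      · simp only [map_add, map_mul]
        grind

theorem Q_le_Bor : Q (F := F) m ≤ Bor (F := F) m := by
  rintro _ ⟨a, b, rfl⟩
  exact tG_smul_Pinf m a b

theorem tG_one_ne : tG m (1 : F) 0 ≠ 1 := by
  intro h
  rw [← tG_zero] at h
  have := (tG_inj m h).1
  simp at this

theorem normalizer_Q : Subgroup.normalizer ((Q (F := F) m : Subgroup (Cfsg.Sz F m)) : Set (Cfsg.Sz F m))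
    = Bor (F := F) m := by
  ext x
  constructor
  · intro hx
    rw [Subgroup.mem_normalizer_iff] at hx
    obtain ⟨a, b, hab⟩ := (hx (tG m 1 0)).mp ⟨1, 0, rfl⟩
    have hne : tG m a b ≠ 1 := by
      rw [← hab]
      intro h
      apply tG_one_ne (F := F) m
      have : x * tG m 1 0 = x := by
        have := congrArg (· * x) h
        simpa using this
      simpa using this
    rw [MulAction.mem_stabilizer_iff]
    apply t_fix m (smul_mem_ovoid m x (Pinf_mem m)) hne
    rw [← hab, mul_smul, mul_smul, inv_smul_smul, tG_smul_Pinf]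
  · intro hx
    obtain ⟨c, d, u, rfl⟩ := (mem_Bor m).mp hx
    rw [Subgroup.mem_normalizer_iff]
    intro h
    constructor
    · rintro ⟨a, b, rfl⟩
      exact ⟨_, _, conj_td m c d a b u⟩
    · rintro ⟨a, b, hab⟩
      have hinv : IsTD m (tG m c d * dG m u)⁻¹ u⁻¹ := IsTD.inv m ⟨c, d, rfl⟩
      obtain ⟨c', d', hcd⟩ := hinv
      have : h = (tG m c d * dG m u)⁻¹ * tG m a b * (tG m c d * dG m u)⁻¹⁻¹ := by
        rw [← hab]; group
      rw [this, hcd]
      exact ⟨_, _, conj_td m c' d' a b u⁻¹⟩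

theorem eq_top_of_Q_le {M : Subgroup (Cfsg.Sz F m)} (hQ : Q (F := F) m ≤ M)
    (hM : ¬ M ≤ Bor (F := F) m) : M = ⊤ := by
  obtain ⟨x0, hx0, hx0B⟩ := SetLike.not_le_iff_exists.mp hM
  have htr : ∀ p ∈ Cfsg.suzukiOvoid F m, ∃ x ∈ M, x • (Pinf : PP F) = p := by
    intro p hp
    have hmem := smul_mem_ovoid m x0 (Pinf_mem m)
    rw [mem_ovoid_iff] at hmem hp
    rcases hmem with h | ⟨a0, b0, h0⟩
    · exact absurd h hx0B
    rcases hp with rfl | ⟨a, b, rfl⟩
    · exact ⟨1, M.one_mem, one_smul _ _⟩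
    · refine ⟨tG m a b * (tG m a0 b0)⁻¹ * x0,
        M.mul_mem (M.mul_mem (hQ ⟨_, _, rfl⟩) (M.inv_mem (hQ ⟨_, _, rfl⟩))) hx0, ?_⟩
      rw [mul_smul, mul_smul, h0]
      have : (tG m a0 b0)⁻¹ • P (sg F m) a0 b0 = P (sg F m) 0 0 := by
        rw [inv_smul_eq_iff, tG_smul_P]; simp
      rw [this, tG_smul_P]; simp
  have hconj : ∀ (g : Cfsg.Sz F m), ∀ t ∈ Q (F := F) m, g * t * g⁻¹ ∈ M := by
    intro g t ht
    obtain ⟨x, hx, hxg⟩ := htr _ (smul_mem_ovoid m g (Pinf_mem m))
    have hb : x⁻¹ * g ∈ Bor (F := F) m := by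
      rw [MulAction.mem_stabilizer_iff, mul_smul, inv_smul_eq_iff, hxg]
    rw [← normalizer_Q, Subgroup.mem_normalizer_iff] at hb
    have h1 := hQ ((hb t).mp ht)
    have : g * t * g⁻¹ = x * (x⁻¹ * g * t * (x⁻¹ * g)⁻¹) * x⁻¹ := by group
    rw [this]
    exact M.mul_mem (M.mul_mem hx h1) (M.inv_mem hx)
  have hle : Subgroup.normalClosure ((Q (F := F) m : Subgroup (Cfsg.Sz F m)) : Set (Cfsg.Sz F m)) ≤ M := by
    unfold Subgroup.normalClosure
    rw [Subgroup.closure_le]
    intro y hy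
    rw [Group.mem_conjugatesOfSet_iff] at hy
    obtain ⟨t, ht, hty⟩ := hy
    rw [isConj_iff] at hty
    obtain ⟨c, rfl⟩ := hty
    exact hconj c t ht
  have htop : Subgroup.normalClosure ((Q (F := F) m : Subgroup (Cfsg.Sz F m)) : Set (Cfsg.Sz F m)) = ⊤ := by
    apply normal_eq_top m
    intro h
    have h1 : tG m (1:F) 0 ∈ Subgroup.normalClosure
        ((Q (F := F) m : Subgroup (Cfsg.Sz F m)) : Set (Cfsg.Sz F m)) :=
      Subgroup.subset_normalClosure ⟨1, 0, rfl⟩
    rw [h, Subgroup.mem_bot] at h1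
    exact tG_one_ne m h1
  rw [htop] at hle
  exact top_le_iff.mp hle

theorem Bor_ne_top : Bor (F := F) m ≠ ⊤ := by
  intro h
  have : wG m ∈ Bor (F := F) m := by rw [h]; trivial
  rw [MulAction.mem_stabilizer_iff, wG_smul_Pinf] at this
  exact P_ne_Pinf _ _ _ this

theorem Bor_isCoatom : IsCoatom (Bor (F := F) m) := by
  refine ⟨Bor_ne_top m, fun H hH => ?_⟩
  exact eq_top_of_Q_le m ((Q_le_Bor m).trans hH.le) (not_le_of_gt hH)

/-- the statement on maximal overgroups -/
def MaxProp {G : Type*} [Group G] (H : Subgroup G) : Prop :=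
  IsCoatom (Subgroup.normalizer (H : Set G)) ∧
    ∀ M : Subgroup G, IsCoatom M → H ≤ M → M = Subgroup.normalizer (H : Set G)

theorem MaxProp.map {G : Type*} [Group G] {H : Subgroup G} (h : MaxProp H) (φ : G ≃* G) :
    MaxProp (H.map φ.toMonoidHom) := by
  obtain ⟨h1, h2⟩ := h
  have e1 : Subgroup.normalizer ((H.map φ.toMonoidHom : Subgroup G) : Set G) =
      φ.mapSubgroup (Subgroup.normalizer (H : Set G)) :=
    (Subgroup.map_equiv_normalizer_eq H φ).symm
  unfold MaxProp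
  rw [e1]
  refine ⟨(OrderIso.isCoatom_iff φ.mapSubgroup _).mpr h1, fun M hM hHM => ?_⟩
  have hM' : IsCoatom (φ.mapSubgroup.symm M) := (OrderIso.isCoatom_iff φ.mapSubgroup.symm _).mpr hM
  have hle : H ≤ φ.mapSubgroup.symm M := by
    rw [← φ.mapSubgroup.le_iff_le, OrderIso.apply_symm_apply]
    exact hHM
  rw [← h2 _ hM' hle, OrderIso.apply_symm_apply]

theorem maxProp_Q : MaxProp (Q (F := F) m) := by
  unfold MaxProp
  rw [normalizer_Q]
  refine ⟨Bor_isCoatom m, fun M hM hQM => ?_⟩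
  by_contra hne
  have : ¬ M ≤ Bor (F := F) m := by
    intro hle
    rcases hle.eq_or_lt with h | h
    · exact hne h
    · exact Bor_ne_top m (hM.2 _ h)
  exact hM.1 (eq_top_of_Q_le m hQM this)

theorem exists_conj_QS (P : Sylow 2 (Cfsg.Sz F m)) :
    ∃ k : Cfsg.Sz F m, (P : Subgroup (Cfsg.Sz F m)) = (Q (F := F) m).map (MulAut.conj k).toMonoidHom := by
  haveI : Fact (Nat.Prime 2) := ⟨Nat.prime_two⟩
  obtain ⟨k, hk⟩ := MulAction.exists_smul_eq (Cfsg.Sz F m) (QS m) P
  refine ⟨k, ?_⟩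
  rw [← hk]
  rfl

theorem maxProp_sylow (P : Sylow 2 (Cfsg.Sz F m)) : MaxProp (P : Subgroup (Cfsg.Sz F m)) := by
  obtain ⟨k, hk⟩ := exists_conj_QS m P
  rw [hk]
  exact (maxProp_Q m).map _

theorem no_sol (t : F) : sg F m t + t ≠ 1 := by
  intro h
  have h1 := congrArg (sg F m) h
  rw [map_add, sg_sg, map_one] at h1
  have h2 : t * (t + 1) = 0 := by grind
  rcases mul_eq_zero.mp h2 with h3 | h3
  · subst h3
    simp at h
  · have : t = 1 := by grind
    subst this
    simp only [map_one] at h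
    grind

theorem real_Q {a b : F} (hne : tG m a b ≠ 1) (h : IsConj (tG m a b) (tG m a b)⁻¹) : a = 0 := by
  rw [isConj_iff] at h
  obtain ⟨x, hx⟩ := h
  have hne' : (tG m a b)⁻¹ ≠ 1 := by simpa using hne
  have hxB : x • (Pinf : PP F) = Pinf := by
    rw [tG_inv] at hne' hx
    apply t_fix m (smul_mem_ovoid m x (Pinf_mem m)) hne'
    rw [← hx, mul_smul, mul_smul, inv_smul_smul, tG_smul_Pinf]
  obtain ⟨c, d, u, rfl⟩ := nf_inf m x hxB
  rw [conj_td, tG_inv] at hx
  obtain ⟨h1, h2⟩ := tG_inj m hx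
  by_contra ha
  have hu : sg F m u = 1 := mul_right_cancel₀ ha (by rw [h1, one_mul])
  have hu1 : (u:F) = 1 := sg_eq_one m hu
  rw [hu, hu1] at h2
  simp only [one_pow, one_mul] at h2
  have hsa : sg F m a ≠ 0 := by simpa using ha
  apply no_sol m (c / a)
  rw [map_div₀]
  field_simp
  grind

theorem real_iff (P : Sylow 2 (Cfsg.Sz F m)) (g : Cfsg.Sz F m) (hg : g ∈ (P : Subgroup (Cfsg.Sz F m)))
    (h1 : g ≠ 1) : IsConj g g⁻¹ ↔ orderOf g = 2 := by
  constructor
  · intro h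
    obtain ⟨k, hk⟩ := exists_conj_QS m P
    rw [hk] at hg
    obtain ⟨t, ⟨a, b, rfl⟩, rfl⟩ := hg
    have e : (MulAut.conj k).toMonoidHom (tG m a b) = k * tG m a b * k⁻¹ := rfl
    rw [e] at h h1 ⊢
    have hne : tG m a b ≠ 1 := by
      rintro h0
      apply h1
      rw [h0]; group
    have hc : IsConj (tG m a b) (tG m a b)⁻¹ := by
      have c1 : IsConj (tG m a b) (k * tG m a b * k⁻¹) := isConj_iff.mpr ⟨k, rfl⟩
      have c2 : IsConj (tG m a b)⁻¹ (k * tG m a b * k⁻¹)⁻¹ := isConj_iff.mpr ⟨k, by group⟩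
      exact (c1.trans h).trans c2.symm
    have ha := real_Q m hne hc
    subst ha
    have : orderOf (k * tG m 0 b * k⁻¹) = orderOf (tG m 0 b) := by
      have := orderOf_injective (MulAut.conj k).toMonoidHom (MulAut.conj k).injective (tG m 0 b)
      exact this
    rw [this]
    apply orderOf_eq_prime
    · rw [sq, tG_mul, ← tG_zero]
      congr 1
      · simp
      · simp; grind
    · exact hne
  · intro h
    have : g⁻¹ = g := by
      rw [inv_eq_iff_mul_eq_one, ← sq, ← h]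
      exact pow_orderOf_eq_one g
    rw [this]

end Cfsg.Agent.Lib.Helper19.Suz
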