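import Cfsg.Agent.Lib.Helper19.SuzG
import Cfsg.Agent.Lib.Helper19.SuzL
import Cfsg.Agent.Lib.Helper19.AffG

/-!
# Suzuki groups, part P: fixed vectors on the natural module, prime graph
-/

set_option autoImplicit false
set_option linter.style.haveILetI false
set_option linter.unusedSimpArgs false
set_option linter.unusedSectionVars false
open scoped Pointwise
open Matrix

namespace Cfsg.Agent.Lib.Helper19.Suz

variable {F : Type*} [Field F] [Fintype F]

/-- arithmetic: `q² ≡ -1` and `q^d ≡ q^4` mod an odd prime force `d = 4` for `1 ≤ d ≤ 4` -/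
theorem arith_d {r q d : ℕ} (hr : r.Prime) (hr2 : r ≠ 2) (hdiv : r ∣ q ^ 2 + 1)
    (h : q ^ 4 ≡ q ^ d [MOD r]) (hd4 : d ≤ 4) : d = 0 ∨ d = 4 := by
  haveI := Fact.mk hr
  have h1 : ((q : ZMod r)) ^ 2 = -1 := by
    have : ((q ^ 2 + 1 : ℕ) : ZMod r) = 0 := (ZMod.natCast_eq_zero_iff _ _).mpr hdiv
    push_cast at this
    linear_combination this
  have h2 : ((q : ZMod r)) ^ 4 = (q : ZMod r) ^ d := by
    have := (ZMod.natCast_eq_natCast_iff _ _ _).mpr h
    push_cast at this
    exact this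
  have h4 : ((q : ZMod r)) ^ 4 = 1 := by
    calc ((q : ZMod r)) ^ 4 = ((q : ZMod r) ^ 2) ^ 2 := by ring
      _ = 1 := by rw [h1]; ring
  have hne : (2 : ZMod r) ≠ 0 := by
    intro h0
    have : ((2 : ℕ) : ZMod r) = 0 := by exact_mod_cast h0
    rw [ZMod.natCast_eq_zero_iff] at this
    exact hr2 ((Nat.prime_dvd_prime_iff_eq hr Nat.prime_two).mp this)
  rw [h4] at h2
  interval_cases d
  · left; rfl
  · exfalso
    apply hne
    have h5 : (q : ZMod r) = 1 := by simpa using h2.symm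
    rw [h5] at h1
    linear_combination h1
  · exfalso
    apply hne
    linear_combination h2 + h1
  · exfalso
    apply hne
    have h5 : (q : ZMod r) = -1 := by
      have : (q : ZMod r) ^ 3 = (q : ZMod r) ^ 2 * q := by ring
      rw [this, h1] at h2
      linear_combination h2
    rw [h5] at h1
    linear_combination h1
  · right; rfl

/-- fixed vectors of an element of prime order dividing `q² + 1` -/
theorem count_fix {r : ℕ} (hr : r.Prime) (hr2 : r ≠ 2) (hdiv : r ∣ Fintype.card F ^ 2 + 1)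
    (h : SL4 F) (hh : h ^ r = 1) (v : Fin 4 → F) (hv : v ≠ 0) (hfix : h • v = v) : h = 1 := by
  classical
  haveI := Fact.mk hr
  set Z := Subgroup.zpowers h with hZ
  have hp : IsPGroup r Z := by
    rintro ⟨z, hz⟩
    obtain ⟨i, rfl⟩ := Subgroup.mem_zpowers_iff.mp hz
    refine ⟨1, Subtype.ext ?_⟩
    show (h ^ i) ^ (r ^ 1) = 1
    rw [pow_one, ← zpow_natCast, ← _root_.zpow_mul, mul_comm, _root_.zpow_mul, zpow_natCast, hh, _root_.one_zpow]
  have hmod := hp.card_modEq_card_fixedPoints (Fin 4 → F)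
  set W : Submodule F (Fin 4 → F) :=
    LinearMap.ker (Matrix.mulVecLin ((h : Matrix (Fin 4) (Fin 4) F) - 1)) with hW
  have hmemW : ∀ w : Fin 4 → F, w ∈ W ↔ h • w = w := by
    intro w
    rw [hW, LinearMap.mem_ker, Matrix.mulVecLin_apply, Matrix.sub_mulVec, Matrix.one_mulVec, sub_eq_zero]
    rfl
  have hfp : (MulAction.fixedPoints Z (Fin 4 → F)) = (W : Set (Fin 4 → F)) := by
    ext w
    rw [MulAction.mem_fixedPoints, SetLike.mem_coe, hmemW]
    constructor
    · intro hw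
      exact hw ⟨h, Subgroup.mem_zpowers h⟩
    · intro hw z
      have : Z ≤ MulAction.stabilizer (SL4 F) w := by
        rw [hZ, Subgroup.zpowers_le]
        exact hw
      exact this z.2
  have hcW : Nat.card (MulAction.fixedPoints Z (Fin 4 → F)) = Fintype.card F ^ Module.finrank F W := by
    rw [hfp]
    show Nat.card W = _
    rw [Nat.card_eq_fintype_card, Module.card_eq_pow_finrank (K := F)]
  have hcV : Nat.card (Fin 4 → F) = Fintype.card F ^ 4 := by
    rw [Nat.card_eq_fintype_card, Fintype.card_fun, Fintype.card_fin]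
  rw [hcW, hcV] at hmod
  have hd4 : Module.finrank F W ≤ 4 := by
    have := Submodule.finrank_le W
    simpa using this
  rcases arith_d hr hr2 hdiv hmod hd4 with h0 | h4
  · exfalso
    have : W = ⊥ := Submodule.finrank_eq_zero.mp h0
    have hvW : v ∈ W := (hmemW v).mpr hfix
    rw [this, Submodule.mem_bot] at hvW
    exact hv hvW
  · have : W = ⊤ := Submodule.eq_top_of_finrank_eq (by simpa using h4)
    apply Subtype.ext
    show (h : Matrix (Fin 4) (Fin 4) F) = 1
    ext i j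
    have hw : Pi.single j (1:F) ∈ W := by rw [this]; trivial
    rw [hmemW] at hw
    have := congrFun hw i
    have e : (h • (Pi.single j (1:F) : Fin 4 → F)) i = (h : Matrix (Fin 4) (Fin 4) F) i j := by
      show ((h : Matrix (Fin 4) (Fin 4) F) *ᵥ Pi.single j 1) i = _
      rw [Matrix.mulVec_single_one]; rfl
    rw [e] at this
    rw [this, Matrix.one_apply, Pi.single_apply]

variable [CharP F 2] (m : ℕ) [Hyp F m]

/-- a `r`-element has a fixed point on the ovoid unless `r ∣ q² + 1` -/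
theorem exists_fixed {r : ℕ} (hr : r.Prime) (g : Cfsg.Sz F m) {j : ℕ} (hg : g ^ (r ^ j) = 1)
    (hdiv : ¬ r ∣ Fintype.card F ^ 2 + 1) : ∃ p ∈ Cfsg.suzukiOvoid F m, g • p = p := by
  classical
  haveI := Fact.mk hr
  set Z := Subgroup.zpowers g with hZ
  have hp : IsPGroup r Z := by
    rintro ⟨z, hz⟩
    obtain ⟨i, rfl⟩ := Subgroup.mem_zpowers_iff.mp hz
    refine ⟨j, Subtype.ext ?_⟩
    show (g ^ i) ^ (r ^ j) = 1
    rw [← zpow_natCast, ← _root_.zpow_mul, mul_comm, _root_.zpow_mul, zpow_natCast, hg,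
      _root_.one_zpow]
  have hmod := hp.card_modEq_card_fixedPoints (Cfsg.suzukiOvoid F m)
  have hc : Nat.card (Cfsg.suzukiOvoid F m) = Fintype.card F ^ 2 + 1 := by
    rw [← ncard_ovoid m]; rfl
  rw [hc] at hmod
  by_contra hcon
  push Not at hcon
  have hemp : IsEmpty (MulAction.fixedPoints Z (Cfsg.suzukiOvoid F m)) := by
    constructor
    rintro ⟨⟨p, hp⟩, hfix⟩
    rw [MulAction.mem_fixedPoints] at hfix
    exact hcon p hp (congrArg Subtype.val (hfix ⟨g, Subgroup.mem_zpowers g⟩))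
  rw [Nat.card_of_isEmpty] at hmod
  exact hdiv ((Nat.modEq_zero_iff_dvd).mp hmod)

theorem det_td_sub_one (s : F →+* F) (a b : F) (u : Fˣ) :
    (Tm s a b * Dm s u - 1).det =
      ((u:F) * s u - 1) * ((u:F) - 1) * ((u:F)⁻¹ - 1) * (((u:F) * s u)⁻¹ - 1) := by
  have : Tm s a b * Dm s u - 1 = !![(u:F) * s u - 1, a * u, (b + a * s a) * (u:F)⁻¹,
      (a * b + s a * a ^ 2 + s b) * ((u:F) * s u)⁻¹; 0, (u:F) - 1, s a * (u:F)⁻¹,
      b * ((u:F) * s u)⁻¹; 0, 0, (u:F)⁻¹ - 1, a * ((u:F) * s u)⁻¹; 0, 0, 0, ((u:F) * s u)⁻¹ - 1] := by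
    ext i j
    fin_cases i <;> fin_cases j <;> simp [Tm, Dm, Matrix.mul_apply, Fin.sum_univ_succ]
  rw [this]
  simp [Matrix.det_succ_row_zero, Fin.sum_univ_succ, Fin.succAbove]
  ring

/-- the underlying matrix of a group element -/
abbrev mat (g : Cfsg.Sz F m) : Matrix (Fin 4) (Fin 4) F := AffG.cm g

theorem det_conj_sub_one (k g : Cfsg.Sz F m) :
    (mat m (k * g * k⁻¹) - 1).det = (mat m g - 1).det := by
  have h1 : mat m (k * g * k⁻¹) - 1 = mat m k * (mat m g - 1) * mat m k⁻¹ := by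
    have e : mat m k * mat m k⁻¹ = 1 := by
      show AffG.cm k * AffG.cm k⁻¹ = 1
      rw [← AffG.cm_mul, mul_inv_cancel, AffG.cm_one]
    rw [Matrix.mul_sub, Matrix.sub_mul, Matrix.mul_one, e]
    rfl
  rw [h1, Matrix.det_mul, Matrix.det_mul]
  have d1 : (mat m k).det = 1 := k.1.2
  have d2 : (mat m k⁻¹).det = 1 := (k⁻¹).1.2
  rw [d1, d2]; ring

theorem tG_pow_four (a b : F) : tG m a b ^ 4 = 1 := by
  have e : tG m a b ^ 4 = (tG m a b * tG m a b) * (tG m a b * tG m a b) := by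
    rw [← sq, ← sq, ← pow_mul]
  rw [e, tG_mul, tG_mul, ← tG_zero]
  congr 1
  · grind
  · simp only [map_add]
    grind

/-- Lemma A: an element with a fixed point on the ovoid -/
theorem dich_of_fixed (g : Cfsg.Sz F m) {p : PP F} (hp : p ∈ Cfsg.suzukiOvoid F m) (hg : g • p = p) :
    g ^ 4 = 1 ∨ (mat m g - 1).det ≠ 0 := by
  obtain ⟨k, hk⟩ := exists_smul_eq_Pinf m hp
  obtain ⟨a, b, u, hu⟩ := nf_inf m (k * g * k⁻¹) (by
    rw [mul_smul, mul_smul, ← hk, inv_smul_smul, hg])
  by_cases h1 : u = 1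
  · left
    subst h1
    rw [dG_one, mul_one] at hu
    have h4 : (k * g * k⁻¹) ^ 4 = 1 := by rw [hu, tG_pow_four]
    rw [conj_pow] at h4
    have : k * g ^ 4 = k := by
      have := congrArg (· * k) h4
      simpa using this
    simpa using this
  · right
    rw [← det_conj_sub_one m k g, hu]
    have e : mat m (tG m a b * dG m u) = Tm (sg F m) a b * Dm (sg F m) u := rfl
    rw [e, det_td_sub_one]
    have hu0 : (u:F) ≠ 0 := u.ne_zero
    have hs0 : sg F m u ≠ 0 := by simp
    have n1 : (u:F) ≠ 1 := fun h => h1 (Units.ext h)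
    have n2 : (u:F) * sg F m u ≠ 1 := fun h => n1 (mul_sg_eq_one m h)
    have n3 : (u:F)⁻¹ ≠ 1 := fun h => n1 (by simpa using h)
    have n4 : ((u:F) * sg F m u)⁻¹ ≠ 1 := fun h => n2 (inv_eq_one.mp h)
    exact mul_ne_zero (mul_ne_zero (mul_ne_zero (sub_ne_zero.mpr n2) (sub_ne_zero.mpr n1))
      (sub_ne_zero.mpr n3)) (sub_ne_zero.mpr n4)

include m in
theorem not_two_dvd : ¬ 2 ∣ Fintype.card F ^ 2 + 1 := by
  rw [Hyp.hF (F := F) (m := m)]
  have : 2 ∣ (2 ^ (2 * m + 1)) ^ 2 := dvd_pow (dvd_pow_self _ (by omega)) (by norm_num)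
  omega

/-- Lemma E: an element of even order has a fixed point -/
theorem fixed_of_even (g : Cfsg.Sz F m) (hev : 2 ∣ orderOf g) :
    ∃ p ∈ Cfsg.suzukiOvoid F m, g • p = p := by
  set z := g ^ (orderOf g / 2) with hz
  have hz2 : orderOf z = 2 := by
    rw [hz]
    exact orderOf_pow_orderOf_div (orderOf_pos g).ne' hev
  have hz1 : z ≠ 1 := by
    intro h
    rw [h, orderOf_one] at hz2
    norm_num at hz2
  have hzz : z ^ (2 ^ 1) = 1 := by rw [pow_one, ← hz2]; exact pow_orderOf_eq_one z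
  obtain ⟨p, hp, hzp⟩ := exists_fixed m Nat.prime_two z hzz (not_two_dvd m)
  refine ⟨p, hp, ?_⟩
  by_contra hne
  have hcomm : z * g = g * z := by rw [hz, ← pow_succ, ← pow_succ']
  have hzgp : z • (g • p) = g • p := by rw [← mul_smul, hcomm, mul_smul, hzp]
  obtain ⟨k, k1, k2⟩ := exists_pair m hp (smul_mem_ovoid m g hp) (Ne.symm hne)
  obtain ⟨u, hu⟩ := nf_two m (k * z * k⁻¹) (by
    rw [mul_smul, mul_smul, ← k1, inv_smul_smul, hzp]) (by
    rw [mul_smul, mul_smul, ← k2, inv_smul_smul, hzgp])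
  have h2 : (k * z * k⁻¹) ^ 2 = 1 := by
    rw [conj_pow, ← pow_one 2, hzz]; group
  rw [hu, sq, dG_mul, ← dG_one] at h2
  have hu1 : u = 1 := by
    have := dG_inj m h2
    apply Units.ext
    apply sq_inj
    have h3 := congrArg Units.val this
    simpa [sq] using h3
  rw [hu1, dG_one] at hu
  apply hz1
  have : k * z = k := by
    have := congrArg (· * k) hu
    simpa using this
  simpa using this

/-- Lemma B: elements of odd prime order have no fixed vectors -/
theorem det_ne_of_prime {r : ℕ} (hr : r.Prime) (hr2 : r ≠ 2) (h : Cfsg.Sz F m) (ho : orderOf h = r) :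
    (mat m h - 1).det ≠ 0 := by
  have hr1 : h ^ r = 1 := by rw [← ho]; exact pow_orderOf_eq_one h
  have hne : h ≠ 1 := by
    intro h1
    rw [h1, orderOf_one] at ho
    exact hr.one_lt.ne ho
  by_cases hfix : ∃ p ∈ Cfsg.suzukiOvoid F m, h • p = p
  · obtain ⟨p, hp, hhp⟩ := hfix
    rcases dich_of_fixed m h hp hhp with h4 | h4
    · exfalso
      have : r ∣ 2 ^ 2 := by rw [← ho]; exact orderOf_dvd_of_pow_eq_one h4
      exact hr2 ((Nat.prime_dvd_prime_iff_eq hr Nat.prime_two).mp (hr.dvd_of_dvd_pow this))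
    · exact h4
  · have hdiv : r ∣ Fintype.card F ^ 2 + 1 := by
      by_contra hnd
      exact hfix (exists_fixed m hr h (j := 1) (by rw [pow_one]; exact hr1) hnd)
    intro hdet
    obtain ⟨v, hv, hv0⟩ := Matrix.exists_mulVec_eq_zero_iff.mpr hdet
    apply hne
    apply Subtype.ext
    apply count_fix hr hr2 hdiv h.1 (congrArg Subtype.val hr1) v hv
    rw [Matrix.sub_mulVec, Matrix.one_mulVec, sub_eq_zero] at hv0
    exact hv0

/-- the dichotomy -/
theorem dichotomy (g : Cfsg.Sz F m) : g ^ 4 = 1 ∨ (mat m g - 1).det ≠ 0 := by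
  by_cases hfix : ∃ p ∈ Cfsg.suzukiOvoid F m, g • p = p
  · obtain ⟨p, hp, hgp⟩ := hfix
    exact dich_of_fixed m g hp hgp
  · right
    have hodd : ¬ 2 ∣ orderOf g := fun h => hfix (fixed_of_even m g h)
    have hn1 : orderOf g ≠ 1 := by
      intro h
      rw [orderOf_eq_one_iff] at h
      exact hfix ⟨Pinf, Pinf_mem m, by rw [h, one_smul]⟩
    set r := (orderOf g).minFac with hr
    have hrp : r.Prime := Nat.minFac_prime hn1
    have hrd : r ∣ orderOf g := Nat.minFac_dvd _
    have hr2 : r ≠ 2 := fun h => hodd (h ▸ hrd)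
    have ho : orderOf (g ^ (orderOf g / r)) = r := orderOf_pow_orderOf_div (orderOf_pos g).ne' hrd
    have hB := det_ne_of_prime m hrp hr2 _ ho
    intro hdet
    apply hB
    obtain ⟨v, hv, hv0⟩ := Matrix.exists_mulVec_eq_zero_iff.mpr hdet
    apply Matrix.exists_mulVec_eq_zero_iff.mp
    refine ⟨v, hv, ?_⟩
    rw [Matrix.sub_mulVec, Matrix.one_mulVec, sub_eq_zero] at hv0 ⊢
    have hgv : g.1 • v = v := hv0
    have : ∀ j : ℕ, (g.1 ^ j) • v = v := by
      intro j
      induction j with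
      | zero => simp
      | succ j ih => rw [pow_succ, mul_smul, hgv, ih]
    exact this _

theorem two_dvd_card : 2 ∣ Nat.card (Cfsg.Sz F m) := by
  rw [card_G, Hyp.hF (F := F) (m := m)]
  exact Dvd.dvd.mul_right (Dvd.dvd.mul_right (dvd_pow (dvd_pow_self _ (by omega)) (by norm_num)) _) _

theorem exists_large_samePG_Sz (N : ℕ) :
    ∃ (H : Type) (_ : Group H) (_ : Finite H), N < Nat.card H ∧
      SamePG (Cfsg.Lie.Sz F (2 ^ (m + 1))) H := by
  obtain ⟨H, i1, i2, ⟨e⟩⟩ := exists_type_zero (AffG (Cfsg.Sz F m) N)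
  refine ⟨H, i1, i2, ?_, ((SamePG.of_mulEquiv (lieEquiv (F := F) m).symm).trans
    (AffG.samePG (two_dvd_card m) (dichotomy m))).trans (SamePG.of_mulEquiv e)⟩
  rw [← Nat.card_congr e.toEquiv]
  exact AffG.lt_card (by norm_num)

end Cfsg.Agent.Lib.Helper19.Suz
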