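import Cfsg.Agent.Lib.Helper19.SuzT
import Cfsg.Agent.Lib.Helper19.SuzH

/-!
# Suzuki groups, part U: field automorphisms
-/

set_option autoImplicit false
set_option linter.style.haveILetI false
set_option linter.unusedSimpArgs false
set_option linter.unusedSectionVars false
open scoped Pointwise
open Matrix

namespace Cfsg.Agent.Lib.Helper19.Suz

theorem card_ringAut {F : Type*} [Field F] [Fintype F] (p n : ℕ) [hp : Fact p.Prime] [CharP F p]
    (hF : Fintype.card F = p ^ n) : Nat.card (F ≃+* F) = n := by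
  letI : Algebra (ZMod p) F := ZMod.algebra F p
  have e : (F ≃ₐ[ZMod p] F) ≃ (F ≃+* F) :=
    { toFun := fun f => f.toRingEquiv
      invFun := fun f => AlgEquiv.ofRingEquiv (f := f) (fun r => by
        have : (f : F →+* F).comp (algebraMap (ZMod p) F) = algebraMap (ZMod p) F := Subsingleton.elim _ _
        exact congrFun (congrArg DFunLike.coe this) r)
      left_inv := fun f => by ext; rfl
      right_inv := fun f => by ext; rfl }
  rw [← Nat.card_congr e, IsGalois.card_aut_eq_finrank]
  have h1 := Module.card_eq_pow_finrank (K := ZMod p) (V := F)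
  rw [ZMod.card, hF] at h1
  exact (Nat.pow_right_injective hp.out.two_le h1).symm

variable {F : Type*} [Field F] [Fintype F] [CharP F 2] (m : ℕ) [Hyp F m]

theorem sg_comm (τ : F →+* F) (x : F) : τ (sg F m x) = sg F m (τ x) := by
  rw [sg_apply, sg_apply, map_pow]

theorem map_T (τ : F →+* F) (a b : F) :
    Matrix.SpecialLinearGroup.map τ (T (sg F m) a b) = T (sg F m) (τ a) (τ b) := by
  apply Subtype.ext
  ext i j
  show τ (Tm (sg F m) a b i j) = Tm (sg F m) (τ a) (τ b) i j
  fin_cases i <;> fin_cases j <;> simp [Tm, sg_comm]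

theorem map_D (τ : F →+* F) (u : Fˣ) :
    Matrix.SpecialLinearGroup.map τ (D (sg F m) u) = D (sg F m) (Units.map (τ : F →* F) u) := by
  apply Subtype.ext
  ext i j
  show τ (Dm (sg F m) u i j) = Dm (sg F m) (Units.map (τ : F →* F) u) i j
  fin_cases i <;> fin_cases j <;> simp [Dm, sg_comm]

theorem map_W (τ : F →+* F) : Matrix.SpecialLinearGroup.map τ (W : SL4 F) = W := by
  apply Subtype.ext
  ext i j
  show τ (Wm i j) = Wm i j
  fin_cases i <;> fin_cases j <;> simp [Wm]

theorem map_mem (τ : F →+* F) (g : Cfsg.Sz F m) :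
    Matrix.SpecialLinearGroup.map τ (g : SL4 F) ∈ Cfsg.Sz F m := by
  by_cases h : g • (Pinf : PP F) = Pinf
  · obtain ⟨a, b, u, rfl⟩ := nf_inf m g h
    have : ((tG m a b * dG m u : Cfsg.Sz F m) : SL4 F) = T (sg F m) a b * D (sg F m) u := rfl
    rw [this, map_mul, map_T, map_D]
    exact mul_mem (T_mem _ _) (D_mem _)
  · obtain ⟨a, b, c, d, u, rfl⟩ := nf_ninf m g h
    have : ((tG m a b * wG m * (tG m c d * dG m u) : Cfsg.Sz F m) : SL4 F) =
        T (sg F m) a b * W * (T (sg F m) c d * D (sg F m) u) := rfl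
    rw [this, map_mul, map_mul, map_mul, map_T, map_T, map_D, map_W]
    exact mul_mem (mul_mem (T_mem _ _) W_mem) (mul_mem (T_mem _ _) (D_mem _))

/-- the endomorphism induced by a field endomorphism -/
def fHom (τ : F →+* F) : Cfsg.Sz F m →* Cfsg.Sz F m where
  toFun g := ⟨Matrix.SpecialLinearGroup.map τ (g : SL4 F), map_mem m τ g⟩
  map_one' := Subtype.ext (map_one _)
  map_mul' a b := Subtype.ext (map_mul _ _ _)

theorem fHom_t (τ : F →+* F) (a b : F) : fHom m τ (tG m a b) = tG m (τ a) (τ b) :=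
  Subtype.ext (map_T m τ a b)

theorem fHom_d (τ : F →+* F) (u : Fˣ) : fHom m τ (dG m u) = dG m (Units.map (τ : F →* F) u) :=
  Subtype.ext (map_D m τ u)

theorem fHom_w (τ : F →+* F) : fHom m τ (wG m) = wG m := Subtype.ext (map_W τ)

theorem fHom_injective (τ : F →+* F) : Function.Injective (fHom m τ) := by
  intro g h hgh
  have h1 : Matrix.SpecialLinearGroup.map τ (g : SL4 F) = Matrix.SpecialLinearGroup.map τ (h : SL4 F) :=
    congrArg Subtype.val hgh
  apply Subtype.ext
  apply Subtype.ext
  ext i j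
  have h2 : τ ((g : SL4 F).1 i j) = τ ((h : SL4 F).1 i j) :=
    congrFun (congrFun (congrArg Subtype.val h1) i) j
  exact τ.injective h2

/-- the field automorphism -/
noncomputable def fAut (τ : F →+* F) : MulAut (Cfsg.Sz F m) :=
  MulEquiv.ofBijective (fHom m τ) ⟨fHom_injective m τ, Finite.surjective_of_injective (fHom_injective m τ)⟩

theorem fAut_t (τ : F →+* F) (a b : F) : fAut m τ (tG m a b) = tG m (τ a) (τ b) := fHom_t m τ a b

theorem fAut_d (τ : F →+* F) (u : Fˣ) : fAut m τ (dG m u) = dG m (Units.map (τ : F →* F) u) := fHom_d m τ u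

theorem fAut_w (τ : F →+* F) : fAut m τ (wG m) = wG m := fHom_w m τ

end Cfsg.Agent.Lib.Helper19.Suz
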