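import Cfsg.Agent.Lib.Helper19.SuzU
import Cfsg.Agent.Lib.Helper19.SuzL
import Cfsg.Prelude.Def_KGroupFacts

/-!
# Suzuki groups, part V: every automorphism is inner times field
-/

set_option autoImplicit false
set_option linter.style.haveILetI false
set_option linter.unusedSimpArgs false
set_option linter.unusedSectionVars false
open scoped Pointwise
open Matrix

namespace Cfsg.Agent.Lib.Helper19.Suz

variable {F : Type*} [Field F] [Fintype F] [CharP F 2] (m : ℕ) [Hyp F m]

theorem mem_Bor_iff_conj {x : Cfsg.Sz F m} (hx : x ∈ Q (F := F) m) (hx1 : x ≠ 1) (g : Cfsg.Sz F m) :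
    g ∈ Bor (F := F) m ↔ g * x * g⁻¹ ∈ Q (F := F) m := by
  obtain ⟨a, b, rfl⟩ := hx
  constructor
  · intro hg
    obtain ⟨c, d, u, rfl⟩ := (mem_Bor m).mp hg
    rw [conj_td]
    exact ⟨_, _, rfl⟩
  · rintro ⟨a', b', h⟩
    have hne : tG m a' b' ≠ 1 := by
      rw [← h]
      intro h1
      apply hx1
      have : tG m a b = g⁻¹ * (g * tG m a b * g⁻¹) * g := by group
      rw [this, h1]; group
    have hfix : tG m a' b' • (g • (Pinf : PP F)) = g • Pinf := by
      rw [← h, ← mul_smul]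
      have : g * tG m a b * g⁻¹ * g = g * tG m a b := by group
      rw [this, mul_smul, tG_smul_Pinf]
    exact t_fix m (smul_mem_ovoid m g (Pinf_mem m)) hne hfix

/-- the automorphism preserves the standard Sylow 2-subgroup -/
def PQ (α : MulAut (Cfsg.Sz F m)) : Prop := ∀ x, α x ∈ Q (F := F) m ↔ x ∈ Q (F := F) m

variable {m}

theorem PQ.bor {α : MulAut (Cfsg.Sz F m)} (h : PQ m α) (g : Cfsg.Sz F m) :
    α g ∈ Bor (F := F) m ↔ g ∈ Bor (F := F) m := by
  have h1 : α (tG m 1 0) ∈ Q (F := F) m := (h _).mpr ⟨1, 0, rfl⟩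
  have h2 : α (tG m 1 0) ≠ 1 := by
    intro h3
    exact tG_one_ne m (α.injective (h3.trans (map_one α).symm))
  rw [mem_Bor_iff_conj m h1 h2, mem_Bor_iff_conj m ⟨1, 0, rfl⟩ (tG_one_ne m), ← map_inv, ← map_mul,
    ← map_mul, h]

theorem PQ.conj {α : MulAut (Cfsg.Sz F m)} (h : PQ m α) {b : Cfsg.Sz F m} (hb : b ∈ Bor (F := F) m) :
    PQ m (MulAut.conj b * α) := by
  intro x
  rw [← normalizer_Q, Subgroup.mem_normalizer_iff] at hb
  rw [MulAut.mul_apply, MulAut.conj_apply, ← hb, h]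

variable (m)

theorem eq_fAut_of (α : MulAut (Cfsg.Sz F m)) (τ : F →+* F)
    (hT : ∀ a b, α (tG m a b) = tG m (τ a) (τ b))
    (hD : ∀ u, α (dG m u) = dG m (Units.map (τ : F →* F) u))
    (hw : α (wG m) • (Pinf : PP F) = P (sg F m) 0 0) : α = fAut m τ := by
  have key : ∀ g, α g • (Pinf : PP F) = fAut m τ g • Pinf := by
    intro g
    by_cases h : g • (Pinf : PP F) = Pinf
    · obtain ⟨a, b, u, rfl⟩ := nf_inf m g h
      rw [map_mul, map_mul, hT, hD, fAut_t, fAut_d]
    · obtain ⟨a, b, c, d, u, rfl⟩ := nf_ninf m g h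
      simp only [map_mul, hT, hD, fAut_t, fAut_d, fAut_w, mul_smul, dG_smul_Pinf, tG_smul_Pinf, hw,
        wG_smul_Pinf]
  apply MulEquiv.ext
  intro g
  by_contra hne
  have h1 : (fAut m τ g)⁻¹ * α g ≠ 1 := by
    intro h
    exact hne (inv_mul_eq_one.mp h).symm
  obtain ⟨p, hp, hmv⟩ := exists_moved m h1
  rw [← orbit_Pinf] at hp
  obtain ⟨y, rfl⟩ := hp
  obtain ⟨x, rfl⟩ := α.surjective y
  apply hmv
  show ((fAut m τ g)⁻¹ * α g) • (α x • (Pinf : PP F)) = α x • (Pinf : PP F)
  rw [mul_smul, inv_smul_eq_iff, ← mul_smul, ← map_mul, key, map_mul, mul_smul, key]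

theorem tG_sq (a b : F) : tG m a b * tG m a b = tG m 0 (sg F m a * a) := by
  rw [tG_mul, CharTwo.add_self_eq_zero, CharTwo.add_self_eq_zero, zero_add]

theorem tG_split (a b : F) : tG m a b = tG m a 0 * tG m 0 b := by
  rw [tG_mul]; congr 1 <;> simp

theorem eq_fAut (α : MulAut (Cfsg.Sz F m)) (hQ : PQ m α)
    (hw : α (wG m) • (Pinf : PP F) = P (sg F m) 0 0)
    (h1 : ∃ k, α (tG m 1 0) = tG m 1 k) : ∃ τ : F →+* F, α = fAut m τ := by
  have hf : ∀ a : F, ∃ a' b', α (tG m a 0) = tG m a' b' := fun a => (hQ _).mpr ⟨a, 0, rfl⟩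
  choose f k hfk using hf
  have hg : ∀ b : F, ∃ b', α (tG m 0 b) = tG m 0 b' := by
    intro b
    obtain ⟨a, ha⟩ := (mul_sg_bijective (F := F) m).2 b
    simp only at ha
    refine ⟨sg F m (f a) * f a, ?_⟩
    rw [← ha, mul_comm a, ← tG_sq m a 0, map_mul, hfk, tG_sq]
  choose g hg using hg
  -- the torus
  have hw2 : α (wG m) • P (sg F m) 0 0 = (Pinf : PP F) := by
    rw [← hw, ← mul_smul, ← map_mul, wG_mul_wG, map_one, one_smul]
  have hρ : ∀ u : Fˣ, ∃ v, α (dG m u) = dG m v := by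
    intro u
    have hb : ∀ v : Fˣ, α (dG m v) • (Pinf : PP F) = Pinf := fun v =>
      (hQ.bor (dG m v)).mpr (dG_smul_Pinf m v)
    apply nf_two m _ (hb u)
    rw [← hw, ← mul_smul, ← map_mul]
    have : dG m u * wG m = wG m * dG m u⁻¹ := by rw [wG_mul_dG, inv_inv]
    rw [this, map_mul, mul_smul, hb]
  choose ρ hρ using hρ
  have E1 : ∀ a c, f (a + c) = f a + f c ∧
      k (a + c) + g (sg F m a * c) = k a + k c + sg F m (f a) * f c := by
    intro a c
    have h : tG m a 0 * tG m c 0 = tG m (a + c) 0 * tG m 0 (sg F m a * c) := by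
      rw [tG_mul, tG_mul]; congr 1 <;> simp
    have h2 := congrArg α h
    rw [map_mul, map_mul, hfk, hfk, hfk, hg, tG_mul, tG_mul] at h2
    obtain ⟨e1, e2⟩ := tG_inj m h2
    simp only [add_zero, mul_zero] at e1 e2
    exact ⟨e1.symm, e2.symm⟩
  have E2 : ∀ b c, g (b + c) = g b + g c := by
    intro b c
    have h2 := congrArg α (tG_zero_mul m b c)
    rw [map_mul, hg, hg, hg, tG_zero_mul] at h2
    exact (tG_inj m h2).2.symm
  have E3 : ∀ (u : Fˣ) a, f (sg F m u * a) = sg F m (ρ u) * f a ∧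
      k (sg F m u * a) = (ρ u : F) ^ 2 * sg F m (ρ u) * k a := by
    intro u a
    have h2 := congrArg α (dG_mul_tG m u a 0)
    rw [mul_zero, map_mul, map_mul, hρ, hfk, hfk, dG_mul_tG] at h2
    obtain ⟨e1, e2⟩ := tG_inj m (mul_right_cancel h2)
    exact ⟨e1.symm, e2.symm⟩
  have E4 : ∀ (u : Fˣ) b, g ((u : F) ^ 2 * sg F m u * b) = (ρ u : F) ^ 2 * sg F m (ρ u) * g b := by
    intro u b
    have h2 := congrArg α (dG_mul_tG m u 0 b)
    rw [mul_zero, map_mul, map_mul, hρ, hg, hg, dG_mul_tG] at h2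
    exact (tG_inj m (mul_right_cancel h2)).2.symm
  have E5 : ∀ a, g (sg F m a * a) = sg F m (f a) * f a := by
    intro a
    have h2 := congrArg α (tG_sq m a 0)
    rw [map_mul, hfk, hg, tG_sq] at h2
    exact (tG_inj m h2).2.symm
  have E6 : f 1 = 1 := by
    obtain ⟨k', hk'⟩ := h1
    rw [hfk] at hk'
    exact (tG_inj m hk').1
  have f0 : f 0 = 0 := by
    have := (E1 0 0).1
    rw [add_zero] at this
    exact (add_eq_left.mp this.symm)
  have g0 : g 0 = 0 := by
    have := E2 0 0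
    rw [add_zero] at this
    exact (add_eq_left.mp this.symm)
  have fs : ∀ u : Fˣ, f (sg F m u) = sg F m (ρ u) := by
    intro u
    have := (E3 u 1).1
    rwa [mul_one, E6, mul_one] at this
  have fmul : ∀ x a, f (x * a) = f x * f a := by
    intro x a
    by_cases hx : x = 0
    · subst hx; rw [zero_mul, f0, zero_mul]
    · obtain ⟨y, rfl⟩ := sg_surjective (F := F) m x
      have hy : y ≠ 0 := by rintro rfl; exact hx (map_zero _)
      have := (E3 (Units.mk0 y hy) a).1
      rw [← fs] at this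
      exact this
  let τ : F →+* F :=
    { toFun := f
      map_one' := E6
      map_mul' := fmul
      map_zero' := f0
      map_add' := fun a c => (E1 a c).1 }
  have hτ : ∀ x, f x = τ x := fun _ => rfl
  have hρτ : ∀ u : Fˣ, (ρ u : F) = τ u := by
    intro u
    apply (sg F m).injective
    rw [← fs, hτ, sg_comm]
  have g1 : g 1 = 1 := by
    have := E5 1
    rwa [map_one, mul_one, E6, map_one, mul_one] at this
  have hgτ : ∀ l, g l = τ l := by
    intro l
    by_cases hl : l = 0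
    · subst hl; rw [g0, map_zero]
    · obtain ⟨u, rfl⟩ := exists_lam (F := F) m hl
      have := E4 u 1
      rw [mul_one, g1, mul_one, hρτ] at this
      rw [this, map_mul, map_pow, sg_comm]
  have kadd : ∀ a c, k (a + c) = k a + k c := by
    intro a c
    have := (E1 a c).2
    rw [hgτ, hτ, hτ, map_mul, sg_comm] at this
    exact add_right_cancel this
  have k0 : k 0 = 0 := by
    have := kadd 0 0
    rw [add_zero] at this
    exact (add_eq_left.mp this.symm)
  have kx : ∀ x, k x = τ (sg F m x * x) * k 1 := by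
    intro x
    by_cases hx : x = 0
    · subst hx; rw [k0, mul_zero, map_zero, zero_mul]
    · obtain ⟨y, rfl⟩ := sg_surjective (F := F) m x
      have hy : y ≠ 0 := by rintro rfl; exact hx (map_zero _)
      have := (E3 (Units.mk0 y hy) 1).2
      rw [mul_one, hρτ] at this
      rw [Units.val_mk0] at this
      rw [this, sg_sg, map_mul, map_pow, sg_comm]
  have k1 : k 1 = 0 := by
    obtain ⟨a, c, hac⟩ := exists_comm (F := F) m 1
    have h := kadd a c
    rw [kx (a + c), kx a, kx c, ← add_mul] at h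
    have h3 : sg F m (a + c) * (a + c) = (sg F m a * a + sg F m c * c) + 1 := by
      rw [← hac, map_add]; ring
    rw [h3, map_add, map_add, map_one, add_mul, one_mul] at h
    exact add_eq_left.mp h
  have kz : ∀ x, k x = 0 := fun x => by rw [kx, k1, mul_zero]
  refine ⟨τ, eq_fAut_of m α τ ?_ ?_ hw⟩
  · intro a b
    rw [tG_split, map_mul, hfk, hg, kz, hgτ, ← tG_split, hτ]
  · intro u
    rw [hρ]
    congr 1
    apply Units.ext
    rw [hρτ]
    rfl

/-- inner times field -/
def Good (α : MulAut (Cfsg.Sz F m)) : Prop := ∃ (g : Cfsg.Sz F m) (τ : F →+* F), α = MulAut.conj g * fAut m τ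

variable {m}

theorem Good.of_conj {α : MulAut (Cfsg.Sz F m)} (g : Cfsg.Sz F m) (h : Good m (MulAut.conj g * α)) :
    Good m α := by
  obtain ⟨h, τ, e⟩ := h
  refine ⟨g⁻¹ * h, τ, ?_⟩
  rw [map_mul, map_inv, mul_assoc, ← e, inv_mul_cancel_left]

variable (m)

theorem good3 (α : MulAut (Cfsg.Sz F m)) (hQ : PQ m α)
    (hw : α (wG m) • (Pinf : PP F) = P (sg F m) 0 0) : Good m α := by
  obtain ⟨a', b', hab⟩ : α (tG m 1 0) ∈ Q (F := F) m := (hQ _).mpr ⟨1, 0, rfl⟩
  have ha' : a' ≠ 0 := by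
    rintro rfl
    have h2 := congrArg α (tG_sq m (1 : F) 0)
    rw [map_mul, hab, tG_sq, map_zero, zero_mul, tG_zero, ← map_one α] at h2
    have h3 := α.injective h2
    rw [← tG_zero m] at h3
    have := (tG_inj m h3).2
    simp at this
  obtain ⟨v, hv⟩ := sg_surjective (F := F) m a'⁻¹
  have hv0 : v ≠ 0 := by
    rintro rfl
    rw [map_zero] at hv
    exact ha' (inv_eq_zero.mp hv.symm)
  apply Good.of_conj (dG m (Units.mk0 v hv0))
  have hd : dG m (Units.mk0 v hv0) ∈ Bor (F := F) m := dG_smul_Pinf m _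
  obtain ⟨τ, hτ⟩ := eq_fAut m (MulAut.conj (dG m (Units.mk0 v hv0)) * α) (hQ.conj hd) (by
    rw [MulAut.mul_apply, MulAut.conj_apply, mul_smul, mul_smul, dG_inv, dG_smul_Pinf, hw,
      dG_smul_P, mul_zero, mul_zero]) (by
    rw [MulAut.mul_apply, MulAut.conj_apply, hab, dG_mul_tG, mul_assoc, mul_inv_cancel, mul_one,
      Units.val_mk0, hv, inv_mul_cancel₀ ha']
    exact ⟨_, rfl⟩)
  exact ⟨1, τ, by rw [hτ, map_one, one_mul]⟩

theorem good2 (α : MulAut (Cfsg.Sz F m)) (hQ : PQ m α) : Good m α := by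
  have h1 : α (wG m) ∉ Bor (F := F) m := by
    rw [hQ.bor]
    intro h
    have h2 : wG m • (Pinf : PP F) = Pinf := h
    rw [wG_smul_Pinf] at h2
    exact P_ne_Pinf _ _ _ h2
  have hmem := smul_mem_ovoid m (α (wG m)) (Pinf_mem m)
  rw [mem_ovoid_iff] at hmem
  rcases hmem with h | ⟨a, b, h⟩
  · exact absurd h h1
  · apply Good.of_conj (tG m a b)⁻¹
    have ht : (tG m a b)⁻¹ ∈ Bor (F := F) m := inv_mem (tG_smul_Pinf m a b)
    apply good3 m _ (hQ.conj ht)
    rw [MulAut.mul_apply, MulAut.conj_apply, inv_inv, mul_smul, mul_smul, tG_smul_Pinf, h,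
      inv_smul_eq_iff, tG_smul_P]
    simp

theorem good1 (α : MulAut (Cfsg.Sz F m)) : Good m α := by
  obtain ⟨k, hk⟩ := exists_conj_QS m (α • (QS m : Sylow 2 (Cfsg.Sz F m)))
  apply Good.of_conj k⁻¹
  apply good2
  intro x
  have h1 : α x ∈ ((α • QS m : Sylow 2 (Cfsg.Sz F m)) : Subgroup (Cfsg.Sz F m)) ↔ x ∈ Q (F := F) m := by
    rw [Sylow.pointwise_smul_def, coe_QS]
    exact Subgroup.smul_mem_pointwise_smul_iff (a := α) (S := Q (F := F) m) (x := x)
  rw [← h1, hk, MulAut.mul_apply, MulAut.conj_apply, inv_inv]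
  constructor
  · intro h
    exact ⟨_, h, by simp [MulAut.conj_apply]; group⟩
  · rintro ⟨y, hy, hyx⟩
    have : α x = k * y * k⁻¹ := hyx.symm
    rw [this]
    have : k⁻¹ * (k * y * k⁻¹) * k = y := by group
    rw [this]
    exact hy

theorem fAut_inj_mod (σ τ : F →+* F) (h : Cfsg.Sz F m) (e : fAut m τ = MulAut.conj h * fAut m σ) :
    σ = τ := by
  have e1 : ∀ x, fAut m τ x * h = h * fAut m σ x := by
    intro x
    rw [e, MulAut.mul_apply, MulAut.conj_apply]; group
  have h1 : h • (Pinf : PP F) = Pinf := by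
    apply t_fix m (a := 1) (b := 0) (smul_mem_ovoid m h (Pinf_mem m)) (tG_one_ne m)
    have := e1 (tG m 1 0)
    rw [fAut_t, fAut_t, map_one, map_zero, map_one, map_zero] at this
    rw [← mul_smul, this, mul_smul, tG_smul_Pinf]
  have h0 : h • P (sg F m) 0 0 = P (sg F m) 0 0 := by
    have := e1 (wG m)
    rw [fAut_w, fAut_w] at this
    rw [← wG_smul_Pinf, ← mul_smul, ← this, mul_smul, h1]
  obtain ⟨v, rfl⟩ := nf_two m h h1 h0
  have e2 : ∀ a, τ a = sg F m v * σ a := by
    intro a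
    have := e1 (tG m a 0)
    rw [fAut_t, fAut_t, dG_mul_tG] at this
    exact (tG_inj m (mul_right_cancel this)).1
  have hv : sg F m v = 1 := by
    have := e2 1
    rw [map_one, map_one, mul_one] at this
    exact this.symm
  ext a
  rw [e2, hv, one_mul]

theorem card_Out_congr {G H : Type*} [Group G] [Group H] (e : G ≃* H) :
    Nat.card (Cfsg.Out G) = Nat.card (Cfsg.Out H) := by
  have he : (Cfsg.Inn G).map ((MulAut.congr e : MulAut G ≃* MulAut H) : MulAut G →* MulAut H)
      = Cfsg.Inn H := by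
    have hc : ∀ g : G, MulAut.congr e (MulAut.conj g) = MulAut.conj (e g) := by
      intro g
      apply MulEquiv.ext
      intro y
      simp [MulAut.congr, MulAut.conj_apply]
    ext β
    constructor
    · rintro ⟨_, ⟨g, rfl⟩, rfl⟩
      exact ⟨e g, (hc g).symm⟩
    · rintro ⟨h, rfl⟩
      refine ⟨MulAut.conj (e.symm h), ⟨_, rfl⟩, ?_⟩
      have := hc (e.symm h)
      rw [e.apply_symm_apply] at this
      exact this
  exact Nat.card_congr (QuotientGroup.congr (Cfsg.Inn G) (Cfsg.Inn H) (MulAut.congr e) he).toEquiv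

theorem card_Out_Sz : Nat.card (Cfsg.Out (Cfsg.Sz F m)) = 2 * m + 1 := by
  haveI : Fact (Nat.Prime 2) := ⟨Nat.prime_two⟩
  rw [← card_ringAut (F := F) 2 (2 * m + 1) (Hyp.hF (F := F) (m := m))]
  symm
  apply Nat.card_congr
  refine Equiv.ofBijective
    (fun τ : F ≃+* F => (QuotientGroup.mk (fAut m (τ : F →+* F)) : Cfsg.Out (Cfsg.Sz F m))) ⟨?_, ?_⟩
  · intro σ τ h
    simp only at h
    rw [QuotientGroup.eq] at h
    obtain ⟨g, hg⟩ := h
    have e : fAut m (τ : F →+* F) = MulAut.conj (fAut m (σ : F →+* F) g) * fAut m (σ : F →+* F) := by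
      have : fAut m (τ : F →+* F) = fAut m (σ : F →+* F) * MulAut.conj g := by
        rw [hg]; group
      rw [this]
      apply MulEquiv.ext
      intro x
      simp [MulAut.mul_apply, MulAut.conj_apply]
    have := fAut_inj_mod m _ _ _ e
    exact RingEquiv.coe_ringHom_inj_iff σ τ |>.mpr this
  · intro q
    obtain ⟨α, rfl⟩ := QuotientGroup.mk_surjective q
    obtain ⟨g, τ, rfl⟩ := good1 m α
    have hb : Function.Bijective τ := ⟨τ.injective, Finite.surjective_of_injective τ.injective⟩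
    refine ⟨RingEquiv.ofBijective τ hb, ?_⟩
    simp only
    rw [QuotientGroup.eq]
    have : ((RingEquiv.ofBijective τ hb : F ≃+* F) : F →+* F) = τ := by ext; rfl
    rw [this, ← mul_assoc]
    exact (Cfsg.innNormal _).conj_mem' _ ⟨g, rfl⟩ _

theorem card_Out_lieSz : Nat.card (Cfsg.Out ↥(Cfsg.Lie.Sz F (2 ^ (m + 1)))) = 2 * m + 1 := by
  rw [← card_Out_congr (lieEquiv (F := F) m), card_Out_Sz]

end Cfsg.Agent.Lib.Helper19.Suz
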