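import Mathlib

set_option autoImplicit false
set_option linter.style.haveILetI false
set_option linter.unusedSectionVars false

/-! Three primes across a normal chain are not pairwise non-adjacent in the prime graph. -/

namespace Cfsg.Agent.Lib.Helper19

open scoped IsMulCommutative
open scoped commutatorElement

theorem exists_pow_orderOf_eq_prime {G : Type*} [Group G] {p : ℕ} (hp : p.Prime) {x : G} (hx : x ≠ 1)
    {k : ℕ} (hk : x ^ (p ^ k) = 1) : ∃ j : ℕ, orderOf (x ^ j) = p := by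
  have hd : orderOf x ∣ p ^ k := orderOf_dvd_of_pow_eq_one hk
  have hne : orderOf x ≠ 1 := by rwa [Ne, orderOf_eq_one_iff]
  have hpos : orderOf x ≠ 0 := by
    intro h0
    rw [h0, zero_dvd_iff] at hd
    exact (pow_ne_zero k hp.ne_zero) hd
  obtain ⟨q, hq, hqd⟩ := Nat.exists_prime_and_dvd hne
  have hqp : q = p := (Nat.prime_dvd_prime_iff_eq hq hp).mp (hq.dvd_of_dvd_pow (hqd.trans hd))
  subst hqp
  exact ⟨orderOf x / q, orderOf_pow_orderOf_div hpos hqd⟩

/-- commuting nontrivial `p`- and `q`-elements give an element of order `p * q`. -/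
theorem exists_orderOf_mul {G : Type*} [Group G] {p q : ℕ} (hp : p.Prime) (hq : q.Prime)
    (hpq : p ≠ q) {a b : G} (hab : Commute a b) (ha : a ≠ 1) (hb : b ≠ 1) {k l : ℕ}
    (hak : a ^ (p ^ k) = 1) (hbl : b ^ (q ^ l) = 1) : ∃ z : G, orderOf z = p * q := by
  obtain ⟨i, hi⟩ := exists_pow_orderOf_eq_prime hp ha hak
  obtain ⟨j, hj⟩ := exists_pow_orderOf_eq_prime hq hb hbl
  refine ⟨a ^ i * b ^ j, ?_⟩
  have hc : Commute (a ^ i) (b ^ j) := hab.pow_pow i j
  rw [hc.orderOf_mul_eq_mul_orderOf_of_coprime (by rw [hi, hj]; exact (Nat.coprime_primes hp hq).mpr hpq),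
    hi, hj]

section LemmaA

variable {G : Type*} [Group G] [Finite G]

theorem pow_mem_coset (Q : Subgroup G) (y : G) (hyQ : y ∈ Subgroup.normalizer (Q : Set G))
    (u : G) (hu : u ∈ Q) (i : ℕ) : (y ^ i)⁻¹ * (y * u) ^ i ∈ Q := by
  induction i with
  | zero => simp
  | succ i ih =>
    have h1 : y⁻¹ * ((y ^ i)⁻¹ * (y * u) ^ i) * y ∈ Q :=
      (Subgroup.mem_normalizer_iff''.mp hyQ _).mp ih
    have : (y ^ (i + 1))⁻¹ * (y * u) ^ (i + 1) = (y⁻¹ * ((y ^ i)⁻¹ * (y * u) ^ i) * y) * u := by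
      rw [pow_succ, pow_succ]
      group
    rw [this]
    exact Q.mul_mem h1 hu

/-- The key averaging lemma. -/
theorem lemmaA (V Q : Subgroup G) (y : G) (hVab : IsMulCommutative V)
    (hQV : Q ≤ Subgroup.normalizer (V : Set G)) (hyV : y ∈ Subgroup.normalizer (V : Set G))
    (hyQ : y ∈ Subgroup.normalizer (Q : Set G)) (r : ℕ) (hr : r.Prime)
    (H1 : ∀ v ∈ V, (∀ u ∈ Q, u * v = v * u) → v = 1)
    (H2 : ∀ u ∈ Q, (y * u) ^ r = 1)
    (H3 : ∀ u ∈ Q, ∀ v ∈ V, (y * u) * v = v * (y * u) → v = 1) :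
    ∀ v ∈ V, v ^ Nat.card Q = 1 := by
  classical
  haveI := hVab
  letI : Fintype Q := Fintype.ofFinite Q
  set N := Subgroup.normalizer (V : Set G) with hN
  let f : V → G → V := fun v g => if h : g ∈ N then (⟨g, h⟩ : N) • v else 1
  have hfmul : ∀ (v : V) (b g : G) (hb : b ∈ N), g ∈ N → (⟨b, hb⟩ : N) • f v g = f v (b * g) := by
    intro v b g hb hg
    simp only [f, dif_pos hg, dif_pos (N.mul_mem hb hg)]
    rw [smul_smul]
    rfl
  have hf1 : ∀ v : V, f v 1 = v := by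
    intro v
    simp only [f, dif_pos N.one_mem]
    exact one_smul N v
  have hcomm_of_fix : ∀ (b : G) (hb : b ∈ N) (w : V), (⟨b, hb⟩ : N) • w = w → b * (w : G) = (w : G) * b := by
    intro b hb w hw
    have h2 : b * (w : G) * b⁻¹ = (w : G) := congrArg Subtype.val hw
    calc b * (w : G) = (b * (w : G) * b⁻¹) * b := by group
      _ = (w : G) * b := by rw [h2]
  intro v0 hv0
  set v : V := ⟨v0, hv0⟩ with hv
  -- the product over Q is trivial
  have hPQ : ∏ u : Q, f v (u : G) = 1 := by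
    have hfix : ∀ b : Q, (⟨(b : G), hQV b.2⟩ : N) • (∏ u : Q, f v (u : G)) = ∏ u : Q, f v (u : G) := by
      intro b
      rw [Finset.smul_prod']
      have : ∀ u : Q, (⟨(b : G), hQV b.2⟩ : N) • f v (u : G) = f v (((b * u : Q)) : G) := by
        intro u
        exact hfmul v b u (hQV b.2) (hQV u.2)
      simp_rw [this]
      exact Fintype.prod_equiv (Equiv.mulLeft b) _ _ (fun u => rfl)
    have := H1 ((∏ u : Q, f v (u : G) : V) : G) (∏ u : Q, f v (u : G) : V).2
      (fun u hu => hcomm_of_fix u (hQV hu) _ (hfix ⟨u, hu⟩))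
    ext; exact this
  have hyuN : ∀ u : Q, y * (u : G) ∈ N := fun u => N.mul_mem hyV (hQV u.2)
  -- the inner products are trivial
  have hX : ∀ u : Q, ∏ i ∈ Finset.range r, f v ((y * (u : G)) ^ i) = 1 := by
    intro u
    set g := y * (u : G) with hg
    have hgN : g ∈ N := hyuN u
    have hfix : (⟨g, hgN⟩ : N) • (∏ i ∈ Finset.range r, f v (g ^ i)) = ∏ i ∈ Finset.range r, f v (g ^ i) := by
      rw [Finset.smul_prod']
      have : ∀ i : ℕ, (⟨g, hgN⟩ : N) • f v (g ^ i) = f v (g ^ (i + 1)) := by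
        intro i
        rw [hfmul v g (g ^ i) hgN (N.pow_mem hgN i), pow_succ']
      simp_rw [this]
      have e1 := Finset.prod_range_succ (fun i => f v (g ^ i)) r
      have e2 := Finset.prod_range_succ' (fun i => f v (g ^ i)) r
      rw [e1] at e2
      have hgr : g ^ r = 1 := H2 u u.2
      simp only [hgr, pow_zero] at e2
      exact (mul_right_cancel e2).symm
    have := H3 u u.2 _ (∏ i ∈ Finset.range r, f v (g ^ i) : V).2 (hcomm_of_fix g hgN _ hfix)
    ext; exact this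
  have hT : ∏ u : Q, ∏ i ∈ Finset.range r, f v ((y * (u : G)) ^ i) = 1 :=
    Finset.prod_eq_one (fun u _ => hX u)
  rw [Finset.prod_comm] at hT
  -- evaluate the other way
  have hY : ∀ i ∈ Finset.range r, i ≠ 0 → ∏ u : Q, f v ((y * (u : G)) ^ i) = 1 := by
    intro i hi hi0
    rw [Finset.mem_range] at hi
    let φ : Q → Q := fun u => ⟨(y ^ i)⁻¹ * (y * (u : G)) ^ i, pow_mem_coset Q y hyQ u u.2 i⟩
    have hφ : ∀ u : Q, (y * (u : G)) ^ i = y ^ i * (φ u : G) := by
      intro u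
      simp [φ]
    have hinj : Function.Injective φ := by
      intro u u' huu
      have h1 : (y * (u : G)) ^ i = (y * (u' : G)) ^ i := by rw [hφ, hφ, huu]
      have hcop : Nat.Coprime i r := by
        rw [Nat.coprime_comm]
        exact (Nat.Prime.coprime_iff_not_dvd hr).mpr (fun hd => by
          have := Nat.le_of_dvd (Nat.pos_of_ne_zero hi0) hd
          omega)
      obtain ⟨m, -, hm⟩ := Nat.exists_mul_mod_eq_one_of_coprime hcop hr.one_lt
      have h2 : ∀ w : Q, ((y * (w : G)) ^ i) ^ m = y * (w : G) := by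
        intro w
        rw [← pow_mul, pow_eq_pow_mod (i * m) (H2 w w.2), hm, pow_one]
      have h3 : y * (u : G) = y * (u' : G) := by rw [← h2 u, ← h2 u', h1]
      exact Subtype.ext (mul_left_cancel h3)
    have hbij : Function.Bijective φ := Finite.injective_iff_bijective.mp hinj
    simp_rw [hφ]
    rw [hbij.prod_comp (fun u : Q => f v (y ^ i * (u : G)))]
    have hyi : y ^ i ∈ N := N.pow_mem hyV i
    have : ∀ u : Q, f v (y ^ i * (u : G)) = (⟨y ^ i, hyi⟩ : N) • f v (u : G) :=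
      fun u => (hfmul v (y ^ i) u hyi (hQV u.2)).symm
    simp_rw [this]
    rw [← Finset.smul_prod', hPQ, smul_one]
  rw [Finset.prod_eq_single 0 hY (fun h => absurd (Finset.mem_range.mpr hr.pos) h)] at hT
  simp only [pow_zero, hf1, Finset.prod_const, Finset.card_univ] at hT
  rw [Nat.card_eq_fintype_card]
  have h9 := congrArg Subtype.val hT
  simpa [hv] using h9

end LemmaA

section T2

variable {G : Type*} [Group G] [Finite G]

theorem prime_not_dvd_pow_of_ne {q r : ℕ} (hq : q.Prime) (hr : r.Prime) (hqr : q ≠ r) (l : ℕ) :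
    ¬ r ∣ q ^ l := by
  intro h
  exact hqr ((Nat.prime_dvd_prime_iff_eq hr hq).mp (hr.dvd_of_dvd_pow h)).symm

theorem three_primes_abelian (V M : Subgroup G) [V.Normal] [M.Normal]
    (hVab : IsMulCommutative V) (hV : V ≠ ⊥) (p q r : ℕ) (hp : p.Prime) (hq : q.Prime)
    (hr : r.Prime) (hpq : p ≠ q) (hpr : p ≠ r) (hqr : q ≠ r) (hVp : IsPGroup p V)
    (hqM : q ∣ Nat.card M) (hrM : r ∣ M.index) :
    (∃ x : G, orderOf x = p * q) ∨ (∃ x : G, orderOf x = p * r) ∨ (∃ x : G, orderOf x = q * r) := by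
  classical
  by_contra hcon
  push Not at hcon
  obtain ⟨h1, h2, h3⟩ := hcon
  haveI : Fact q.Prime := ⟨hq⟩
  haveI : Fact r.Prime := ⟨hr⟩
  obtain ⟨Q0⟩ : Nonempty (Sylow q M) := inferInstance
  set Q : Subgroup G := (Q0 : Subgroup M).map M.subtype with hQ
  have hQ0ne : (Q0 : Subgroup M) ≠ ⊥ := Sylow.ne_bot_of_dvd_card Q0 hqM
  have hfr : Subgroup.normalizer (Q : Set G) ⊔ M = ⊤ := Sylow.normalizer_sup_eq_top Q0
  have hQp : IsPGroup q Q := Q0.2.map _
  have hQpow : ∀ u ∈ Q, ∃ k : ℕ, u ^ (q ^ k) = 1 := by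
    intro u hu
    obtain ⟨k, hk⟩ := hQp ⟨u, hu⟩
    exact ⟨k, by simpa using congrArg Subtype.val hk⟩
  have hVpow : ∀ v ∈ V, ∃ k : ℕ, v ^ (p ^ k) = 1 := by
    intro u hu
    obtain ⟨k, hk⟩ := hVp ⟨u, hu⟩
    exact ⟨k, by simpa using congrArg Subtype.val hk⟩
  have hQne : ∃ u ∈ Q, u ≠ 1 := by
    obtain ⟨u, hu, hu1⟩ := (Subgroup.ne_bot_iff_exists_ne_one).mp hQ0ne |>.elim
      (fun u hu => (⟨u.1, u.2, fun h => hu (Subtype.ext h)⟩ : ∃ u : M, u ∈ (Q0 : Subgroup M) ∧ u ≠ 1))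
    exact ⟨(u : G), ⟨u, hu, rfl⟩, fun h => hu1 (Subtype.ext h)⟩
  have hrN : r ∣ Nat.card (Subgroup.normalizer (Q : Set G)) := by
    have e1 : M.relIndex (Subgroup.normalizer (Q : Set G)) = M.index := by
      rw [← Subgroup.relIndex_sup_right, hfr, Subgroup.relIndex_top_right]
    exact (e1 ▸ hrM).trans (Subgroup.relIndex_dvd_card _ _)
  obtain ⟨y0, hy0⟩ := exists_prime_orderOf_dvd_card' r hrN
  set y : G := (y0 : G) with hy
  have hyQ : y ∈ Subgroup.normalizer (Q : Set G) := y0.2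
  have hyr : orderOf y = r := by rw [hy, Subgroup.orderOf_coe, hy0]
  have hyr1 : y ^ r = 1 := by rw [← hyr]; exact pow_orderOf_eq_one y
  have hNV : Subgroup.normalizer (V : Set G) = ⊤ := Subgroup.normalizer_eq_top_iff.mpr inferInstance
  -- no power `y ^ (q ^ k)` lies in `Q`
  have hynot : ∀ k : ℕ, y ^ (q ^ k) ∉ Q := by
    intro k hk
    obtain ⟨l, hl⟩ := hQpow _ hk
    rw [← pow_mul, ← pow_add] at hl
    have := orderOf_dvd_of_pow_eq_one hl
    rw [hyr] at this
    exact prime_not_dvd_pow_of_ne hq hr hqr _ this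
  have H1 : ∀ v ∈ V, (∀ u ∈ Q, u * v = v * u) → v = 1 := by
    intro v hv hcomm
    by_contra hv1
    obtain ⟨u, hu, hu1⟩ := hQne
    obtain ⟨k, hk⟩ := hVpow v hv
    obtain ⟨l, hl⟩ := hQpow u hu
    obtain ⟨z, hz⟩ := exists_orderOf_mul hp hq hpq (a := v) (b := u) (hcomm u hu).symm hv1 hu1 hk hl
    exact h1 z hz
  have H2 : ∀ u ∈ Q, (y * u) ^ r = 1 := by
    intro u hu
    by_contra ha1
    have haQ : (y * u) ^ r ∈ Q := by
      have := pow_mem_coset Q y hyQ u hu r
      rwa [hyr1, inv_one, one_mul] at this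
    obtain ⟨k, hk⟩ := hQpow _ haQ
    have hb1 : (y * u) ^ (q ^ k) ≠ 1 := by
      intro hb
      have := pow_mem_coset Q y hyQ u hu (q ^ k)
      rw [hb, mul_one] at this
      exact hynot k (by simpa using Q.inv_mem this)
    have hbr : ((y * u) ^ (q ^ k)) ^ (r ^ 1) = 1 := by
      rw [pow_one, ← pow_mul, mul_comm, pow_mul]
      exact hk
    obtain ⟨z, hz⟩ := exists_orderOf_mul hq hr hqr (a := (y * u) ^ r) (b := (y * u) ^ (q ^ k))
      ((Commute.refl (y * u)).pow_pow _ _) ha1 hb1 hk hbr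
    exact h3 z hz
  have H3 : ∀ u ∈ Q, ∀ v ∈ V, (y * u) * v = v * (y * u) → v = 1 := by
    intro u hu v hv hcomm
    by_contra hv1
    obtain ⟨k, hk⟩ := hVpow v hv
    have hg1 : y * u ≠ 1 := by
      intro hg
      have hyu : y = u⁻¹ := eq_inv_of_mul_eq_one_left hg
      apply hynot 0
      rw [pow_zero, pow_one, hyu]
      exact Q.inv_mem hu
    have hgr : (y * u) ^ (r ^ 1) = 1 := by rw [pow_one]; exact H2 u hu
    obtain ⟨z, hz⟩ := exists_orderOf_mul hp hr hpr (a := v) (b := y * u) hcomm.symm hv1 hg1 hk hgr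
    exact h2 z hz
  have hA := lemmaA V Q y hVab (by rw [hNV]; exact le_top) (by rw [hNV]; trivial) hyQ r hr H1 H2 H3
  apply hV
  rw [Subgroup.eq_bot_iff_forall]
  intro v hv
  obtain ⟨k, hk⟩ := hVpow v hv
  obtain ⟨n, hn⟩ := (IsPGroup.iff_card).mp hQp
  have h5 := hA v hv
  rw [hn] at h5
  have hd1 := orderOf_dvd_of_pow_eq_one hk
  have hd2 := orderOf_dvd_of_pow_eq_one h5
  have hcop : Nat.Coprime (p ^ k) (q ^ n) := Nat.Coprime.pow _ _ ((Nat.coprime_primes hp hq).mpr hpq)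
  have := Nat.eq_one_of_dvd_coprimes hcop hd1 hd2
  exact orderOf_eq_one_iff.mp this

end T2

section T3

variable {G : Type*} [Group G] [Finite G]

/-- index version of the three primes lemma. -/
theorem three_primes_chain (K M : Subgroup G) [K.Normal] [M.Normal] (hKM : K ≤ M)
    (p q r : ℕ) (hp : p.Prime) (hq : q.Prime) (hr : r.Prime) (hpq : p ≠ q) (hpr : p ≠ r)
    (hqr : q ≠ r) (hpK : p ∣ Nat.card K) (hqM : q ∣ K.relIndex M) (hrG : r ∣ M.index) :
    (∃ x : G, orderOf x = p * q) ∨ (∃ x : G, orderOf x = p * r) ∨ (∃ x : G, orderOf x = q * r) := by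
  classical
  haveI : Fact p.Prime := ⟨hp⟩
  obtain ⟨P0⟩ : Nonempty (Sylow p K) := inferInstance
  set P : Subgroup G := (P0 : Subgroup K).map K.subtype with hP
  have hP0ne : (P0 : Subgroup K) ≠ ⊥ := Sylow.ne_bot_of_dvd_card P0 hpK
  set N : Subgroup G := Subgroup.normalizer (P : Set G) with hN
  have hfr : N ⊔ K = ⊤ := Sylow.normalizer_sup_eq_top P0
  have hPp : IsPGroup p P := P0.2.map _
  have hPne : P ≠ ⊥ := by
    intro h
    apply hP0ne
    rw [hP] at h
    exact (Subgroup.map_eq_bot_iff_of_injective _ K.subtype_injective).mp h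
  set V0 : Subgroup G := P ⊓ Subgroup.centralizer (P : Set G) with hV0
  have hV0mem : ∀ v, v ∈ V0 ↔ v ∈ P ∧ ∀ h ∈ P, h * v = v * h := by
    intro v
    rw [hV0, Subgroup.mem_inf, Subgroup.mem_centralizer_iff]
    rfl
  have hV0ne : V0 ≠ ⊥ := by
    haveI : Nontrivial P := (Subgroup.nontrivial_iff_ne_bot P).mpr hPne
    haveI : Nontrivial (Subgroup.center P) := hPp.center_nontrivial
    obtain ⟨z, hz⟩ := exists_ne (1 : Subgroup.center P)
    intro hbot
    apply hz
    have hzmem : ((z : P) : G) ∈ V0 := by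
      rw [hV0mem]
      refine ⟨(z : P).2, fun h hh => ?_⟩
      have := (Subgroup.mem_center_iff.mp z.2) ⟨h, hh⟩
      exact congrArg Subtype.val this
    rw [hbot, Subgroup.mem_bot] at hzmem
    exact Subtype.ext (Subtype.ext hzmem)
  have hV0N : V0 ≤ N := inf_le_left.trans Subgroup.le_normalizer
  haveI hVn : (V0.subgroupOf N).Normal := by
    constructor
    intro v hv n
    rw [Subgroup.mem_subgroupOf] at hv ⊢
    rw [hV0mem] at hv ⊢
    have hn : ∀ h, h ∈ P ↔ (n : G) * h * (n : G)⁻¹ ∈ P := Subgroup.mem_normalizer_iff.mp n.2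
    have hn' : ∀ h, h ∈ P ↔ (n : G)⁻¹ * h * (n : G) ∈ P := Subgroup.mem_normalizer_iff''.mp n.2
    refine ⟨(hn _).mp hv.1, fun h hh => ?_⟩
    have h1 := hv.2 _ ((hn' h).mp hh)
    push_cast
    calc h * ((n : G) * (v : G) * (n : G)⁻¹)
        = (n : G) * (((n : G)⁻¹ * h * (n : G)) * (v : G)) * (n : G)⁻¹ := by group
      _ = (n : G) * ((v : G) * ((n : G)⁻¹ * h * (n : G))) * (n : G)⁻¹ := by rw [h1]
      _ = (n : G) * (v : G) * (n : G)⁻¹ * h := by group
  have hVab : IsMulCommutative (V0.subgroupOf N) := by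
    refine ⟨⟨fun a b => ?_⟩⟩
    have ha := (hV0mem _).mp (Subgroup.mem_subgroupOf.mp a.2)
    have hb := (hV0mem _).mp (Subgroup.mem_subgroupOf.mp b.2)
    apply Subtype.ext
    apply Subtype.ext
    exact hb.2 _ ha.1
  have hVne : V0.subgroupOf N ≠ ⊥ := by
    intro h
    rw [Subgroup.subgroupOf_eq_bot, disjoint_iff, inf_of_le_left hV0N] at h
    exact hV0ne h
  have hVp : IsPGroup p (V0.subgroupOf N) := by
    intro v
    obtain ⟨k, hk⟩ := hPp ⟨((v : N) : G), ((hV0mem _).mp (Subgroup.mem_subgroupOf.mp v.2)).1⟩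
    refine ⟨k, ?_⟩
    apply Subtype.ext
    apply Subtype.ext
    simpa using congrArg Subtype.val hk
  have hMeq : (M ⊓ N) ⊔ K = M := by
    apply le_antisymm (sup_le inf_le_left hKM)
    intro m hm
    have : m ∈ N ⊔ K := by rw [hfr]; trivial
    obtain ⟨n, hn, k, hk, rfl⟩ := Subgroup.mem_sup_of_normal_right.mp this
    have hnM : n ∈ M := by
      have := M.mul_mem hm (M.inv_mem (hKM hk))
      simpa using this
    exact Subgroup.mul_mem_sup ⟨hnM, hn⟩ hk
  have hq' : q ∣ Nat.card (M.subgroupOf N) := by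
    have e1 : K.relIndex (M ⊓ N) = K.relIndex M := by
      conv_rhs => rw [← hMeq]
      rw [Subgroup.relIndex_sup_right]
    have e2 : Nat.card (M.subgroupOf N) = Nat.card (M ⊓ N : Subgroup G) := by
      rw [← Subgroup.inf_subgroupOf_right]
      exact Nat.card_congr (Subgroup.subgroupOfEquivOfLe inf_le_right).toEquiv
    rw [e2]
    exact (e1 ▸ hqM).trans (Subgroup.relIndex_dvd_card _ _)
  have hr' : r ∣ (M.subgroupOf N).index := by
    have e1 : M.relIndex N = M.index := by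
      have : N ⊔ M = ⊤ := top_le_iff.mp (hfr ▸ sup_le_sup_left hKM N)
      rw [← Subgroup.relIndex_sup_right, this, Subgroup.relIndex_top_right]
    show r ∣ M.relIndex N
    rw [e1]
    exact hrG
  rcases three_primes_abelian (V0.subgroupOf N) (M.subgroupOf N) hVab hVne p q r hp hq hr hpq hpr hqr
    hVp hq' hr' with ⟨x, hx⟩ | ⟨x, hx⟩ | ⟨x, hx⟩
  · exact Or.inl ⟨x, by rw [Subgroup.orderOf_coe, hx]⟩
  · exact Or.inr (Or.inl ⟨x, by rw [Subgroup.orderOf_coe, hx]⟩)
  · exact Or.inr (Or.inr ⟨x, by rw [Subgroup.orderOf_coe, hx]⟩)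

theorem card_div_card_eq_relIndex (K M : Subgroup G) (hKM : K ≤ M) :
    Nat.card M / Nat.card K = K.relIndex M := by
  have h := Subgroup.relIndex_mul_relIndex ⊥ K M bot_le hKM
  rw [Subgroup.relIndex_bot_left, Subgroup.relIndex_bot_left] at h
  rw [← h]
  exact Nat.mul_div_cancel_left _ Nat.card_pos

theorem card_div_card_eq_index (M : Subgroup G) :
    Nat.card G / Nat.card M = M.index := by
  rw [← M.card_mul_index]
  exact Nat.mul_div_cancel_left _ Nat.card_pos

end T3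

section T4

variable {G : Type*} [Group G] [Finite G]

theorem commutator_lt_of_isSolvable {H : Subgroup G} [Group.IsSolvable H] (hH : H ≠ ⊥) :
    ⁅H, H⁆ < H := by
  rw [← Subgroup.nontrivial_iff_ne_bot] at hH
  rw [← H.range_subtype, MonoidHom.range_eq_map, ← Subgroup.map_commutator,
    Subgroup.map_subtype_lt_map_subtype]
  exact Group.IsSolvable.commutator_lt_top_of_nontrivial H

/-- two distinct primes dividing the order of the abelian factor `K / K'`. -/
theorem exists_orderOf_of_dvd_relIndex_commutator (K : Subgroup G) (a b : ℕ) (ha : a.Prime)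
    (hb : b.Prime) (hab : a ≠ b) (h1 : a ∣ (⁅K, K⁆ : Subgroup G).relIndex K)
    (h2 : b ∣ (⁅K, K⁆ : Subgroup G).relIndex K) : ∃ x : G, orderOf x = a * b := by
  classical
  haveI : Fact a.Prime := ⟨ha⟩
  haveI : Fact b.Prime := ⟨hb⟩
  haveI hnorm : ((⁅K, K⁆ : Subgroup G).subgroupOf K).Normal := by
    constructor
    intro n hn g
    rw [Subgroup.mem_subgroupOf] at hn ⊢
    have h3 : ⁅(g : G), (n : G)⁆ ∈ (⁅K, K⁆ : Subgroup G) :=
      Subgroup.commutator_mem_commutator g.2 n.2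
    have h4 := (⁅K, K⁆ : Subgroup G).mul_mem h3 hn
    have e : ⁅(g : G), (n : G)⁆ * (n : G) = (g : G) * (n : G) * (g : G)⁻¹ := by
      rw [commutatorElement_def]; group
    rw [e] at h4
    exact h4
  have hc : Nat.card (K ⧸ (⁅K, K⁆ : Subgroup G).subgroupOf K) = (⁅K, K⁆ : Subgroup G).relIndex K := rfl
  obtain ⟨x, hx⟩ := exists_prime_orderOf_dvd_card' (G := K ⧸ (⁅K, K⁆ : Subgroup G).subgroupOf K) a
    (hc ▸ h1)
  obtain ⟨y, hy⟩ := exists_prime_orderOf_dvd_card' (G := K ⧸ (⁅K, K⁆ : Subgroup G).subgroupOf K) b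
    (hc ▸ h2)
  have hcomm : Commute x y := by
    induction x using QuotientGroup.induction_on with
    | H x =>
    induction y using QuotientGroup.induction_on with
    | H y =>
    show ((x * y : K) : K ⧸ (⁅K, K⁆ : Subgroup G).subgroupOf K) = ((y * x : K) : _)
    rw [QuotientGroup.eq, Subgroup.mem_subgroupOf]
    have h3 : ⁅(y : G)⁻¹, (x : G)⁻¹⁆ ∈ (⁅K, K⁆ : Subgroup G) :=
      Subgroup.commutator_mem_commutator (K.inv_mem y.2) (K.inv_mem x.2)
    have e : ⁅(y : G)⁻¹, (x : G)⁻¹⁆ = (((x * y)⁻¹ * (y * x) : K) : G) := by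
      rw [commutatorElement_def]; push_cast; group
    rw [← e]
    exact h3
  have hxy : orderOf (x * y) = a * b := by
    rw [hcomm.orderOf_mul_eq_mul_orderOf_of_coprime
      (by rw [hx, hy]; exact (Nat.coprime_primes ha hb).mpr hab), hx, hy]
  obtain ⟨z, hz⟩ := QuotientGroup.mk'_surjective ((⁅K, K⁆ : Subgroup G).subgroupOf K) (x * y)
  have hd : a * b ∣ orderOf z := by
    rw [← hxy, ← hz]
    exact orderOf_map_dvd _ z
  refine ⟨((z ^ (orderOf z / (a * b)) : K) : G), ?_⟩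
  rw [Subgroup.orderOf_coe]
  exact orderOf_pow_orderOf_div (orderOf_pos z).ne' hd

theorem coclique_solvable (S : Set ℕ) (hSp : ∀ a ∈ S, a.Prime)
    (hS : ∀ a ∈ S, ∀ b ∈ S, a ≠ b → ¬ ∃ x : G, orderOf x = a * b) :
    ∀ (n : ℕ) (K : Subgroup G) [K.Normal], Group.IsSolvable K → Nat.card K = n →
    ∀ p ∈ S, ∀ q ∈ S, ∀ t ∈ S, p ≠ q → p ≠ t → q ≠ t → p ∣ Nat.card K → q ∣ Nat.card K →
      t ∣ Nat.card G → False := by
  intro n
  induction n using Nat.strong_induction_on with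
  | _ n ih =>
  intro K _ hK hn p hp q hq t ht hpq hpt hqt hpK hqK htG
  have hKne : K ≠ ⊥ := by
    rintro rfl
    rw [Subgroup.card_bot] at hpK
    exact (hSp p hp).one_lt.ne' (Nat.dvd_one.mp hpK)
  have hlt : (⁅K, K⁆ : Subgroup G) < K := commutator_lt_of_isSolvable hKne
  have hcard : Nat.card (⁅K, K⁆ : Subgroup G) < n := by
    rw [← hn]
    exact Set.ncard_lt_ncard (SetLike.coe_ssubset_coe.mpr hlt) (Set.toFinite _)
  have hK's : Group.IsSolvable (⁅K, K⁆ : Subgroup G) :=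
    Group.isSolvable_of_isSolvable_injective (Subgroup.inclusion_injective hlt.le)
  have IH := ih (Nat.card (⁅K, K⁆ : Subgroup G)) hcard (⁅K, K⁆ : Subgroup G) hK's rfl
  have hab : ∀ a ∈ S, ∀ b ∈ S, a ≠ b → a ∣ (⁅K, K⁆ : Subgroup G).relIndex K →
      b ∣ (⁅K, K⁆ : Subgroup G).relIndex K → False := fun a ha b hb hne h1 h2 =>
    hS a ha b hb hne (exists_orderOf_of_dvd_relIndex_commutator K a b (hSp a ha) (hSp b hb) hne h1 h2)
  have hmul : Nat.card (⁅K, K⁆ : Subgroup G) * (⁅K, K⁆ : Subgroup G).relIndex K = Nat.card K := by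
    have h := Subgroup.relIndex_mul_relIndex ⊥ (⁅K, K⁆ : Subgroup G) K bot_le hlt.le
    rwa [Subgroup.relIndex_bot_left, Subgroup.relIndex_bot_left] at h
  have hsplit : ∀ a ∈ S, a ∣ Nat.card K →
      a ∣ Nat.card (⁅K, K⁆ : Subgroup G) ∨ a ∣ (⁅K, K⁆ : Subgroup G).relIndex K := by
    intro a ha had
    rw [← hmul] at had
    exact (hSp a ha).dvd_mul.mp had
  have hsplitG : t ∣ Nat.card K ∨ t ∣ K.index := by
    rw [← K.card_mul_index] at htG
    exact (hSp t ht).dvd_mul.mp htG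
  have key : ∀ p ∈ S, ∀ q ∈ S, p ≠ q → p ≠ t → q ≠ t → q ∣ Nat.card K →
      p ∣ Nat.card (⁅K, K⁆ : Subgroup G) → q ∣ (⁅K, K⁆ : Subgroup G).relIndex K → False := by
    intro p hp q hq hpq hpt hqt hqK hp1 hq2
    rcases hsplitG with ht1 | ht2
    · rcases hsplit t ht ht1 with ht3 | ht4
      · exact IH p hp t ht q hq hpt hpq hqt.symm hp1 ht3 (hqK.trans (Subgroup.card_subgroup_dvd_card K))
      · exact hab q hq t ht hqt hq2 ht4
    · rcases three_primes_chain (⁅K, K⁆ : Subgroup G) K hlt.le p q t (hSp p hp) (hSp q hq) (hSp t ht)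
        hpq hpt hqt hp1 hq2 ht2 with h | h | h
      · exact hS p hp q hq hpq h
      · exact hS p hp t ht hpt h
      · exact hS q hq t ht hqt h
  rcases hsplit p hp hpK with hp1 | hp2 <;> rcases hsplit q hq hqK with hq1 | hq2
  · exact IH p hp q hq t ht hpq hpt hqt hp1 hq1 htG
  · exact key p hp q hq hpq hpt hqt hqK hp1 hq2
  · exact key q hq p hp hpq.symm hqt hpt hpK hq1 hp2
  · exact hab p hp q hq hpq hp2 hq2

end T4

end Cfsg.Agent.Lib.Helper19
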