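import Mathlib

/-!
# Abstract counting lemmas used for the tori of the Suzuki groups
-/

set_option autoImplicit false
set_option linter.style.haveILetI false
set_option linter.unusedSimpArgs false
set_option linter.unusedSectionVars false
open scoped Pointwise

namespace Cfsg.Agent.Lib.Helper19.Tor

/-- Burnside for a transitive action -/
theorem burnside_trans (G Ω : Type*) [Group G] [Fintype G] [MulAction G Ω] [Fintype Ω] [Nonempty Ω]
    [DecidableEq Ω] [MulAction.IsPretransitive G Ω] :
    ∑ g : G, Fintype.card (MulAction.fixedBy Ω g) = Fintype.card G := by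
  classical
  have h := MulAction.sum_card_fixedBy_eq_card_orbits_mul_card_group G Ω
  have h1 : Fintype.card (Quotient (MulAction.orbitRel G Ω)) = 1 := by
    obtain ⟨u⟩ := (MulAction.pretransitive_iff_unique_quotient_of_nonempty G Ω).1 inferInstance
    exact Fintype.card_eq_one_iff_nonempty_unique.2 ⟨u⟩
  rw [h1, one_mul] at h
  convert h

/-- fixed embeddings -/
def fixEmb (G Ω : Type*) [Group G] [MulAction G Ω] (g : G) :
    MulAction.fixedBy (Fin 2 ↪ Ω) g ≃ (Fin 2 ↪ MulAction.fixedBy Ω g) where
  toFun f := ⟨fun i => ⟨f.1 i, by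
      have := f.2
      rw [MulAction.mem_fixedBy] at this ⊢
      exact DFunLike.congr_fun this i⟩, fun i j hij => f.1.injective (congrArg Subtype.val hij)⟩
  invFun f := ⟨⟨fun i => (f i).1, fun i j hij => f.injective (Subtype.ext hij)⟩, by
      rw [MulAction.mem_fixedBy]
      ext i
      exact (f i).2⟩
  left_inv f := by ext; rfl
  right_inv f := by ext; rfl

/-- the number of fixed-point-free elements of a Zassenhaus-like action -/
theorem count_ff (G Ω : Type*) [Group G] [Fintype G] [MulAction G Ω] [Fintype Ω] [DecidableEq Ω]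
    [DecidableEq G]
    [MulAction.IsPretransitive G Ω] (h2 : MulAction.IsMultiplyPretransitive G Ω 2)
    (hn : 2 ≤ Fintype.card Ω)
    (h3 : ∀ g : G, g ≠ 1 → Fintype.card (MulAction.fixedBy Ω g) ≤ 2) :
    2 * (Finset.univ.filter (fun g : G => Fintype.card (MulAction.fixedBy Ω g) = 0)).card +
      (Fintype.card Ω - 1) * (Fintype.card Ω - 2) = Fintype.card G := by
  classical
  haveI : Nonempty Ω := Fintype.card_pos_iff.1 (by omega)
  haveI : Nonempty (Fin 2 ↪ Ω) := by
    apply Function.Embedding.nonempty_of_card_le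
    simpa using hn
  have b1 := burnside_trans G Ω
  haveI : MulAction.IsPretransitive G (Fin 2 ↪ Ω) := h2
  have b2 := burnside_trans G (Fin 2 ↪ Ω)
  have e2 : ∀ g : G, Fintype.card (MulAction.fixedBy (Fin 2 ↪ Ω) g) =
      Fintype.card (MulAction.fixedBy Ω g) * (Fintype.card (MulAction.fixedBy Ω g) - 1) := by
    intro g
    rw [Fintype.card_congr (fixEmb G Ω g), Fintype.card_embedding_eq, Fintype.card_fin]
    simp [Nat.descFactorial]
    ring
  have key : ∀ g : G, 2 * (if Fintype.card (MulAction.fixedBy Ω g) = 0 then 1 else 0) +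
      2 * Fintype.card (MulAction.fixedBy Ω g) +
      (if g = 1 then (Fintype.card Ω - 1) * (Fintype.card Ω - 2) else 0) =
      2 + Fintype.card (MulAction.fixedBy (Fin 2 ↪ Ω) g) := by
    intro g
    rw [e2]
    by_cases hg : g = 1
    · subst hg
      have : Fintype.card (MulAction.fixedBy Ω (1 : G)) = Fintype.card Ω := by
        apply Fintype.card_of_subtype
        simp
      rw [this, if_pos rfl, if_neg (by omega)]
      obtain ⟨k, hk⟩ : ∃ k, Fintype.card Ω = k + 2 := ⟨Fintype.card Ω - 2, by omega⟩
      rw [hk]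
      simp
      ring
    · rw [if_neg hg]
      have := h3 g hg
      interval_cases Fintype.card (MulAction.fixedBy Ω g) <;> simp
  have hs := Finset.sum_congr rfl (fun g (_ : g ∈ (Finset.univ : Finset G)) => key g)
  rw [Finset.sum_add_distrib, Finset.sum_add_distrib, Finset.sum_add_distrib, ← Finset.mul_sum,
    ← Finset.mul_sum, b1, b2, Finset.sum_ite_eq' , Finset.sum_boole] at hs
  simp only [Finset.mem_univ, if_true, Finset.sum_const, Finset.card_univ, smul_eq_mul,
    Nat.cast_id] at hs
  omega

/-- a free action: the group order divides the degree -/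
theorem card_dvd_of_free (A Ω : Type*) [Group A] [Fintype A] [MulAction A Ω] [Fintype Ω]
    [DecidableEq Ω] (h : ∀ a : A, a ≠ 1 → ∀ p : Ω, a • p ≠ p) :
    Fintype.card A ∣ Fintype.card Ω := by
  classical
  have hb := MulAction.sum_card_fixedBy_eq_card_orbits_mul_card_group A Ω
  have h1 : ∑ a : A, Fintype.card (MulAction.fixedBy Ω a) = Fintype.card Ω := by
    rw [Finset.sum_eq_single (1 : A)]
    · apply Fintype.card_of_subtype
      simp
    · intro a _ ha
      rw [Fintype.card_eq_zero_iff]
      exact ⟨fun p => h a ha p.1 p.2⟩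
    · intro h0
      exact absurd (Finset.mem_univ _) h0
  rw [h1] at hb
  exact ⟨_, by rw [hb, mul_comm]⟩

/-- counting the conjugates of a subgroup with the TI-like property -/
theorem count_conj {G : Type*} [Group G] [Finite G] (A : Subgroup G)
    (hA : ∀ y ∈ A, y ≠ 1 → ∀ h : G, h * y * h⁻¹ ∈ A → h ∈ Subgroup.normalizer (A : Set G)) :
    Nat.card {x : G // x ≠ 1 ∧ ∃ g : G, g * x * g⁻¹ ∈ A} *
      Nat.card (Subgroup.normalizer (A : Set G)) = Nat.card G * (Nat.card A - 1) := by
  classical
  haveI : Fintype G := Fintype.ofFinite G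
  have hd := Finset.sum_card_bipartiteAbove_eq_sum_card_bipartiteBelow
    (s := (Finset.univ : Finset G)) (t := (Finset.univ : Finset G))
    (fun g x => x ≠ 1 ∧ g * x * g⁻¹ ∈ A)
  have h1 : ∀ g : G, ((Finset.univ : Finset G).bipartiteAbove
      (fun g x => x ≠ 1 ∧ g * x * g⁻¹ ∈ A) g).card = Nat.card A - 1 := by
    intro g
    have e : ((Finset.univ : Finset G).bipartiteAbove (fun g x => x ≠ 1 ∧ g * x * g⁻¹ ∈ A) g) =
        ((Finset.univ : Finset A).erase 1).image (fun y => g⁻¹ * y.1 * g) := by
      ext x
      simp only [Finset.bipartiteAbove, Finset.mem_filter, Finset.mem_univ, true_and,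
        Finset.mem_image, Finset.mem_erase, and_true]
      constructor
      · rintro ⟨hx, hm⟩
        refine ⟨⟨_, hm⟩, ?_, by group⟩
        intro h0
        apply hx
        have h2 : g * x * g⁻¹ = 1 := congrArg Subtype.val h0
        have e2 : x = g⁻¹ * (g * x * g⁻¹) * g := by group
        rw [e2, h2]; group
      · rintro ⟨y, hy, rfl⟩
        refine ⟨?_, ?_⟩
        · intro h0
          apply hy
          apply Subtype.ext
          have e2 : y.1 = g * (g⁻¹ * y.1 * g) * g⁻¹ := by group
          rw [e2, h0]; simp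
        · have e2 : g * (g⁻¹ * y.1 * g) * g⁻¹ = y.1 := by group
          rw [e2]; exact y.2
    rw [e, Finset.card_image_of_injective _ (fun a b hab => Subtype.ext (by simpa using hab)),
      Finset.card_erase_of_mem (Finset.mem_univ _), Finset.card_univ, Nat.card_eq_fintype_card]
  have h2 : ∀ x : G, ((Finset.univ : Finset G).bipartiteBelow
      (fun g x => x ≠ 1 ∧ g * x * g⁻¹ ∈ A) x).card =
      if (x ≠ 1 ∧ ∃ g : G, g * x * g⁻¹ ∈ A) then Nat.card (Subgroup.normalizer (A : Set G)) else 0 := by
    intro x
    split_ifs with hx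
    · obtain ⟨hx1, g0, hg0⟩ := hx
      have hy1 : g0 * x * g0⁻¹ ≠ 1 := by
        intro h0
        apply hx1
        have e2 : x = g0⁻¹ * (g0 * x * g0⁻¹) * g0 := by group
        rw [e2, h0]; group
      have e : ((Finset.univ : Finset G).bipartiteBelow (fun g x => x ≠ 1 ∧ g * x * g⁻¹ ∈ A) x) =
          (Finset.univ : Finset (Subgroup.normalizer (A : Set G))).image (fun h => h.1 * g0) := by
        ext g
        simp only [Finset.bipartiteBelow, Finset.mem_filter, Finset.mem_univ, true_and,
          Finset.mem_image]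
        constructor
        · rintro ⟨-, hm⟩
          refine ⟨⟨g * g0⁻¹, hA _ hg0 hy1 _ ?_⟩, by group⟩
          have e2 : g * g0⁻¹ * (g0 * x * g0⁻¹) * (g * g0⁻¹)⁻¹ = g * x * g⁻¹ := by group
          rw [e2]; exact hm
        · rintro ⟨h, rfl⟩
          refine ⟨hx1, ?_⟩
          have e2 : h.1 * g0 * x * (h.1 * g0)⁻¹ = h.1 * (g0 * x * g0⁻¹) * h.1⁻¹ := by group
          rw [e2]
          exact (Subgroup.mem_normalizer_iff.1 h.2 _).1 hg0
      rw [e, Finset.card_image_of_injective _ (fun a b hab => Subtype.ext (by simpa using hab)),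
        Finset.card_univ, Nat.card_eq_fintype_card]
    · rw [Finset.card_eq_zero, Finset.eq_empty_iff_forall_notMem]
      intro g hg
      simp only [Finset.bipartiteBelow, Finset.mem_filter, Finset.mem_univ, true_and] at hg
      exact hx ⟨hg.1, g, hg.2⟩
  simp only [h1, h2] at hd
  rw [Finset.sum_const, Finset.card_univ, smul_eq_mul, ← Finset.sum_filter, Finset.sum_const,
    smul_eq_mul] at hd
  rw [Nat.card_eq_fintype_card (α := G), Nat.card_eq_fintype_card
    (α := {x : G // x ≠ 1 ∧ ∃ g : G, g * x * g⁻¹ ∈ A}), Fintype.card_subtype]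
  exact hd.symm

end Cfsg.Agent.Lib.Helper19.Tor
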