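import Cfsg.Agent.Lib.Helper19.SuzX
import Cfsg.Agent.Lib.Helper19.TorA

/-!
# Suzuki groups: fixed-point-free elements and their centralisers
-/

set_option autoImplicit false
set_option linter.style.haveILetI false
set_option linter.unusedSimpArgs false
set_option linter.unusedSectionVars false
open scoped Pointwise
open Matrix

namespace Cfsg.Agent.Lib.Helper19.Suz

variable {F : Type*} [Field F] [Fintype F] [CharP F 2] (m : ℕ) [Hyp F m]

/-- fixed-point-free on the ovoid -/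
def FF (g : Cfsg.Sz F m) : Prop := ∀ p ∈ Cfsg.suzukiOvoid F m, g • p ≠ p

/-- centraliser of an element -/
abbrev Cen (g : Cfsg.Sz F m) : Subgroup (Cfsg.Sz F m) := Subgroup.centralizer ({g} : Set (Cfsg.Sz F m))

variable {m}

theorem mem_Cen {g c : Cfsg.Sz F m} : c ∈ Cen m g ↔ Commute c g := by
  rw [Subgroup.mem_centralizer_iff]
  constructor
  · intro h; exact (h g rfl).symm
  · intro h a ha
    rw [Set.mem_singleton_iff.mp ha]
    exact h.symm.eq

theorem self_mem_Cen (g : Cfsg.Sz F m) : g ∈ Cen m g := mem_Cen.2 (Commute.refl g)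

theorem conj_mem_Cen {h c y : Cfsg.Sz F m} : h * c * h⁻¹ ∈ Cen m (h * y * h⁻¹) ↔ c ∈ Cen m y := by
  rw [mem_Cen, mem_Cen]
  constructor
  · intro e
    have e1 : h * c * h⁻¹ * (h * y * h⁻¹) = h * y * h⁻¹ * (h * c * h⁻¹) := e
    have e2 : h * (c * y) * h⁻¹ = h * (y * c) * h⁻¹ := by
      calc h * (c * y) * h⁻¹ = h * c * h⁻¹ * (h * y * h⁻¹) := by group
        _ = h * y * h⁻¹ * (h * c * h⁻¹) := e1
        _ = _ := by group
    exact mul_left_cancel (mul_right_cancel e2)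
  · intro e
    show h * c * h⁻¹ * (h * y * h⁻¹) = h * y * h⁻¹ * (h * c * h⁻¹)
    calc h * c * h⁻¹ * (h * y * h⁻¹) = h * (c * y) * h⁻¹ := by group
      _ = h * (y * c) * h⁻¹ := by rw [e.eq]
      _ = _ := by group

theorem FF.ne_one {g : Cfsg.Sz F m} (h : FF m g) : g ≠ 1 := by
  rintro rfl
  exact h _ (Pinf_mem m) (one_smul _ _)

theorem FF.conj {g : Cfsg.Sz F m} (h : FF m g) (k : Cfsg.Sz F m) : FF m (k * g * k⁻¹) := by
  intro p hp hfix
  apply h (k⁻¹ • p) (smul_mem_ovoid m _ hp)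
  rw [mul_smul, mul_smul] at hfix
  rw [eq_inv_smul_iff]
  exact hfix

theorem FF.exists_prime {g : Cfsg.Sz F m} (h : FF m g) :
    ∃ r j : ℕ, r.Prime ∧ r ≠ 2 ∧ r ∣ Fintype.card F ^ 2 + 1 ∧ orderOf (g ^ j) = r := by
  rcases classify m h.ne_one with ⟨k, a, b, e⟩ | ⟨k, u, -, e⟩ | h3
  · exact absurd (by rw [e]; exact tG_smul_Pinf m a b) ((h.conj k) _ (Pinf_mem m))
  · exact absurd (by rw [e]; exact dG_smul_Pinf m u) ((h.conj k) _ (Pinf_mem m))
  · exact h3

theorem dG_pow (u : Fˣ) (n : ℕ) : dG m u ^ n = dG m (u ^ n) := by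
  induction n with
  | zero => simp [dG_one]
  | succ n ih => rw [pow_succ, ih, dG_mul, pow_succ]

theorem dG_pow_card (u : Fˣ) : dG m u ^ (Fintype.card F - 1) = 1 := by
  classical
  rw [dG_pow, ← Fintype.card_units, pow_card_eq_one, dG_one]

theorem eq_one_of_conj {k x : Cfsg.Sz F m} (h : k * x * k⁻¹ = 1) : x = 1 := by
  have e2 : x = k⁻¹ * (k * x * k⁻¹) * k := by group
  rw [e2, h]; group

variable (m) in
include m in
theorem card_ge : 8 ≤ Fintype.card F := by
  rw [Hyp.hF (F := F) (m := m)]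
  have : 1 ≤ m := Hyp.hm F
  calc 8 = 2 ^ 3 := by norm_num
    _ ≤ 2 ^ (2 * m + 1) := Nat.pow_le_pow_right (by norm_num) (by omega)

theorem ff_of_prime {r : ℕ} (hr : r.Prime) (hr2 : r ≠ 2) (hdiv : r ∣ Fintype.card F ^ 2 + 1)
    {z : Cfsg.Sz F m} (ho : orderOf z = r) : FF m z := by
  intro p hp hfix
  rcases classify_fixed m hp hfix with ⟨k, a, b, e⟩ | ⟨k, u, -, e⟩
  · have h4 : (k * z * k⁻¹) ^ 4 = 1 := by rw [e, tG_pow_four]
    rw [conj_pow] at h4
    have h5 : z ^ 4 = 1 := eq_one_of_conj h4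
    have : r ∣ 2 ^ 2 := by rw [← ho]; exact orderOf_dvd_of_pow_eq_one h5
    exact hr2 ((Nat.prime_dvd_prime_iff_eq hr Nat.prime_two).mp (hr.dvd_of_dvd_pow this))
  · have h4 : (k * z * k⁻¹) ^ (Fintype.card F - 1) = 1 := by rw [e, dG_pow_card]
    rw [conj_pow] at h4
    have h5 : z ^ (Fintype.card F - 1) = 1 := eq_one_of_conj h4
    have h6 : r ∣ Fintype.card F - 1 := by rw [← ho]; exact orderOf_dvd_of_pow_eq_one h5
    have hq := card_ge (F := F) m
    obtain ⟨t, ht⟩ : ∃ t, Fintype.card F = t + 1 := ⟨Fintype.card F - 1, by omega⟩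
    rw [ht] at hdiv h6
    simp only [Nat.add_sub_cancel] at h6
    have h7 : r ∣ 2 := by
      have e1 : (t + 1) ^ 2 + 1 = t * (t + 2) + 2 := by ring
      rw [e1] at hdiv
      exact (Nat.dvd_add_right (Dvd.dvd.mul_right h6 _)).1 hdiv
    exact hr2 ((Nat.prime_dvd_prime_iff_eq hr Nat.prime_two).mp h7)

theorem ff_of_comm {r : ℕ} (hr : r.Prime) (hr2 : r ≠ 2) {z y : Cfsg.Sz F m} (hz : FF m z)
    (ho : orderOf z = r) (hy : Commute y z) (hy1 : y ≠ 1) : FF m y := by
  intro p hp hfix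
  have hzp : z • p ∈ Cfsg.suzukiOvoid F m := smul_mem_ovoid m z hp
  have hzzp : z • z • p ∈ Cfsg.suzukiOvoid F m := smul_mem_ovoid m z hzp
  have f1 : y • z • p = z • p := by rw [← mul_smul, hy.eq, mul_smul, hfix]
  have f2 : y • z • z • p = z • z • p := by rw [← mul_smul, hy.eq, mul_smul, f1]
  by_cases h2 : z • z • p = p
  · -- z has odd order so z fixes p
    have hodd : Odd r := hr.odd_of_ne_two hr2
    obtain ⟨t, ht⟩ := hodd
    have hpow : ∀ n : ℕ, (z ^ (2 * n)) • p = p := by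
      intro n
      induction n with
      | zero => simp
      | succ n ih =>
        have : z ^ (2 * (n + 1)) = z ^ (2 * n) * (z * z) := by rw [← pow_two, ← pow_add]; ring_nf
        rw [this, mul_smul, mul_smul, h2, ih]
    have h3 : z ^ (2 * (t + 1)) = z := by
      have : 2 * (t + 1) = r + 1 := by omega
      rw [this, pow_succ, ← ho, pow_orderOf_eq_one, one_mul]
    have := hpow (t + 1)
    rw [h3] at this
    exact hz p hp this
  · exact hy1 (three_fix m y hp hzp hzzp (fun h => hz p hp h.symm) (fun h => hz _ hzp h.symm)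
      (fun h => h2 h.symm) hfix f1 f2)

theorem FF.cyclic {g : Cfsg.Sz F m} (h : FF m g) : IsCyclic (Cen m g) := by
  obtain ⟨r, j, hr, hr2, hdiv, ho⟩ := h.exists_prime
  haveI := cent_cyclic m hr hr2 hdiv (g ^ j) ho
  have hle : Cen m g ≤ Cen m (g ^ j) := by
    intro z hz
    rw [mem_Cen] at hz ⊢
    exact hz.pow_right j
  exact isCyclic_of_injective (Subgroup.inclusion hle) (Subgroup.inclusion_injective hle)

theorem FF.comm {g a b : Cfsg.Sz F m} (h : FF m g) (ha : a ∈ Cen m g) (hb : b ∈ Cen m g) :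
    Commute a b := by
  haveI := h.cyclic
  letI : CommGroup (Cen m g) := IsCyclic.commGroup
  have := mul_comm (⟨a, ha⟩ : Cen m g) ⟨b, hb⟩
  exact congrArg Subtype.val this

theorem FF.of_mem {g y : Cfsg.Sz F m} (h : FF m g) (hy : y ∈ Cen m g) (hy1 : y ≠ 1) : FF m y := by
  obtain ⟨r, j, hr, hr2, hdiv, ho⟩ := h.exists_prime
  exact ff_of_comm hr hr2 (ff_of_prime hr hr2 hdiv ho) ho ((mem_Cen.1 hy).pow_right j) hy1

theorem FF.cen_eq {g y : Cfsg.Sz F m} (h : FF m g) (hy : y ∈ Cen m g) (hy1 : y ≠ 1) :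
    Cen m y = Cen m g := by
  have hy' := h.of_mem hy hy1
  apply le_antisymm
  · intro c hc
    exact mem_Cen.2 (hy'.comm hc (mem_Cen.2 (mem_Cen.1 hy).symm))
  · intro c hc
    exact mem_Cen.2 (h.comm hc hy)

theorem card_ovoid : Nat.card (Cfsg.suzukiOvoid F m) = Fintype.card F ^ 2 + 1 := by
  rw [← ncard_ovoid m]; rfl

theorem FF.card_dvd {g : Cfsg.Sz F m} (h : FF m g) :
    Nat.card (Cen m g) ∣ Fintype.card F ^ 2 + 1 := by
  classical
  haveI : Fintype (Cfsg.suzukiOvoid F m) := Fintype.ofFinite _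
  have := Tor.card_dvd_of_free (Cen m g) (Cfsg.suzukiOvoid F m) (by
    intro a ha p hp
    have ha1 : a.1 ≠ 1 := fun h0 => ha (Subtype.ext h0)
    exact (h.of_mem a.2 ha1) p.1 p.2 (congrArg Subtype.val hp))
  rw [← Nat.card_eq_fintype_card, ← Nat.card_eq_fintype_card, card_ovoid] at this
  exact this

variable (m) in
include m in
theorem not_three_dvd : ¬ 3 ∣ Fintype.card F ^ 2 + 1 := by
  rw [Hyp.hF (F := F) (m := m), ← pow_mul]
  have h1 : 2 ^ ((2 * m + 1) * 2) = 4 ^ (2 * m + 1) := by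
    rw [mul_comm, pow_mul]; norm_num
  rw [h1]
  have h2 : 4 ^ (2 * m + 1) % 3 = 1 := by
    rw [Nat.pow_mod]; norm_num
  omega

theorem FF.five_le {g : Cfsg.Sz F m} (h : FF m g) : 5 ≤ Nat.card (Cen m g) := by
  have hd := h.card_dvd
  have h2 : ¬ 2 ∣ Nat.card (Cen m g) := fun h2 => not_two_dvd m (h2.trans hd)
  have h3 : ¬ 3 ∣ Nat.card (Cen m g) := fun h3 => not_three_dvd m (h3.trans hd)
  have h1 : 1 < Nat.card (Cen m g) := by
    rw [Finite.one_lt_card_iff_nontrivial]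
    exact ⟨⟨⟨g, self_mem_Cen g⟩, 1, fun h0 => h.ne_one (congrArg Subtype.val h0)⟩⟩
  by_contra hlt
  push Not at hlt
  interval_cases Nat.card (Cen m g) <;> omega

end Cfsg.Agent.Lib.Helper19.Suz
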