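import Cfsg.Agent.Lib.Helper19.TorB

/-!
# Suzuki groups: normalisers of the centralisers of fixed-point-free elements
-/

set_option autoImplicit false
set_option linter.style.haveILetI false
set_option linter.unusedSimpArgs false
set_option linter.unusedSectionVars false
open scoped Pointwise
open Matrix Polynomial

namespace Cfsg.Agent.Lib.Helper19.Suz

variable {F : Type*} [Field F] [Fintype F]

theorem conj_le_four {r : ℕ} (hr : r.Prime) (hr2 : r ≠ 2) (hdiv : r ∣ Fintype.card F ^ 2 + 1)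
    (h : SL4 F) (hh : h ^ r = 1) (hne : h ≠ 1) (S : Finset (SL4 F))
    (hS : ∀ y ∈ S, Commute y h ∧ ∃ k : SL4 F, y = k * h * k⁻¹) : S.card ≤ 4 := by
  classical
  set A : Matrix (Fin 4) (Fin 4) F := h.1 with hA
  let C := Subalgebra.centralizer F ({A} : Set (Matrix (Fin 4) (Fin 4) F))
  have hinj : ∀ c : Matrix (Fin 4) (Fin 4) F, c ∈ C → c ≠ 0 → ∀ v, c *ᵥ v = 0 → v = 0 := by
    intro c hc hc0 v hv
    have hcA : A * c = c * A := (Subalgebra.mem_centralizer_iff F |>.mp hc) A rfl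
    have hK := inv_subspace hr hr2 hdiv h hh hne (LinearMap.ker (Matrix.mulVecLin c)) (by
      intro v hv
      rw [LinearMap.mem_ker, Matrix.mulVecLin_apply] at hv ⊢
      show c *ᵥ (A *ᵥ v) = 0
      rw [Matrix.mulVec_mulVec, ← hcA, ← Matrix.mulVec_mulVec, hv, Matrix.mulVec_zero])
    rcases hK with hK | hK
    · have : v ∈ LinearMap.ker (Matrix.mulVecLin c) := by
        rw [LinearMap.mem_ker, Matrix.mulVecLin_apply]; exact hv
      rw [hK] at this
      exact this
    · exfalso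
      apply hc0
      ext i j
      have : Pi.single j (1 : F) ∈ LinearMap.ker (Matrix.mulVecLin c) := by rw [hK]; trivial
      rw [LinearMap.mem_ker, Matrix.mulVecLin_apply, Matrix.mulVec_single_one] at this
      exact congrFun this i
  haveI : NoZeroDivisors C := ⟨by
    rintro ⟨c, hc⟩ ⟨c', hc'⟩ hcc
    have hcc' : c * c' = 0 := congrArg Subtype.val hcc
    by_cases hc0 : c = 0
    · left; exact Subtype.ext hc0
    · right
      apply Subtype.ext
      show c' = 0
      ext i j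
      have h1 : c *ᵥ (c' *ᵥ Pi.single j 1) = 0 := by
        rw [Matrix.mulVec_mulVec, hcc', Matrix.zero_mulVec]
      have h2 := hinj c hc hc0 _ h1
      rw [Matrix.mulVec_single_one] at h2
      exact congrFun h2 i⟩
  haveI : IsDomain C := NoZeroDivisors.to_isDomain C
  have hfield := Finite.isDomain_to_isField C
  letI : CommRing C := { (inferInstance : Ring C) with mul_comm := hfield.mul_comm }
  haveI : IsDomain C := NoZeroDivisors.to_isDomain C
  set p : F[X] := A.charpoly with hp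
  set P : C[X] := p.map (algebraMap F C) with hP
  have hmonic : P.Monic := (Matrix.charpoly_monic A).map _
  have hP0 : P ≠ 0 := hmonic.ne_zero
  have hdeg : P.natDegree ≤ 4 := by
    refine (Polynomial.natDegree_map_le).trans ?_
    rw [hp, Matrix.charpoly_natDegree_eq_dim]
    simp
  let φ : SL4 F → C := fun y => if hy : y.1 ∈ C then ⟨y.1, hy⟩ else 0
  have hmem : ∀ y ∈ S, y.1 ∈ C := by
    intro y hy
    rw [Subalgebra.mem_centralizer_iff]
    intro a ha
    rw [Set.mem_singleton_iff.mp ha]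
    exact (congrArg Subtype.val (hS y hy).1.eq).symm
  have h1 : S.card ≤ P.roots.toFinset.card := by
    apply Finset.card_le_card_of_injOn φ
    · intro y hy
      have hyC := hmem y hy
      simp only [Finset.mem_coe, Multiset.mem_toFinset]
      rw [Polynomial.mem_roots hP0, Polynomial.IsRoot, hP, Polynomial.eval_map,
        ← Polynomial.aeval_def]
      apply Subtype.ext
      have e1 : ((Polynomial.aeval (φ y) p : C) : Matrix (Fin 4) (Fin 4) F) =
          Polynomial.aeval ((φ y : C) : Matrix (Fin 4) (Fin 4) F) p :=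
        (Polynomial.aeval_algHom_apply C.val (φ y) p).symm
      rw [e1]
      have e2 : ((φ y : C) : Matrix (Fin 4) (Fin 4) F) = y.1 := by
        simp only [φ, dif_pos hyC]
      rw [e2]
      obtain ⟨k, hk⟩ := (hS y hy).2
      have e3 : y.1.charpoly = p := by
        rw [hk, hp]
        show (k.1 * A * (k⁻¹).1).charpoly = A.charpoly
        rw [Matrix.charpoly_mul_comm, ← Matrix.mul_assoc]
        have : (k⁻¹).1 * k.1 = 1 := by
          rw [← Matrix.SpecialLinearGroup.coe_mul, inv_mul_cancel]; rfl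
        rw [this, Matrix.one_mul]
      rw [← e3]
      exact Matrix.aeval_self_charpoly y.1
    · intro y hy y' hy' e
      have e2 : ∀ y ∈ S, ((φ y : C) : Matrix (Fin 4) (Fin 4) F) = y.1 := by
        intro y hy
        simp only [φ, dif_pos (hmem y hy)]
      apply Subtype.ext
      rw [← e2 y hy, ← e2 y' hy', e]
  exact h1.trans ((Multiset.toFinset_card_le _).trans ((Polynomial.card_roots' P).trans hdeg))

variable [CharP F 2] {m : ℕ} [Hyp F m]

/-- normaliser of the centraliser -/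
abbrev Nor (g : Cfsg.Sz F m) : Subgroup (Cfsg.Sz F m) :=
  Subgroup.normalizer ((Cen m g : Subgroup (Cfsg.Sz F m)) : Set (Cfsg.Sz F m))

theorem FF.norm_le {g : Cfsg.Sz F m} (h : FF m g) :
    Nat.card (Nor g) ≤ Nat.card (Cen m g) * 4 := by
  classical
  obtain ⟨r, j, hr, hr2, hdiv, ho⟩ := h.exists_prime
  set z := g ^ j with hz
  have hz1 : z ≠ 1 := by
    intro h0
    rw [h0, orderOf_one] at ho
    exact hr.one_lt.ne ho
  have hzc : z ∈ Cen m g := mem_Cen.2 ((Commute.refl g).pow_left j)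
  have hcz : Cen m z = Cen m g := h.cen_eq hzc hz1
  let f : Nor g → SL4 F := fun k => (k.1 * z * k.1⁻¹).1
  have h1 := Finset.card_le_mul_card_image (f := f) (Finset.univ : Finset (Nor g))
    (Nat.card (Cen m g)) (by
    intro b hb
    obtain ⟨k0, -, rfl⟩ := Finset.mem_image.1 hb
    rw [Nat.card_eq_fintype_card, ← Finset.card_univ]
    have hin : ∀ k : Nor g, f k = f k0 → k0.1⁻¹ * k.1 ∈ Cen m g := by
      intro k hk
      rw [← hcz, mem_Cen]
      have e : k.1 * z * k.1⁻¹ = k0.1 * z * k0.1⁻¹ := Subtype.ext hk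
      show k0.1⁻¹ * k.1 * z = z * (k0.1⁻¹ * k.1)
      have e2 : k.1 * z = k0.1 * z * k0.1⁻¹ * k.1 := by rw [← e]; group
      calc k0.1⁻¹ * k.1 * z = k0.1⁻¹ * (k.1 * z) := by group
        _ = k0.1⁻¹ * (k0.1 * z * k0.1⁻¹ * k.1) := by rw [e2]
        _ = _ := by group
    apply Finset.card_le_card_of_injOn
      (fun k => if hk : f k = f k0 then (⟨k0.1⁻¹ * k.1, hin k hk⟩ : Cen m g) else 1)
    · intro _ _; exact Finset.mem_coe.2 (Finset.mem_univ _)
    · intro a ha b hb hab
      have ha' : f a = f k0 := (Finset.mem_filter.1 (Finset.mem_coe.1 ha)).2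
      have hb' : f b = f k0 := (Finset.mem_filter.1 (Finset.mem_coe.1 hb)).2
      simp only [dif_pos ha', dif_pos hb'] at hab
      have := congrArg Subtype.val hab
      exact Subtype.ext (mul_left_cancel this))
  have h2 : ((Finset.univ : Finset (Nor g)).image f).card ≤ 4 := by
    apply conj_le_four hr hr2 hdiv z.1 (by
      have : z ^ r = 1 := by rw [← ho]; exact pow_orderOf_eq_one z
      exact congrArg Subtype.val this) (fun h0 => hz1 (Subtype.ext h0))
    intro y hy
    obtain ⟨k, -, rfl⟩ := Finset.mem_image.1 hy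
    refine ⟨?_, k.1.1, rfl⟩
    have hmem : k.1 * z * k.1⁻¹ ∈ Cen m g := (Subgroup.mem_normalizer_iff.1 k.2 z).1 hzc
    have := h.comm hmem hzc
    exact congrArg Subtype.val this.eq
  rw [Finset.card_univ, ← Nat.card_eq_fintype_card] at h1
  exact h1.trans (Nat.mul_le_mul_left _ h2)

theorem Cen_conj (k y : Cfsg.Sz F m) :
    Cen m (k * y * k⁻¹) = (Cen m y).map (MulAut.conj k).toMonoidHom := by
  ext c
  rw [Subgroup.mem_map]
  constructor
  · intro hc
    refine ⟨k⁻¹ * c * k, ?_, ?_⟩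
    · rw [← conj_mem_Cen (h := k)]
      have : k * (k⁻¹ * c * k) * k⁻¹ = c := by group
      rw [this]; exact hc
    · show k * (k⁻¹ * c * k) * k⁻¹ = c
      group
  · rintro ⟨c', hc', rfl⟩
    exact conj_mem_Cen.2 hc'

theorem card_Cen_conj (k y : Cfsg.Sz F m) : Nat.card (Cen m (k * y * k⁻¹)) = Nat.card (Cen m y) := by
  rw [Cen_conj]
  exact Subgroup.card_map_of_injective (MulAut.conj k).injective

theorem card_Nor_conj (k y : Cfsg.Sz F m) : Nat.card (Nor (k * y * k⁻¹)) = Nat.card (Nor y) := by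
  unfold Nor
  rw [Cen_conj, ← Subgroup.map_equiv_normalizer_eq]
  exact Subgroup.card_map_of_injective (MulAut.conj k).injective

theorem FF.of_conj_mem {x y k : Cfsg.Sz F m} (hx : FF m x) (hy1 : y ≠ 1)
    (hk : k * y * k⁻¹ ∈ Cen m x) :
    FF m y ∧ Nat.card (Cen m y) = Nat.card (Cen m x) ∧ Nat.card (Nor y) = Nat.card (Nor x) := by
  have h1 : k * y * k⁻¹ ≠ 1 := fun h0 => hy1 (eq_one_of_conj h0)
  have h2 := hx.of_mem hk h1
  have h3 := hx.cen_eq hk h1
  refine ⟨?_, ?_, ?_⟩
  · have := h2.conj k⁻¹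
    have e : k⁻¹ * (k * y * k⁻¹) * k⁻¹⁻¹ = y := by group
    rwa [e] at this
  · rw [← card_Cen_conj k y, h3]
  · rw [← card_Nor_conj k y]
    unfold Nor
    rw [h3]

theorem FF.ti {x : Cfsg.Sz F m} (hx : FF m x) (y : Cfsg.Sz F m) (hy : y ∈ Cen m x) (hy1 : y ≠ 1)
    (h : Cfsg.Sz F m) (hh : h * y * h⁻¹ ∈ Cen m x) : h ∈ Nor x := by
  have h1 : h * y * h⁻¹ ≠ 1 := fun h0 => hy1 (eq_one_of_conj h0)
  have e1 := hx.cen_eq hy hy1
  have e2 := hx.cen_eq hh h1
  rw [Subgroup.mem_normalizer_iff]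
  intro c
  show c ∈ Cen m x ↔ h * c * h⁻¹ ∈ Cen m x
  constructor
  · intro hc
    rw [← e2, conj_mem_Cen, e1]; exact hc
  · intro hc
    rw [← e2, conj_mem_Cen, e1] at hc; exact hc

theorem FF.exists_conj {x y : Cfsg.Sz F m} (hx : FF m x) (hy : FF m y) {r : ℕ} (hr : r.Prime)
    (h1 : r ∣ Nat.card (Cen m x)) (h2 : r ∣ Nat.card (Cen m y)) :
    ∃ k : Cfsg.Sz F m, k * y * k⁻¹ ∈ Cen m x := by
  classical
  haveI : Fact r.Prime := ⟨hr⟩
  have hr2 : r ≠ 2 := by
    rintro rfl
    exact not_two_dvd m (h1.trans hx.card_dvd)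
  obtain ⟨x', hx'⟩ := exists_prime_orderOf_dvd_card' r h1
  obtain ⟨y', hy'⟩ := exists_prime_orderOf_dvd_card' r h2
  rw [← Subgroup.orderOf_coe] at hx' hy'
  have hx1 : x'.1 ≠ 1 := by
    intro h0
    rw [h0, orderOf_one] at hx'
    exact hr.one_lt.ne hx'
  have hy1 : y'.1 ≠ 1 := by
    intro h0
    rw [h0, orderOf_one] at hy'
    exact hr.one_lt.ne hy'
  have hp : ∀ z : Cfsg.Sz F m, orderOf z = r → IsPGroup r (Subgroup.zpowers z) := by
    intro z hz
    apply IsPGroup.of_card (n := 1)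
    rw [Nat.card_zpowers, hz, pow_one]
  obtain ⟨P, hP⟩ := (hp _ hx').exists_le_sylow
  obtain ⟨P', hP'⟩ := (hp _ hy').exists_le_sylow
  obtain ⟨k, hk⟩ := MulAction.exists_smul_eq (Cfsg.Sz F m) P' P
  have hxP : x'.1 ∈ (P : Subgroup (Cfsg.Sz F m)) := hP (Subgroup.mem_zpowers _)
  have hyP : k * y'.1 * k⁻¹ ∈ (P : Subgroup (Cfsg.Sz F m)) := by
    rw [← hk]
    show k * y'.1 * k⁻¹ ∈ (P' : Subgroup (Cfsg.Sz F m)).map (MulAut.conj k).toMonoidHom
    exact Subgroup.mem_map_of_mem _ (hP' (Subgroup.mem_zpowers _))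
  haveI := sylow_cyclic m hr2 P
  letI : CommGroup P := IsCyclic.commGroup
  have hc : Commute (k * y'.1 * k⁻¹) x'.1 :=
    congrArg Subtype.val (mul_comm (⟨_, hyP⟩ : P) ⟨_, hxP⟩)
  have e1 := hx.cen_eq x'.2 hx1
  have hm : k * y'.1 * k⁻¹ ∈ Cen m x := by rw [← e1]; exact mem_Cen.2 hc
  have e2 := hx.cen_eq hm (fun h0 => hy1 (eq_one_of_conj h0))
  refine ⟨k, ?_⟩
  rw [← e2, conj_mem_Cen]
  exact mem_Cen.2 (mem_Cen.1 y'.2).symm

end Cfsg.Agent.Lib.Helper19.Suz
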