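import Mathlib

/-!
# The arithmetic behind the two classes of exceptional tori of the Suzuki groups
-/

set_option autoImplicit false
set_option linter.style.haveILetI false
set_option linter.unusedSimpArgs false
set_option linter.unusedSectionVars false

namespace Cfsg.Agent.Lib.Helper19.Tor

theorem nt_low {Gc c n v : ℕ} (h5 : 5 ≤ v) (hn : n ≤ 4) (hc : c * (n * v) = Gc * (v - 1)) :
    Gc ≤ 5 * c := by
  obtain ⟨t, rfl⟩ : ∃ t, v = t + 1 := ⟨v - 1, by omega⟩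
  simp only [Nat.add_sub_cancel] at hc
  have h1 : c * (n * (t + 1)) ≤ c * (4 * (t + 1)) :=
    Nat.mul_le_mul_left _ (Nat.mul_le_mul_right _ hn)
  have h2 : (4 * (t + 1)) * Gc ≤ (4 * (t + 1)) * (5 * c) := by
    have h3 : 4 * (t + 1) ≤ 5 * t := by omega
    calc (4 * (t + 1)) * Gc ≤ (5 * t) * Gc := Nat.mul_le_mul_right _ h3
      _ = 5 * (Gc * t) := by ring
      _ = 5 * (c * (n * (t + 1))) := by rw [hc]
      _ ≤ 5 * (c * (4 * (t + 1))) := Nat.mul_le_mul_left _ h1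
      _ = _ := by ring
  exact Nat.le_of_mul_le_mul_left h2 (by omega)

theorem nt_low2 {Gc c n v : ℕ} (h5 : 5 ≤ v) (hn : n ≤ 2) (hc : c * (n * v) = Gc * (v - 1)) :
    2 * Gc ≤ 5 * c := by
  obtain ⟨t, rfl⟩ : ∃ t, v = t + 1 := ⟨v - 1, by omega⟩
  simp only [Nat.add_sub_cancel] at hc
  have h1 : c * (n * (t + 1)) ≤ c * (2 * (t + 1)) :=
    Nat.mul_le_mul_left _ (Nat.mul_le_mul_right _ hn)
  have h2 : (2 * (t + 1)) * (2 * Gc) ≤ (2 * (t + 1)) * (5 * c) := by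
    have h3 : 4 * (t + 1) ≤ 5 * t := by omega
    calc (2 * (t + 1)) * (2 * Gc) = (4 * (t + 1)) * Gc := by ring
      _ ≤ (5 * t) * Gc := Nat.mul_le_mul_right _ h3
      _ = 5 * (Gc * t) := by ring
      _ = 5 * (c * (n * (t + 1))) := by rw [hc]
      _ ≤ 5 * (c * (2 * (t + 1))) := Nat.mul_le_mul_left _ h1
      _ = _ := by ring
  exact Nat.le_of_mul_le_mul_left h2 (by omega)

/-- one class is impossible -/
theorem nt_one {d v n c : ℕ} (hd : 7 ≤ d) (h5 : 5 ≤ v)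
    (hn : n = 1 ∨ n = 2 ∨ n = 4)
    (hX : 2 * c = (d + 1) ^ 3 * d ^ 2)
    (hc : c * (n * v) = (d + 1) ^ 2 * ((d + 1) ^ 2 + 1) * d * (v - 1)) : False := by
  obtain ⟨t, rfl⟩ : ∃ t, v = t + 1 := ⟨v - 1, by omega⟩
  simp only [Nat.add_sub_cancel] at hc
  have h1 : ((d + 1) ^ 2 * d) * ((d + 1) * d * (n * (t + 1))) =
      ((d + 1) ^ 2 * d) * (2 * ((d + 1) ^ 2 + 1) * t) := by
    calc ((d + 1) ^ 2 * d) * ((d + 1) * d * (n * (t + 1))) = ((d + 1) ^ 3 * d ^ 2) * (n * (t + 1)) := by ring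
      _ = 2 * (c * (n * (t + 1))) := by rw [← hX]; ring
      _ = _ := by rw [hc]; ring
  have h2 : (d + 1) * d * (n * (t + 1)) = 2 * ((d + 1) ^ 2 + 1) * t :=
    Nat.eq_of_mul_eq_mul_left (by positivity) h1
  rcases hn with rfl | rfl | rfl
  · nlinarith
  · -- (d+1) d (t+1) = ((d+1)^2+1) t  →  (d+2) (t+1) = (d+1)^2+1
    have h3 : (d + 2) * (t + 1) = (d + 1) ^ 2 + 1 := by nlinarith
    have h4 : (d + 2) ∣ (d + 1) ^ 2 + 1 := ⟨_, h3.symm⟩
    have h5 : (d + 1) ^ 2 + 1 = (d + 2) * d + 2 := by ring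
    rw [h5] at h4
    have h6 : (d + 2) ∣ 2 := (Nat.dvd_add_right (Dvd.intro _ rfl)).1 h4
    have := Nat.le_of_dvd (by norm_num) h6
    omega
  · have a : 2 * ((d + 1) ^ 2 + 1) * t ≤ 4 * ((d + 1) * d) * t :=
      Nat.mul_le_mul_right _ (by nlinarith)
    have b : (d + 1) * d * (4 * (t + 1)) = 4 * ((d + 1) * d) * t + 4 * ((d + 1) * d) := by ring
    have c0 : 0 < 4 * ((d + 1) * d) := by
      have : 0 < d := by omega
      positivity
    linarith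

theorem nt_two {m q r0 v w cv cw nv nw : ℕ} (hm : 1 ≤ m) (hq : q = 2 ^ (2 * m + 1))
    (hr0 : r0 = 2 ^ (m + 1)) (h5v : 5 ≤ v) (h5w : 5 ≤ w)
    (hdv : v ∣ q ^ 2 + 1) (hdw : w ∣ q ^ 2 + 1) (hcop : Nat.Coprime v w)
    (hnv : nv = 1 ∨ nv = 2 ∨ nv = 4) (hnw : nw = 1 ∨ nw = 2 ∨ nw = 4)
    (hX : 2 * (cv + cw) = q ^ 3 * (q - 1) ^ 2)
    (hcv : cv * (nv * v) = q ^ 2 * (q ^ 2 + 1) * (q - 1) * (v - 1))
    (hcw : cw * (nw * w) = q ^ 2 * (q ^ 2 + 1) * (q - 1) * (w - 1)) :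
    nv = 4 ∧ nw = 4 ∧ ((v = q + r0 + 1 ∧ w = q - r0 + 1) ∨ (w = q + r0 + 1 ∧ v = q - r0 + 1)) := by
  have hq8 : 8 ≤ q := by
    rw [hq]
    calc 8 = 2 ^ 3 := by norm_num
      _ ≤ 2 ^ (2 * m + 1) := Nat.pow_le_pow_right (by norm_num) (by omega)
  have hr2 : r0 ^ 2 = 2 * q := by
    rw [hr0, hq, ← pow_mul, ← pow_succ']
    congr 1
    ring
  have hodd : ¬ 2 ∣ q ^ 2 + 1 := by
    have : 2 ∣ q ^ 2 := by
      rw [hq, ← pow_mul]
      exact dvd_pow_self 2 (by omega)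
    omega
  obtain ⟨d, rfl⟩ : ∃ d, q = d + 1 := ⟨q - 1, by omega⟩
  simp only [Nat.add_sub_cancel] at hX hcv hcw
  have hd0 : 0 < d := by omega
  obtain ⟨Gc, hGc⟩ : ∃ G, G = (d + 1) ^ 2 * ((d + 1) ^ 2 + 1) * d := ⟨_, rfl⟩
  rw [← hGc] at hcv hcw
  have hGpos : 0 < Gc := by rw [hGc]; positivity
  have hXlt : 2 * (2 * (cv + cw)) < 2 * Gc := by
    rw [hX, hGc]
    have : (d + 1) ^ 3 * d ^ 2 < (d + 1) ^ 2 * ((d + 1) ^ 2 + 1) * d := by
      have e1 : (d + 1) ^ 3 * d ^ 2 = ((d + 1) ^ 2 * d) * ((d + 1) * d) := by ring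
      have e2 : (d + 1) ^ 2 * ((d + 1) ^ 2 + 1) * d = ((d + 1) ^ 2 * d) * ((d + 1) ^ 2 + 1) := by ring
      rw [e1, e2]
      apply Nat.mul_lt_mul_of_pos_left
      · nlinarith
      · positivity
    omega
  have lv := nt_low h5v (by rcases hnv with h | h | h <;> omega) hcv
  have lw := nt_low h5w (by rcases hnw with h | h | h <;> omega) hcw
  have hnv4 : nv = 4 := by
    rcases hnv with h | h | h
    · have := nt_low2 h5v (by omega) hcv; omega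
    · have := nt_low2 h5v (by omega) hcv; omega
    · exact h
  have hnw4 : nw = 4 := by
    rcases hnw with h | h | h
    · have := nt_low2 h5w (by omega) hcw; omega
    · have := nt_low2 h5w (by omega) hcw; omega
    · exact h
  subst hnv4 hnw4
  refine ⟨rfl, rfl, ?_⟩
  obtain ⟨s, rfl⟩ : ∃ s, v = s + 1 := ⟨v - 1, by omega⟩
  obtain ⟨t, rfl⟩ : ∃ t, w = t + 1 := ⟨w - 1, by omega⟩
  simp only [Nat.add_sub_cancel] at hcv hcw
  -- main relation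
  have h1 : ((d + 1) ^ 2 * d) * (2 * ((d + 1) * d) * ((s + 1) * (t + 1))) =
      ((d + 1) ^ 2 * d) * (((d + 1) ^ 2 + 1) * (s * (t + 1) + t * (s + 1))) := by
    have e1 : 4 * (((d + 1) ^ 2 * d) * (2 * ((d + 1) * d) * ((s + 1) * (t + 1)))) =
        4 * (((d + 1) ^ 2 * d) * (((d + 1) ^ 2 + 1) * (s * (t + 1) + t * (s + 1)))) := by
      calc 4 * (((d + 1) ^ 2 * d) * (2 * ((d + 1) * d) * ((s + 1) * (t + 1))))
          = 8 * ((d + 1) ^ 3 * d ^ 2) * ((s + 1) * (t + 1)) := by ring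
        _ = 8 * (2 * (cv + cw)) * ((s + 1) * (t + 1)) := by rw [hX]
        _ = 4 * ((cv * (4 * (s + 1))) * (t + 1) + (cw * (4 * (t + 1))) * (s + 1)) := by ring
        _ = 4 * ((Gc * s) * (t + 1) + (Gc * t) * (s + 1)) := by rw [hcv, hcw]
        _ = _ := by rw [hGc]; ring
    omega
  have h2 : 2 * ((d + 1) * d) * ((s + 1) * (t + 1)) =
      ((d + 1) ^ 2 + 1) * (s * (t + 1) + t * (s + 1)) :=
    Nat.eq_of_mul_eq_mul_left (by positivity) h1
  -- (q²+1)(v+w) = 2vw(q+1)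
  have h3 : ((d + 1) ^ 2 + 1) * ((s + 1) + (t + 1)) = 2 * ((s + 1) * (t + 1)) * (d + 2) := by
    zify at h2 ⊢
    linear_combination h2
  obtain ⟨c, hc⟩ := hcop.mul_dvd_of_dvd_of_dvd hdv hdw
  have h4 : c * ((s + 1) + (t + 1)) = 2 * (d + 2) := by
    rw [hc] at h3
    have : ((s + 1) * (t + 1)) * (c * ((s + 1) + (t + 1))) = ((s + 1) * (t + 1)) * (2 * (d + 2)) := by
      calc ((s + 1) * (t + 1)) * (c * ((s + 1) + (t + 1))) = (s + 1) * (t + 1) * c * ((s + 1) + (t + 1)) := by ring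
        _ = _ := by rw [h3]; ring
    exact Nat.eq_of_mul_eq_mul_left (by positivity) this
  have hc1 : c = 1 := by
    have d1 : c ∣ (d + 1) ^ 2 + 1 := ⟨(s + 1) * (t + 1), by rw [hc]; ring⟩
    have d2 : c ∣ 2 * (d + 2) := ⟨_, h4.symm⟩
    have d3 : c ∣ 4 := by
      have e1 : 2 * ((d + 1) ^ 2 + 1) = (2 * (d + 2)) * d + 4 := by ring
      have d4 : c ∣ (2 * (d + 2)) * d + 4 := by rw [← e1]; exact Dvd.dvd.mul_left d1 2
      exact (Nat.dvd_add_right (Dvd.dvd.mul_right d2 d)).1 d4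
    have hle := Nat.le_of_dvd (by norm_num) d3
    have hpos : 0 < c := Nat.pos_of_dvd_of_pos d3 (by norm_num)
    interval_cases c
    · rfl
    · exact absurd d1 hodd
    · omega
    · exact absurd ((by norm_num : 2 ∣ 4).trans d1) hodd
  subst hc1
  rw [one_mul] at h4
  rw [mul_one] at hc
  have hr0le : r0 ≤ d + 1 := by
    by_contra hlt
    push Not at hlt
    have : (d + 2) ^ 2 ≤ r0 ^ 2 := Nat.pow_le_pow_left hlt 2
    nlinarith
  -- (v - w)^2 = (2 r0)^2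
  have h5 : ((s : ℤ) - t) * ((s : ℤ) - t) = (2 * (r0 : ℤ)) * (2 * (r0 : ℤ)) := by
    have a1 : ((s : ℤ) + 1) + ((t : ℤ) + 1) = 2 * ((d : ℤ) + 2) := by exact_mod_cast h4
    have a2 : ((d : ℤ) + 1) ^ 2 + 1 = ((s : ℤ) + 1) * ((t : ℤ) + 1) := by exact_mod_cast hc
    have a3 : (r0 : ℤ) ^ 2 = 2 * ((d : ℤ) + 1) := by exact_mod_cast hr2
    linear_combination ((s : ℤ) + 1 + ((t : ℤ) + 1) + 2 * ((d : ℤ) + 2)) * a1 + 4 * a2 - 4 * a3
  rcases mul_self_eq_mul_self_iff.1 h5 with h6 | h6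
  · left
    have a1 : ((s : ℤ) + 1) + ((t : ℤ) + 1) = 2 * ((d : ℤ) + 2) := by exact_mod_cast h4
    constructor <;> omega
  · right
    have a1 : ((s : ℤ) + 1) + ((t : ℤ) + 1) = 2 * ((d : ℤ) + 2) := by exact_mod_cast h4
    constructor <;> omega

end Cfsg.Agent.Lib.Helper19.Tor
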