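import Cfsg.Agent.Lib.Helper19.TorC
import Cfsg.Agent.Lib.Helper19.TorN

/-!
# Suzuki groups: the two classes of exceptional tori
-/

set_option autoImplicit false
set_option linter.style.haveILetI false
set_option linter.unusedSimpArgs false
set_option linter.unusedSectionVars false
open scoped Pointwise
open Matrix Polynomial

namespace Cfsg.Agent.Lib.Helper19.Suz

variable {F : Type*} [Field F] [Fintype F] [CharP F 2] (m : ℕ) [Hyp F m]

theorem card_FF : 2 * Nat.card {g : Cfsg.Sz F m // FF m g} +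
    Fintype.card F ^ 2 * (Fintype.card F ^ 2 - 1) = Nat.card (Cfsg.Sz F m) := by
  classical
  haveI : Fintype (Cfsg.suzukiOvoid F m) := Fintype.ofFinite _
  have hc : Fintype.card (Cfsg.suzukiOvoid F m) = Fintype.card F ^ 2 + 1 := by
    rw [← Nat.card_eq_fintype_card, card_ovoid]
  haveI : MulAction.IsPretransitive (Cfsg.Sz F m) (Cfsg.suzukiOvoid F m) := ⟨by
    intro a b
    obtain ⟨g, hg⟩ := exists_smul_eq_Pinf m a.2
    obtain ⟨k, hk⟩ := exists_smul_eq_Pinf m b.2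
    refine ⟨k⁻¹ * g, Subtype.ext ?_⟩
    show (k⁻¹ * g) • (a : PP F) = b
    rw [mul_smul, hg, inv_smul_eq_iff, hk]⟩
  have h := Tor.count_ff (Cfsg.Sz F m) (Cfsg.suzukiOvoid F m) (isZassenhaus m).2.1
    (by rw [hc]; have := card_ge (F := F) m; nlinarith) (by
    intro g hg
    by_contra hlt
    push Not at hlt
    obtain ⟨a, b, c, hab, hac, hbc⟩ := Fintype.two_lt_card_iff.1 hlt
    apply hg
    exact (isZassenhaus m).2.2.1 g a.1 b.1 c.1 (fun h => hab (Subtype.ext h))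
      (fun h => hbc (Subtype.ext h)) (fun h => hac (Subtype.ext h)) a.2 b.2 c.2)
  rw [hc] at h
  simp only [Nat.add_sub_cancel] at h
  have e0 : Fintype.card F ^ 2 + 1 - 2 = Fintype.card F ^ 2 - 1 := by omega
  rw [e0] at h
  rw [Nat.card_eq_fintype_card, Nat.card_eq_fintype_card, Fintype.card_subtype, ← h]
  congr 3
  ext g
  simp only [Finset.mem_filter, Finset.mem_univ, true_and]
  rw [Fintype.card_eq_zero_iff]
  constructor
  · intro hg
    exact ⟨fun p => hg p.1.1 p.1.2 (congrArg Subtype.val p.2)⟩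
  · intro hg p hp hfix
    exact hg.false ⟨⟨p, hp⟩, Subtype.ext hfix⟩

theorem card_FF' : 2 * Nat.card {g : Cfsg.Sz F m // FF m g} =
    Fintype.card F ^ 3 * (Fintype.card F - 1) ^ 2 := by
  have h := card_FF (F := F) m
  rw [card_G] at h
  have hq := card_ge (F := F) m
  obtain ⟨d, hd⟩ : ∃ d, Fintype.card F = d + 1 := ⟨Fintype.card F - 1, by omega⟩
  rw [hd] at h ⊢
  simp only [Nat.add_sub_cancel] at h ⊢
  have e : (d + 1) ^ 2 - 1 = d * (d + 2) := by
    have : (d + 1) ^ 2 = d * (d + 2) + 1 := by ring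
    omega
  rw [e] at h
  have e2 : (d + 1) ^ 2 * ((d + 1) ^ 2 + 1) * d = (d + 1) ^ 3 * d ^ 2 + (d + 1) ^ 2 * (d * (d + 2)) := by
    ring
  omega

variable {m}

theorem FF.class_eq {x : Cfsg.Sz F m} (hx : FF m x) :
    Nat.card {y : Cfsg.Sz F m // FF m y ∧ Nat.card (Cen m y) = Nat.card (Cen m x)} *
      Nat.card (Nor x) = Nat.card (Cfsg.Sz F m) * (Nat.card (Cen m x) - 1) := by
  rw [← Tor.count_conj (Cen m x) hx.ti]
  congr 1
  apply Nat.card_congr
  apply Equiv.subtypeEquivRight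
  intro y
  constructor
  · rintro ⟨hy, hc⟩
    refine ⟨hy.ne_one, ?_⟩
    obtain ⟨r, hr, hd⟩ := Nat.exists_prime_and_dvd (n := Nat.card (Cen m x))
      (by have := hx.five_le; omega)
    exact hx.exists_conj hy hr hd (hc ▸ hd)
  · rintro ⟨hy1, k, hk⟩
    have := hx.of_conj_mem hy1 hk
    exact ⟨this.1, this.2.1⟩

theorem not_three_dvd_card : ¬ 3 ∣ Nat.card (Cfsg.Sz F m) := by
  rw [card_G]
  intro h
  have h3 : Nat.Prime 3 := by norm_num
  have hq : Fintype.card F % 3 = 2 := by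
    rw [Hyp.hF (F := F) (m := m), pow_succ, pow_mul, Nat.mul_mod, Nat.pow_mod]
    norm_num
  rcases (h3.dvd_mul).1 h with h | h
  · rcases (h3.dvd_mul).1 h with h | h
    · have := h3.dvd_of_dvd_pow h
      omega
    · exact not_three_dvd m h
  · have := card_ge (F := F) m
    omega

theorem FF.exists_n {x : Cfsg.Sz F m} (hx : FF m x) :
    ∃ n : ℕ, (n = 1 ∨ n = 2 ∨ n = 4) ∧ Nat.card (Nor x) = n * Nat.card (Cen m x) := by
  have hle : Cen m x ≤ Nor x := Subgroup.le_normalizer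
  obtain ⟨n, hn⟩ := Subgroup.card_dvd_of_le hle
  have h5 := hx.five_le
  have h4 := hx.norm_le
  rw [hn] at h4
  have hn4 : n ≤ 4 := Nat.le_of_mul_le_mul_left h4 (by omega)
  have hn0 : n ≠ 0 := by
    rintro rfl
    rw [mul_zero] at hn
    exact (Nat.card_pos (α := Nor x)).ne' hn
  have hn3 : n ≠ 3 := by
    rintro rfl
    apply not_three_dvd_card (F := F) (m := m)
    exact (Dvd.intro_left _ hn.symm).trans (Subgroup.card_subgroup_dvd_card (Nor x))
  refine ⟨n, by omega, by rw [hn, mul_comm]⟩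

theorem FF.coprime {x y : Cfsg.Sz F m} (hx : FF m x) (hy : FF m y)
    (hne : Nat.card (Cen m x) ≠ Nat.card (Cen m y)) :
    Nat.Coprime (Nat.card (Cen m x)) (Nat.card (Cen m y)) := by
  apply Nat.coprime_of_dvd
  intro r hr h1 h2
  obtain ⟨k, hk⟩ := hx.exists_conj hy hr h1 h2
  exact hne (hx.of_conj_mem hy.ne_one hk).2.1.symm

variable (m) in
theorem tori_main :
    (∀ x : Cfsg.Sz F m, FF m x →
      (Nat.card (Cen m x) = Fintype.card F + 2 ^ (m + 1) + 1 ∨
        Nat.card (Cen m x) = Fintype.card F - 2 ^ (m + 1) + 1) ∧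
      Nat.card (Nor x) = 4 * Nat.card (Cen m x)) ∧
    (∃ x : Cfsg.Sz F m, FF m x ∧ Nat.card (Cen m x) = Fintype.card F + 2 ^ (m + 1) + 1) ∧
    (∃ x : Cfsg.Sz F m, FF m x ∧ Nat.card (Cen m x) = Fintype.card F - 2 ^ (m + 1) + 1) := by
  classical
  set q := Fintype.card F with hq
  have hq8 : 8 ≤ q := card_ge (F := F) m
  set X : Finset (Cfsg.Sz F m) := Finset.univ.filter (fun x => FF m x) with hX
  let a : Cfsg.Sz F m → ℕ := fun x => Nat.card (Cen m x)
  set I : Finset ℕ := X.image a with hI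
  let c : ℕ → ℕ := fun v => (X.filter (fun x => a x = v)).card
  have hXc : X.card = Nat.card {g : Cfsg.Sz F m // FF m g} := by
    rw [Nat.card_eq_fintype_card, Fintype.card_subtype]
  have h2X : 2 * X.card = q ^ 3 * (q - 1) ^ 2 := by rw [hXc]; exact card_FF' m
  have hsum : X.card = ∑ v ∈ I, c v := Finset.card_eq_sum_card_image a X
  have memX : ∀ x, x ∈ X ↔ FF m x := by intro x; simp [hX]
  have hcv : ∀ x, FF m x → c (a x) = Nat.card {y : Cfsg.Sz F m // FF m y ∧
      Nat.card (Cen m y) = Nat.card (Cen m x)} := by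
    intro x _
    rw [Nat.card_eq_fintype_card, Fintype.card_subtype]
    show (X.filter (fun y => a y = a x)).card = _
    rw [hX, Finset.filter_filter]
  have hex : ∀ v, ∃ n : ℕ, v ∈ I → (n = 1 ∨ n = 2 ∨ n = 4) ∧
      c v * (n * v) = q ^ 2 * (q ^ 2 + 1) * (q - 1) * (v - 1) ∧
      ∀ x, FF m x → a x = v → Nat.card (Nor x) = n * v := by
    intro v
    by_cases hv : v ∈ I
    · obtain ⟨x, hx, rfl⟩ := Finset.mem_image.1 hv
      have hx' := (memX x).1 hx
      obtain ⟨n, hn, hN⟩ := hx'.exists_n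
      refine ⟨n, fun _ => ⟨hn, ?_, ?_⟩⟩
      · have := hx'.class_eq
        rw [← hcv x hx', hN, card_G] at this
        exact this
      · intro y hy hya
        obtain ⟨r, hr, hd⟩ := Nat.exists_prime_and_dvd (n := Nat.card (Cen m x))
          (by have := hx'.five_le; omega)
        obtain ⟨k, hk⟩ := hx'.exists_conj hy hr hd (by
          have : Nat.card (Cen m y) = Nat.card (Cen m x) := hya
          rw [this]; exact hd)
        rw [(hx'.of_conj_mem hy.ne_one hk).2.2, hN]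
    · exact ⟨0, fun h => absurd h hv⟩
  choose n hn using hex
  have h5 : ∀ v ∈ I, 5 ≤ v := by
    intro v hv
    obtain ⟨x, hx, rfl⟩ := Finset.mem_image.1 hv
    exact ((memX x).1 hx).five_le
  have hdv : ∀ v ∈ I, v ∣ q ^ 2 + 1 := by
    intro v hv
    obtain ⟨x, hx, rfl⟩ := Finset.mem_image.1 hv
    exact ((memX x).1 hx).card_dvd
  have hcop : ∀ v ∈ I, ∀ w ∈ I, v ≠ w → Nat.Coprime v w := by
    intro v hv w hw hne
    obtain ⟨x, hx, rfl⟩ := Finset.mem_image.1 hv
    obtain ⟨y, hy, rfl⟩ := Finset.mem_image.1 hw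
    exact ((memX x).1 hx).coprime ((memX y).1 hy) hne
  obtain ⟨Gc, hGc⟩ : ∃ G, G = q ^ 2 * (q ^ 2 + 1) * (q - 1) := ⟨_, rfl⟩
  have hGpos : 0 < Gc := by
    rw [hGc]
    have : 0 < q - 1 := by omega
    positivity
  have hlt : 2 * (2 * X.card) < 2 * Gc := by
    rw [h2X, hGc]
    obtain ⟨d, hd⟩ : ∃ d, q = d + 1 := ⟨q - 1, by omega⟩
    rw [hd]
    simp only [Nat.add_sub_cancel]
    have hd0 : 0 < d := by omega
    have : (d + 1) ^ 3 * d ^ 2 < (d + 1) ^ 2 * ((d + 1) ^ 2 + 1) * d := by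
      have e1 : (d + 1) ^ 3 * d ^ 2 = ((d + 1) ^ 2 * d) * ((d + 1) * d) := by ring
      have e2 : (d + 1) ^ 2 * ((d + 1) ^ 2 + 1) * d = ((d + 1) ^ 2 * d) * ((d + 1) ^ 2 + 1) := by ring
      rw [e1, e2]
      apply Nat.mul_lt_mul_of_pos_left
      · nlinarith
      · positivity
    omega
  have hIle : I.card ≤ 2 := by
    have h1 : I.card • Gc ≤ ∑ v ∈ I, 5 * c v := by
      apply Finset.card_nsmul_le_sum
      intro v hv
      obtain ⟨h1, h2, -⟩ := hn v hv
      rw [← hGc] at h2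
      exact Tor.nt_low (h5 v hv) (by rcases h1 with h | h | h <;> omega) h2
    rw [← Finset.mul_sum, ← hsum, smul_eq_mul] at h1
    by_contra hgt
    push Not at hgt
    have : 3 * Gc ≤ I.card * Gc := Nat.mul_le_mul_right _ hgt
    omega
  have hI0 : I.card ≠ 0 := by
    intro h0
    rw [Finset.card_eq_zero] at h0
    rw [h0, Finset.sum_empty] at hsum
    rw [hsum] at h2X
    have : 0 < q ^ 3 * (q - 1) ^ 2 := by
      have : 0 < q - 1 := by omega
      positivity
    omega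
  have hI2 : I.card = 2 := by
    by_contra hne
    have h1 : I.card = 1 := by omega
    obtain ⟨v, hv⟩ := Finset.card_eq_one.1 h1
    have hvI : v ∈ I := by rw [hv]; exact Finset.mem_singleton_self v
    rw [hv, Finset.sum_singleton] at hsum
    obtain ⟨h1, h2, -⟩ := hn v hvI
    obtain ⟨d, hd⟩ : ∃ d, q = d + 1 := ⟨q - 1, by omega⟩
    rw [hd] at h2 h2X
    simp only [Nat.add_sub_cancel] at h2 h2X
    rw [hsum] at h2X
    exact Tor.nt_one (by omega) (h5 v hvI) h1 h2X h2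
  obtain ⟨v, w, hvw, hIvw⟩ := Finset.card_eq_two.1 hI2
  have hvI : v ∈ I := by rw [hIvw]; simp
  have hwI : w ∈ I := by rw [hIvw]; simp
  rw [hIvw, Finset.sum_pair hvw] at hsum
  rw [hsum] at h2X
  obtain ⟨hv1, hv2, hv3⟩ := hn v hvI
  obtain ⟨hw1, hw2, hw3⟩ := hn w hwI
  obtain ⟨e1, e2, e3⟩ := Tor.nt_two (m := m) (q := q) (r0 := 2 ^ (m + 1)) (Hyp.hm F)
    (Hyp.hF (F := F) (m := m)) rfl (h5 v hvI) (h5 w hwI) (hdv v hvI) (hdv w hwI)
    (hcop v hvI w hwI hvw) hv1 hw1 h2X hv2 hw2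
  have hall : ∀ x, FF m x → a x = v ∨ a x = w := by
    intro x hx
    have : a x ∈ I := Finset.mem_image_of_mem a ((memX x).2 hx)
    rw [hIvw] at this
    simpa using this
  obtain ⟨xv, hxv, hav⟩ := Finset.mem_image.1 hvI
  obtain ⟨xw, hxw, haw⟩ := Finset.mem_image.1 hwI
  rw [memX] at hxv hxw
  refine ⟨?_, ?_, ?_⟩
  · intro x hx
    rcases hall x hx with h | h
    · refine ⟨?_, ?_⟩
      · show a x = _ ∨ a x = _
        rcases e3 with ⟨e4, -⟩ | ⟨-, e4⟩
        · left; rw [h, e4]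
        · right; rw [h, e4]
      · rw [hv3 x hx h, e1]
        show 4 * v = 4 * a x
        rw [h]
    · refine ⟨?_, ?_⟩
      · show a x = _ ∨ a x = _
        rcases e3 with ⟨-, e4⟩ | ⟨e4, -⟩
        · right; rw [h, e4]
        · left; rw [h, e4]
      · rw [hw3 x hx h, e2]
        show 4 * w = 4 * a x
        rw [h]
  · rcases e3 with ⟨e4, -⟩ | ⟨e4, -⟩
    · exact ⟨xv, hxv, hav.trans e4⟩
    · exact ⟨xw, hxw, haw.trans e4⟩
  · rcases e3 with ⟨-, e4⟩ | ⟨-, e4⟩
    · exact ⟨xw, hxw, haw.trans e4⟩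
    · exact ⟨xv, hxv, hav.trans e4⟩

end Cfsg.Agent.Lib.Helper19.Suz
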