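import Cfsg.Agent.Lib.Helper19.TorD
import Cfsg.Agent.Lib.Helper19.SuzV

/-!
# Suzuki groups: the three types of non-identity elements
-/

set_option autoImplicit false
set_option linter.style.haveILetI false
set_option linter.unusedSimpArgs false
set_option linter.unusedSectionVars false
open scoped Pointwise
open Matrix Polynomial

namespace Cfsg.Agent.Lib.Helper19.Suz

theorem eq_one_of_coprime_pow {G : Type*} [Group G] {g : G} {a b : ℕ} (h : Nat.Coprime a b)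
    (ha : g ^ a = 1) (hb : g ^ b = 1) : g = 1 := by
  have h1 := Nat.dvd_gcd (orderOf_dvd_of_pow_eq_one ha) (orderOf_dvd_of_pow_eq_one hb)
  rw [h] at h1
  exact orderOf_eq_one_iff.1 (Nat.dvd_one.1 h1)

theorem pow_card_of_mem {G : Type*} [Group G] {U : Subgroup G} {g : G} (hg : g ∈ U) :
    g ^ Nat.card U = 1 := by
  have := pow_card_eq_one' (G := U) (x := ⟨g, hg⟩)
  exact congrArg Subtype.val this

theorem pow_of_dvd {G : Type*} [Group G] {g : G} {a b : ℕ} (h : a ∣ b) (ha : g ^ a = 1) :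
    g ^ b = 1 := by
  obtain ⟨c, rfl⟩ := h
  rw [pow_mul, ha, one_pow]

theorem le_cen_of_cyclic {G : Type*} [Group G] {U : Subgroup G} [IsCyclic U] {g : G} (hg : g ∈ U) :
    U ≤ Subgroup.centralizer ({g} : Set G) := by
  letI : CommGroup U := IsCyclic.commGroup
  intro c hc
  rw [Subgroup.mem_centralizer_iff]
  intro a ha
  rw [Set.mem_singleton_iff.mp ha]
  exact congrArg Subtype.val (mul_comm (⟨g, hg⟩ : U) ⟨c, hc⟩)

variable {F : Type*} [Field F] [Fintype F] [CharP F 2] (m : ℕ) [Hyp F m]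

include m in
theorem cop_a : Nat.Coprime (Fintype.card F - 1) (Fintype.card F ^ 2 + 1) := by
  have hq := card_ge (F := F) m
  have hodd := not_two_dvd (F := F) m
  obtain ⟨d, hd⟩ : ∃ d, Fintype.card F = d + 1 := ⟨Fintype.card F - 1, by omega⟩
  rw [hd] at hodd ⊢
  simp only [Nat.add_sub_cancel]
  apply Nat.coprime_of_dvd
  intro r hr h1 h2
  have e1 : (d + 1) ^ 2 + 1 = d * (d + 2) + 2 := by ring
  have h3 := h2
  rw [e1] at h3
  have h7 : r ∣ 2 := (Nat.dvd_add_right (Dvd.dvd.mul_right h1 _)).1 h3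
  have : r = 2 := (Nat.prime_dvd_prime_iff_eq hr Nat.prime_two).mp h7
  subst this
  exact hodd h2

include m in
theorem odd_pred : ¬ 2 ∣ Fintype.card F - 1 := by
  have hq := card_ge (F := F) m
  have : 2 ∣ Fintype.card F := by
    rw [Hyp.hF (F := F) (m := m)]
    exact dvd_pow_self 2 (by omega)
  omega

theorem cop_of_odd {n : ℕ} (h : ¬ 2 ∣ n) (k : ℕ) : Nat.Coprime (2 ^ k) n := by
  apply Nat.Coprime.pow_left
  rw [Nat.coprime_two_left]
  exact Nat.odd_iff.2 (by omega)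

include m in
theorem tor_mul : (Fintype.card F + 2 ^ (m + 1) + 1) * (Fintype.card F - 2 ^ (m + 1) + 1) =
    Fintype.card F ^ 2 + 1 := by
  have hr2 : (2 ^ (m + 1)) ^ 2 = 2 * Fintype.card F := by
    rw [Hyp.hF (F := F) (m := m), ← pow_mul, ← pow_succ']
    congr 1
    ring
  have hle : 2 ^ (m + 1) ≤ Fintype.card F := by
    rw [Hyp.hF (F := F) (m := m)]
    exact Nat.pow_le_pow_right (by norm_num) (by omega)
  obtain ⟨e, he⟩ : ∃ e, Fintype.card F = 2 ^ (m + 1) + e := ⟨_, (Nat.add_sub_cancel' hle).symm⟩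
  generalize 2 ^ (m + 1) = r0 at *
  rw [he] at hr2 ⊢
  simp only [Nat.add_sub_cancel_left]
  nlinarith

theorem sylow_ti (P P' : Sylow 2 (Cfsg.Sz F m)) {g : Cfsg.Sz F m} (hg1 : g ≠ 1)
    (h : g ∈ (P : Subgroup (Cfsg.Sz F m))) (h' : g ∈ (P' : Subgroup (Cfsg.Sz F m))) : P = P' := by
  obtain ⟨k, hk⟩ := exists_conj_QS m P
  obtain ⟨k', hk'⟩ := exists_conj_QS m P'
  rw [hk] at h
  rw [hk'] at h'
  obtain ⟨x, hx, e⟩ := Subgroup.mem_map.1 h
  obtain ⟨x', hx', e'⟩ := Subgroup.mem_map.1 h'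
  have e1 : k * x * k⁻¹ = g := e
  have e2 : k' * x' * k'⁻¹ = g := e'
  have hx1 : x ≠ 1 := by
    rintro rfl
    apply hg1
    rw [← e1]; group
  have hb : k'⁻¹ * k ∈ Bor (F := F) m := by
    rw [mem_Bor_iff_conj m hx hx1]
    have : k'⁻¹ * k * x * (k'⁻¹ * k)⁻¹ = x' := by
      calc k'⁻¹ * k * x * (k'⁻¹ * k)⁻¹ = k'⁻¹ * (k * x * k⁻¹) * k' := by group
        _ = k'⁻¹ * (k' * x' * k'⁻¹) * k' := by rw [e1, e2]
        _ = x' := by group
    rw [this]; exact hx'
  rw [← normalizer_Q, Subgroup.mem_normalizer_iff_map_conj_eq] at hb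
  apply Sylow.ext
  rw [hk, hk']
  conv_rhs => rw [← hb]
  rw [Subgroup.map_map]
  congr 1
  apply MonoidHom.ext
  intro y
  show k * y * k⁻¹ = k' * (k'⁻¹ * k * y * (k'⁻¹ * k)⁻¹) * k'⁻¹
  group

theorem sylow_pow_four (P : Sylow 2 (Cfsg.Sz F m)) {g : Cfsg.Sz F m}
    (h : g ∈ (P : Subgroup (Cfsg.Sz F m))) : g ^ 4 = 1 := by
  obtain ⟨k, hk⟩ := exists_conj_QS m P
  rw [hk] at h
  obtain ⟨x, ⟨a, b, rfl⟩, e⟩ := Subgroup.mem_map.1 h
  have e1 : k * tG m a b * k⁻¹ = g := e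
  rw [← e1, conj_pow, tG_pow_four]; group

theorem exists_sylow_of_conj {g k : Cfsg.Sz F m} {a b : F} (e : k * g * k⁻¹ = tG m a b) :
    ∃ P : Sylow 2 (Cfsg.Sz F m), g ∈ (P : Subgroup (Cfsg.Sz F m)) := by
  haveI : Fact (Nat.Prime 2) := ⟨Nat.prime_two⟩
  refine ⟨k⁻¹ • QS m, ?_⟩
  show g ∈ (Q (F := F) m).map (MulAut.conj k⁻¹).toMonoidHom
  refine Subgroup.mem_map.2 ⟨tG m a b, ⟨a, b, rfl⟩, ?_⟩
  show k⁻¹ * tG m a b * k⁻¹⁻¹ = g
  rw [← e]; group

theorem cen_d {u : Fˣ} (hu : u ≠ 1) : Cen m (dG m u) = (dHom (F := F) m).range := by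
  ext c
  rw [mem_Cen]
  constructor
  · intro hc
    obtain ⟨v, hv⟩ := comm_d m hu hc
    exact ⟨v, hv.symm⟩
  · rintro ⟨v, rfl⟩
    show dG m v * dG m u = dG m u * dG m v
    rw [dG_mul, dG_mul, mul_comm]

theorem card_D : Nat.card (dHom (F := F) m).range = Fintype.card F - 1 := by
  classical
  rw [← Nat.card_congr (MonoidHom.ofInjective (dHom_injective (F := F) m)).toEquiv,
    Nat.card_eq_fintype_card, Fintype.card_units]

theorem type_d {g k : Cfsg.Sz F m} {u : Fˣ} (hu : u ≠ 1) (e : k * g * k⁻¹ = dG m u) :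
    IsCyclic (Cen m g) ∧ Nat.card (Cen m g) = Fintype.card F - 1 := by
  constructor
  · haveI : IsCyclic (dHom (F := F) m).range :=
      isCyclic_of_surjective (dHom (F := F) m).rangeRestrict (dHom (F := F) m).rangeRestrict_surjective
    have h1 : (Cen m g).map (MulAut.conj k).toMonoidHom = (dHom (F := F) m).range := by
      rw [← Cen_conj, e, cen_d m hu]
    haveI : IsCyclic ((Cen m g).map (MulAut.conj k).toMonoidHom) := by rw [h1]; infer_instance
    exact isCyclic_of_injective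
      ((Cen m g).equivMapOfInjective (MulAut.conj k).toMonoidHom (MulAut.conj k).injective).toMonoidHom
      (MulEquiv.injective _)
  · rw [← card_Cen_conj k g, e, cen_d m hu, card_D]

theorem pow_of_conj_d {g k : Cfsg.Sz F m} {u : Fˣ} (e : k * g * k⁻¹ = dG m u) :
    g ^ (Fintype.card F - 1) = 1 := by
  have h4 : (k * g * k⁻¹) ^ (Fintype.card F - 1) = 1 := by rw [e, dG_pow_card]
  rw [conj_pow] at h4
  exact eq_one_of_conj h4

theorem pow_of_conj_t {g k : Cfsg.Sz F m} {a b : F} (e : k * g * k⁻¹ = tG m a b) :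
    g ^ 4 = 1 := by
  have h4 : (k * g * k⁻¹) ^ 4 = 1 := by rw [e, tG_pow_four]
  rw [conj_pow] at h4
  exact eq_one_of_conj h4

variable {m}

theorem FF.pow {g : Cfsg.Sz F m} (h : FF m g) : g ^ (Fintype.card F ^ 2 + 1) = 1 :=
  pow_of_dvd h.card_dvd (pow_card_of_mem (self_mem_Cen g))

end Cfsg.Agent.Lib.Helper19.Suz
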